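import Cfsg.Agent.Lib.SuzukiCyclic.Defs
import Cfsg.Agent.Lib.SL2Module.Baumann
import Cfsg.Agent.Lib.Invol.SelfNormalizingPSL
import Cfsg.Agent.Lib.PushRankOne.Sect
import Cfsg.Agent.S0144

/-!
# `PSL₂(q)`, `q` odd, with cyclic Sylow subgroups for odd primes: `q` is a prime
-/

set_option autoImplicit false

namespace CfsgLib.SuzukiCyclic

open CfsgLib.SL2

universe u

/-- A simple group isomorphic to `PSL₂(F)`, `|F|` odd, all of whose odd Sylow subgroups are cyclic
is `PSL₂(p)` for a prime `p ≥ 5`. -/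
theorem simpleConcl_of_psl {G : Type u} [Group G] [Finite G] [IsSimpleGroup G]
    (hna : ¬ IsMulCommutative G) (h : OddCyclic G) {F : Type} [Field F] [Fintype F]
    (hF : Odd (Fintype.card F)) (e : G ≃* Matrix.ProjectiveSpecialLinearGroup (Fin 2) F) :
    SimpleConcl G := by
  classical
  obtain ⟨p, hp⟩ := CharP.exists F
  haveI := hp
  haveI : Fact p.Prime := ⟨CharP.char_is_prime F p⟩
  obtain ⟨n, hpp, hn⟩ := FiniteField.card F p
  have hp2 : p ≠ 2 := by
    intro e2
    rw [hn, e2] at hF
    exact absurd hF (Nat.not_odd_iff_even.2 ((Nat.even_pow' n.ne_zero).2 even_two))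
  obtain ⟨P, hP⟩ := exists_sylow_eq_upperPSL (F := F) p
  -- the unipotent subgroup is a cyclic group of exponent `p`
  set Q : Sylow p G := P.comapOfInjective e.toMonoidHom e.injective
    (fun y _ => e.surjective y) with hQ
  haveI hcyc : IsCyclic Q := h p hpp hp2 Q
  obtain ⟨g, hg⟩ := IsCyclic.exists_generator (α := Q)
  have hgp : g ^ p = 1 := by
    apply Subtype.ext
    apply e.injective
    have hm : e (g : G) ∈ upperPSL F := hP ▸ (show e (g : G) ∈ (P : Subgroup _) from g.2)
    rw [SubgroupClass.coe_pow, map_pow, SL2Module.Baumann.upper_pow (p := p) hm, OneMemClass.coe_one,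
      map_one]
  have hcQ : Nat.card Q = Fintype.card F := by
    rw [Q.card_eq_multiplicity, Nat.card_congr e.toEquiv, ← P.card_eq_multiplicity, hP,
      PushRankOne.card_upperPSL, Nat.card_eq_fintype_card]
  have hqp : Fintype.card F = p := by
    have hd : Nat.card Q ∣ p := by
      rw [← orderOf_eq_card_of_forall_mem_zpowers hg]
      exact orderOf_dvd_of_pow_eq_one hgp
    rcases (Nat.dvd_prime hpp).1 hd with e1 | e1
    · rw [hcQ] at e1
      exact absurd e1 Fintype.one_lt_card.ne'
    · rwa [hcQ] at e1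
  refine ⟨p, inferInstance, ?_, ?_⟩
  · have h3 : p ≠ 3 := by
      intro e3
      have hsol : Group.IsSolvable G :=
        Cfsg.Agent.S0144.result 2 3 2 1 Nat.prime_two Nat.prime_three (by
          have hc := CfsgLib.SL2.card_PSL (F := F)
          rw [Nat.card_eq_fintype_card (α := F), hqp, e3, ← Nat.card_congr e.toEquiv] at hc
          norm_num at hc
          omega)
      exact hna ⟨⟨fun a b => IsSimpleGroup.comm_iff_isSolvable.mpr hsol a b⟩⟩
    have h4 : p ≠ 4 := fun e4 => by rw [e4] at hpp; norm_num at hpp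
    have := hpp.two_le
    omega
  · obtain ⟨e'⟩ := Invol.SelfNorm.psl_equiv_of_card (K := F) (F := ZMod p)
      (by rw [Nat.card_eq_fintype_card, hqp, Nat.card_zmod])
    exact ⟨e.trans e'⟩

end CfsgLib.SuzukiCyclic
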