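import Cfsg.Agent.Lib.SuzukiCyclic.DihedralFour
import Cfsg.Agent.Lib.SuzukiCyclic.PSLPrime
import Cfsg.Agent.Lib.DGroup.HcOne
import Cfsg.Agent.S0508

/-!
# No reflection centralises an element of the odd core: `G` is `PSL₂(p)`
-/

set_option autoImplicit false
set_option linter.unusedSectionVars false
set_option linter.style.haveILetI false

namespace CfsgLib.SuzukiCyclic

open Cfsg CfsgLib.Invol
open CfsgLib.DihBlock (Data)

universe u

variable {G : Type u} [Group G] [Finite G]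

theorem simple_free [IsSimpleGroup G] (hna : ¬ IsMulCommutative G) (h : OddCyclic G)
    {P : Sylow 2 G} {σ τ : G} {m : ℕ} {U : Subgroup G} (D : Data P σ τ m) (c : Core P (σ ^ m) U)
    (hone : ∀ x y : G, orderOf x = 2 → orderOf y = 2 → IsConj x y)
    (eP : Nonempty ((P : Subgroup G) ≃* DihedralGroup (2 * m)))
    (hfree : ∀ i : ℕ, ∀ a ∈ U, Commute a (σ ^ i * τ) → a = 1) : SimpleConcl G := by
  classical
  haveI := Fact.mk Nat.prime_two
  haveI := c.cyclic
  have hm2 := DihBlock.two_le D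
  set t := σ ^ m with htdef
  have hto : orderOf t = 2 := DihBlock.orderOf_z D
  have hinv : ∀ i : ℕ, ∀ a ∈ U, σ ^ i * τ * a * (σ ^ i * τ)⁻¹ = a⁻¹ := fun i =>
    DGroup.inverts_fpf (DihBlock.orderOf_refl D i)
      (fun a ha => sylow_norm D c (DihBlock.refl_mem D i) ha) (hfree i)
  have hτinv : ∀ a ∈ U, τ * a * τ⁻¹ = a⁻¹ := fun a ha => by simpa using hinv 0 a ha
  have hσcom : ∀ a ∈ U, Commute a σ := by
    intro a ha
    refine (mul_inv_eq_iff_eq_mul.1 ?_).symm
    have e := hinv 1 a⁻¹ (inv_mem ha)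
    rw [pow_one, inv_inv] at e
    rw [show σ * a * σ⁻¹ = σ * τ * (τ⁻¹ * a * τ) * (σ * τ)⁻¹ by group]
    have e2 : τ⁻¹ * a * τ = a⁻¹ := by
      have h1 := hτinv a⁻¹ (inv_mem ha)
      rw [inv_inv] at h1
      calc τ⁻¹ * a * τ = τ⁻¹ * (τ * a⁻¹ * τ⁻¹) * τ := by rw [h1]
        _ = a⁻¹ := by group
    rw [e2, e]
  obtain ⟨k, hk0, hk⟩ := D.pow_two
  have hruniq : ∀ y ∈ Subgroup.zpowers σ, y * y = 1 → y = 1 ∨ y = t := fun y hy hyy => by
    by_cases h1 : y = 1
    · exact Or.inl h1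
    · exact Or.inr (DihBlock.eq_z_of_sq D hy hyy h1)
  have hτne : τ ≠ t := fun e => DihBlock.tau_not_mem D (e ▸ pow_mem (Subgroup.mem_zpowers σ) m)
  have hdec : ∀ g : G, Commute g t → ∃ o ∈ U, ∃ i : ℤ, g = o * σ ^ i ∨ g = o * σ ^ i * τ := by
    intro g hg
    obtain ⟨o, ho, s, hs, rfl⟩ := c.decomp g hg
    obtain ⟨i, rfl | rfl⟩ := D.cases s hs
    · exact ⟨o, ho, i, Or.inl (by rw [zpow_natCast])⟩
    · exact ⟨o, ho, i, Or.inr (by rw [zpow_natCast, mul_assoc])⟩
  obtain ⟨A, hA⟩ := DGroup.dihData_mk (v := t) (r := σ) (x := τ) (O := U) (l := k + 1)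
    (pow_mem (Subgroup.mem_zpowers σ) m) (Commute.self_pow σ m) (sylow_comm_t D c D.memτ)
    (fun a ha => ⟨c.odd_orderOf ha, c.comm_t a ha⟩)
    (fun a ha b hb => congrArg Subtype.val (mul_comm' (⟨a, ha⟩ : U) ⟨b, hb⟩))
    hσcom hτinv D.rel D.sqτ (DihBlock.tau_ne_one D) hτne
    (by rw [D.ordσ, hk]; ring) hruniq hdec
  have hcent : DGroup.DihCent G := DGroup.dihCent_of_reps fun v hv =>
    ⟨t, A, τ, hone t v hto hv, hA⟩
  have hcore : oddCore G = ⊥ := by
    have hodd : Odd (Nat.card (oddCore G)) :=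
      Nat.coprime_two_right.1 (Transfer.pPrimeCore_coprime 2)
    rcases (inferInstance : (oddCore G).Normal).eq_bot_or_eq_top with e | e
    · exact e
    · rw [e, Subgroup.card_top] at hodd
      exact absurd (hto ▸ orderOf_dvd_natCard t) hodd.not_two_dvd_nat
  have hOne : DGroup.OneClass G :=
    ⟨hcore, hcent, hone, fun S => ⟨2 * m, by omega,
      ⟨((S.equiv P).trans eP.some)⟩⟩⟩
  set C := Subgroup.centralizer ({t} : Set G) with hC
  set O := (oddCore ↥C).map C.subtype with hO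
  have hOU : ∀ y ∈ O, Odd (orderOf y) ∧ Commute y t := by
    rintro _ ⟨y, hy, rfl⟩
    refine ⟨?_, Subgroup.mem_centralizer_singleton_iff.1 y.2⟩
    rw [Subgroup.coe_subtype, Subgroup.orderOf_coe]
    exact (Nat.coprime_two_right.1 (Transfer.pPrimeCore_coprime 2)).of_dvd_nat
      (Subgroup.orderOf_dvd_natCard _ hy)
  have hOmem : ∀ y ∈ O, y ∈ U := fun y hy => c.mem_of_odd y (hOU y hy).1 (hOU y hy).2
  obtain ⟨F, hF1, hF2, hF3, ⟨e⟩⟩ := Cfsg.Agent.S0508.result P (2 * m) (by omega) eP t hto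
    (pow_mem D.memσ m) (fun s hs => (sylow_comm_t D c hs).eq) O hO
    (by
      intro hO1
      have hinf : (P : Subgroup G) ⊓ Subgroup.centralizer (O : Set G) = Subgroup.zpowers σ := by
        refine le_antisymm (fun s hs => ?_) (Subgroup.zpowers_le.2 ⟨D.memσ,
          Subgroup.mem_centralizer_iff.2 fun y hy => (hσcom y (hOmem y hy)).eq⟩)
        obtain ⟨i, rfl | rfl⟩ := D.cases s hs.1
        · exact pow_mem (Subgroup.mem_zpowers σ) i
        · exfalso
          obtain ⟨⟨y, hy⟩, hy1⟩ := Subgroup.ne_bot_iff_exists_ne_one.1 hO1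
          have h1 : Commute y (σ ^ i * τ) := Subgroup.mem_centralizer_iff.1 hs.2 y hy
          exact hy1 (Subtype.ext (hfree i y (hOmem y hy) h1))
      rw [hinf]
      refine ⟨inferInstance, ?_⟩
      rw [Subgroup.relIndex]
      have hc := ((Subgroup.zpowers σ).subgroupOf (P : Subgroup G)).card_mul_index
      rw [Nat.card_congr (Subgroup.subgroupOfEquivOfLe (Subgroup.zpowers_le.2 D.memσ)).toEquiv,
        Nat.card_zpowers, D.ordσ, D.card] at hc
      refine Nat.eq_of_mul_eq_mul_left (show 0 < 2 * m by omega) (hc.trans ?_)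
      ring)
    (by
      intro s hs hsn y hy
      obtain ⟨i, rfl | rfl⟩ := D.cases s hs
      · exact absurd ((Subgroup.centralizer (O : Set G)).pow_mem
          (Subgroup.mem_centralizer_iff.2 fun z hz => (hσcom z (hOmem z hz)).eq) i) hsn
      · exact hinv i y (hOmem y hy))
    (fun Y hY hY1 => hOne.normalizer_le hto hY1 fun y hy => hOU y (hY hy))
  exact simpleConcl_of_psl hna h hF3 e

end CfsgLib.SuzukiCyclic
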