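import Cfsg.Agent.Lib.SuzukiCyclic.Defs
import Cfsg.Agent.Lib.Invol.Dihedral
import Mathlib.GroupTheory.FixedPointFree
import Mathlib.GroupTheory.SpecificGroups.Cyclic

/-!
# The residual configuration: the exceptional subgroup `K = U⟨k⟩` and `L = K⟨a u⟩`

The elements of `D = K \ U` have centraliser `K` and form a TI set with normaliser `L`.
-/

set_option autoImplicit false
set_option linter.style.haveILetI false
set_option linter.unusedSectionVars false

universe u

namespace CfsgLib.SuzukiCyclic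

open CfsgLib.Invol

namespace ResidualData

variable {G : Type u} [Group G] [Finite G] (d : ResidualData G)

theorem order_t : orderOf d.t = 2 := by
  rw [← d.a_sq, ← pow_two, orderOf_pow, d.order_a]
  rfl

theorem tu : d.t * d.u = d.u * d.t := by
  have h := d.u_conj_a
  have e : d.u * d.t * d.u⁻¹ = d.t := by
    rw [← d.a_sq, show d.u * (d.a * d.a) * d.u⁻¹ = (d.u * d.a * d.u⁻¹) * (d.u * d.a * d.u⁻¹) by group, h]
    have h4 : d.a * d.a * (d.a * d.a) = 1 := by
      have := pow_orderOf_eq_one d.a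
      rw [d.order_a, pow_succ, pow_succ, pow_succ, pow_one] at this
      simpa [mul_assoc] using this
    rw [← mul_inv_rev, inv_eq_of_mul_eq_one_right h4]
  exact (mul_inv_eq_iff_eq_mul.1 e).symm

theorem tt : d.t * d.t = 1 := mul_self_of_orderOf_two d.order_t

theorem uu : d.u * d.u = 1 := mul_self_of_orderOf_two d.order_u

theorem k_tu : d.k * (d.t * d.u) * d.k⁻¹ = d.t := by
  rw [show d.k * (d.t * d.u) * d.k⁻¹ = (d.k * d.t * d.k⁻¹) * (d.k * d.u * d.k⁻¹) by group, d.k_t, d.k_u,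
    ← mul_assoc, ← d.tu, mul_assoc, d.uu, mul_one]

/-- The four group `⟨t, u⟩`. -/
def V : Subgroup G where
  carrier := {x | x = 1 ∨ x = d.t ∨ x = d.u ∨ x = d.t * d.u}
  one_mem' := Or.inl rfl
  mul_mem' := by
    have h1 : ∀ y : G, d.t * (d.t * y) = y := fun y => by rw [← mul_assoc, d.tt, one_mul]
    have h2 : ∀ y : G, d.u * (d.u * y) = y := fun y => by rw [← mul_assoc, d.uu, one_mul]
    have h3 : d.u * d.t = d.t * d.u := d.tu.symm
    have h4 : ∀ y : G, d.u * (d.t * y) = d.t * (d.u * y) := fun y => by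
      rw [← mul_assoc, h3, mul_assoc]
    rintro a b (rfl | rfl | rfl | rfl) (rfl | rfl | rfl | rfl) <;>
      simp [mul_assoc, h1, h2, h3, h4, d.tt, d.uu]
  inv_mem' := by
    have ht : d.t⁻¹ = d.t := inv_eq_of_mul_eq_one_right d.tt
    have hu : d.u⁻¹ = d.u := inv_eq_of_mul_eq_one_right d.uu
    rintro a (rfl | rfl | rfl | rfl) <;> simp [ht, hu, d.tu]

theorem V_sq {v : G} (hv : v ∈ d.V) : v * v = 1 := by
  rcases hv with rfl | rfl | rfl | rfl
  · exact one_mul 1
  · exact d.tt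
  · exact d.uu
  · rw [show d.t * d.u * (d.t * d.u) = d.t * (d.u * d.t) * d.u by group, ← d.tu,
      show d.t * (d.t * d.u) * d.u = (d.t * d.t) * (d.u * d.u) by group, d.tt, d.uu, one_mul]

theorem V_comm_U {v x : G} (hv : v ∈ d.V) (hx : x ∈ d.U) : Commute v x := by
  rcases hv with rfl | rfl | rfl | rfl
  · exact Commute.one_left x
  · exact d.t_U x hx
  · exact d.u_U x hx
  · exact Commute.mul_left (d.t_U x hx) (d.u_U x hx)

theorem k_V {v : G} (hv : v ∈ d.V) : d.k * v * d.k⁻¹ ∈ d.V := by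
  rcases hv with rfl | rfl | rfl | rfl
  · exact Or.inl (by group)
  · exact Or.inr (Or.inr (Or.inl d.k_t))
  · exact Or.inr (Or.inr (Or.inr d.k_u))
  · exact Or.inr (Or.inl d.k_tu)

theorem tu_ne_one : d.t * d.u ≠ 1 := fun e => d.u_ne (by
  rw [eq_inv_of_mul_eq_one_right e, inv_eq_of_mul_eq_one_right d.tt])

/-- An element of the four group commuting with `k` is trivial. -/
theorem eq_one_of_comm_k {v : G} (hv : v ∈ d.V) (hc : Commute d.k v) : v = 1 := by
  have e : d.k * v * d.k⁻¹ = v := by rw [hc.eq, mul_inv_cancel_right]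
  rcases hv with rfl | rfl | rfl | rfl
  · rfl
  · rw [d.k_t] at e; exact absurd e d.u_ne
  · rw [d.k_u] at e
    exact absurd (mul_eq_right.1 e) (ne_one_of_orderOf_two d.order_t)
  · rw [d.k_tu] at e
    exact absurd (left_eq_mul.1 e) (ne_one_of_orderOf_two d.order_u)

theorem k_comm_U {x : G} (hx : x ∈ d.U) (i : ℕ) : Commute (d.k ^ i) x :=
  (show Commute d.k x from d.k_U x hx).pow_left i

theorem U_comm {x y : G} (hx : x ∈ d.U) (hy : y ∈ d.U) : Commute x y := by
  haveI := d.cyclic_U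
  letI : CommGroup d.U := IsCyclic.commGroup
  exact congrArg Subtype.val (mul_comm (⟨x, hx⟩ : d.U) ⟨y, hy⟩)

/-- `K = U⟨k⟩`. -/
def K : Subgroup G where
  carrier := {x | ∃ (v : G) (i : ℕ), v ∈ d.U ∧ x = v * d.k ^ i}
  one_mem' := ⟨1, 0, one_mem _, by simp⟩
  mul_mem' := by
    rintro _ _ ⟨v, i, hv, rfl⟩ ⟨w, l, hw, rfl⟩
    refine ⟨v * w, i + l, mul_mem hv hw, ?_⟩
    rw [pow_add, mul_assoc, ← mul_assoc (d.k ^ i) w, (d.k_comm_U hw i).eq]
    group
  inv_mem' := by
    rintro _ ⟨v, i, hv, rfl⟩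
    refine ⟨v⁻¹ * (d.k ^ 3)⁻¹ ^ i, 2 * i, mul_mem (inv_mem hv) (pow_mem (inv_mem d.k_cube) i), ?_⟩
    rw [mul_inv_rev, ((d.k_comm_U hv i).inv_inv).eq, mul_assoc, inv_pow, ← pow_mul]
    congr 1
    rw [eq_inv_mul_iff_mul_eq, mul_inv_eq_iff_eq_mul, ← pow_add]
    congr 1
    ring

theorem U_le_K : d.U ≤ d.K := fun x hx => ⟨x, 0, hx, by simp⟩

theorem k_mem_K : d.k ∈ d.K := ⟨1, 1, one_mem _, by simp⟩

theorem K_comm {x y : G} (hx : x ∈ d.K) (hy : y ∈ d.K) : Commute x y := by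
  obtain ⟨v, i, hv, rfl⟩ := hx
  obtain ⟨w, l, hw, rfl⟩ := hy
  refine Commute.mul_left ?_ ?_
  · exact (d.U_comm hv hw).mul_right (d.k_comm_U hv l).symm
  · exact (d.k_comm_U hw i).mul_right (Commute.pow_pow_self d.k i l)

theorem mem_K_cases {x : G} (hx : x ∈ d.K) :
    x ∈ d.U ∨ ∃ v ∈ d.U, ∃ i, (i = 1 ∨ i = 2) ∧ x = v * d.k ^ i := by
  obtain ⟨v, i, hv, rfl⟩ := hx
  have e : v * d.k ^ i = v * (d.k ^ 3) ^ (i / 3) * d.k ^ (i % 3) := by
    rw [mul_assoc, ← pow_mul, ← pow_add, Nat.div_add_mod]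
  rw [e]
  have hv' := mul_mem hv (pow_mem d.k_cube (i / 3))
  by_cases h0 : i % 3 = 0
  · exact Or.inl (by rw [h0, pow_zero, mul_one]; exact hv')
  · exact Or.inr ⟨_, hv', _, (by omega : i % 3 = 1 ∨ i % 3 = 2), rfl⟩

theorem cube_mem {x : G} (hx : x ∈ d.K) : x ^ 3 ∈ d.U := by
  obtain ⟨v, i, hv, rfl⟩ := hx
  rw [(d.k_comm_U hv i).symm.mul_pow, ← pow_mul, mul_comm i 3, pow_mul]
  exact mul_mem (pow_mem hv 3) (pow_mem d.k_cube i)

theorem k_notMem_U : d.k ∉ d.U := fun h => d.u_ne (by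
  have e : d.k * d.t * d.k⁻¹ = d.t := by
    rw [← (show Commute d.t d.k from d.t_U _ h).eq, mul_inv_cancel_right]
  rw [d.k_t] at e
  exact e)

theorem pow_k_notMem {v : G} (hv : v ∈ d.U) {i : ℕ} (hi : i = 1 ∨ i = 2) : v * d.k ^ i ∉ d.U := by
  intro h
  have h1 : d.k ^ i ∈ d.U := by
    have := mul_mem (inv_mem hv) h
    rwa [inv_mul_cancel_left] at this
  apply d.k_notMem_U
  rcases hi with rfl | rfl
  · rwa [pow_one] at h1
  · have e : d.k = d.k ^ 3 * (d.k ^ 2)⁻¹ := by group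
    rw [e]
    exact mul_mem d.k_cube (inv_mem h1)

theorem odd_K : Odd (Nat.card d.K) := by
  rw [← Nat.not_even_iff_odd, even_iff_two_dvd]
  intro h
  obtain ⟨x, hx⟩ := exists_prime_orderOf_dvd_card' (G := d.K) (hp := ⟨Nat.prime_two⟩) 2 h
  have ho : orderOf (x : G) = 2 := by rw [Subgroup.orderOf_coe, hx]
  have h3 : (x : G) ^ 3 = x := by rw [pow_succ, pow_two, mul_self_of_orderOf_two ho, one_mul]
  have hU := d.cube_mem x.2
  rw [h3] at hU
  have hd : 2 ∣ Nat.card d.U := ho ▸ Subgroup.orderOf_dvd_natCard _ hU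
  exact Nat.not_even_iff_odd.2 d.odd_U (even_iff_two_dvd.2 hd)

theorem odd_order_K {x : G} (hx : x ∈ d.K) : Odd (orderOf x) :=
  d.odd_K.of_dvd_nat (Subgroup.orderOf_dvd_natCard _ hx)

theorem eq_one_of_odd_sq {x : G} (ho : Odd (orderOf x)) (h : x * x = 1) : x = 1 := by
  rw [← orderOf_eq_one_iff]
  exact Nat.eq_one_of_dvd_coprimes (Nat.coprime_two_right.2 ho) dvd_rfl
    (orderOf_dvd_of_pow_eq_one (by rw [pow_two, h]))

theorem V_inf_K {v : G} (hv : v ∈ d.V) (hK : v ∈ d.K) : v = 1 :=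
  eq_one_of_odd_sq (d.odd_order_K hK) (d.V_sq hv)

theorem pow_k_V (i : ℕ) {v : G} (hv : v ∈ d.V) : d.k ^ i * v * (d.k ^ i)⁻¹ ∈ d.V := by
  induction i with
  | zero => simpa using hv
  | succ i ih =>
    rw [pow_succ', show d.k * d.k ^ i * v * (d.k * d.k ^ i)⁻¹ = d.k * (d.k ^ i * v * (d.k ^ i)⁻¹) * d.k⁻¹ by
      group]
    exact d.k_V ih

theorem K_V {x : G} (hx : x ∈ d.K) {v : G} (hv : v ∈ d.V) : x * v * x⁻¹ ∈ d.V := by
  obtain ⟨w, i, hw, rfl⟩ := hx
  have h1 := d.pow_k_V i hv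
  have e : w * d.k ^ i * v * (w * d.k ^ i)⁻¹ = w * (d.k ^ i * v * (d.k ^ i)⁻¹) * w⁻¹ := by group
  rw [e, ← (d.V_comm_U h1 hw).eq, mul_inv_cancel_right]
  exact h1

/-- An element of the four group commuting with an element of `D` is trivial. -/
theorem eq_one_of_comm_D {v x : G} (hv : v ∈ d.V) (hx : x ∈ d.K) (hxU : x ∉ d.U) (hc : Commute x v) :
    v = 1 := by
  obtain ⟨w, hw, i, hi, rfl⟩ := (d.mem_K_cases hx).resolve_left hxU
  have h1 : Commute (d.k ^ i) v := by
    have := ((d.V_comm_U hv hw).symm.inv_left).mul_left hc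
    rwa [inv_mul_cancel_left] at this
  refine d.eq_one_of_comm_k hv ?_
  rcases hi with rfl | rfl
  · rwa [pow_one] at h1
  · have e : d.k = d.k ^ 3 * (d.k ^ 2)⁻¹ := by group
    rw [e]
    exact (d.V_comm_U hv d.k_cube).symm.mul_left h1.inv_left

/-- `|K| = 3 |U|`. -/
theorem card_K : Nat.card d.K = 3 * Nat.card d.U := by
  let f : Fin 3 × d.U → d.K := fun q => ⟨(q.2 : G) * d.k ^ (q.1 : ℕ), ⟨q.2, q.1, q.2.2, rfl⟩⟩
  have hd1 : ∀ (v v' : G) (i l : ℕ), v ∈ d.U → v' ∈ d.U → i ≤ l → l < 3 →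
      v * d.k ^ i = v' * d.k ^ l → i = l := by
    intro v v' i l hv hv' hil hl e
    by_contra hne
    have h1 : d.k ^ (l - i) = v'⁻¹ * v := by
      have e2 : v = v' * d.k ^ (l - i) := by
        have := congrArg (· * (d.k ^ i)⁻¹) e
        simp only [mul_inv_cancel_right] at this
        rw [this, show d.k ^ l = d.k ^ (l - i) * d.k ^ i by rw [← pow_add, Nat.sub_add_cancel hil]]
        group
      rw [e2, inv_mul_cancel_left]
    exact d.pow_k_notMem (one_mem _) (show l - i = 1 ∨ l - i = 2 by omega)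
      (by rw [one_mul, h1]; exact mul_mem (inv_mem hv') hv)
  have hinj : Function.Injective f := by
    rintro ⟨i, v⟩ ⟨l, v'⟩ e
    have e' : (v : G) * d.k ^ (i : ℕ) = (v' : G) * d.k ^ (l : ℕ) := congrArg Subtype.val e
    have hil : (i : ℕ) = (l : ℕ) := by
      rcases Nat.le_total (i : ℕ) l with h | h
      · exact hd1 _ _ _ _ v.2 v'.2 h l.2 e'
      · exact (hd1 _ _ _ _ v'.2 v.2 h i.2 e'.symm).symm
    rw [hil] at e'
    exact Prod.ext (Fin.ext hil) (Subtype.ext (mul_right_cancel e'))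
  have hsurj : Function.Surjective f := by
    rintro ⟨x, hx⟩
    rcases d.mem_K_cases hx with h | ⟨v, hv, i, hi, rfl⟩
    · exact ⟨(0, ⟨x, h⟩), Subtype.ext (by simp [f])⟩
    · exact ⟨(⟨i, by omega⟩, ⟨v, hv⟩), rfl⟩
  rw [← Nat.card_congr (Equiv.ofBijective f ⟨hinj, hsurj⟩), Nat.card_prod]
  simp

/-- The centraliser of a nontrivial element of `U` is `K V`. -/
theorem mem_cent_w {w : G} (hw : w ∈ d.U) (hw1 : w ≠ 1) {g : G} (hg : Commute g w) :
    ∃ x ∈ d.K, ∃ v ∈ d.V, g = x * v := by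
  classical
  let vv : Fin 4 → G := ![1, d.t, d.u, d.t * d.u]
  have hvv : ∀ i, vv i ∈ d.V := by
    intro i
    fin_cases i
    · exact Or.inl rfl
    · exact Or.inr (Or.inl rfl)
    · exact Or.inr (Or.inr (Or.inl rfl))
    · exact Or.inr (Or.inr (Or.inr rfl))
  have hinj : Function.Injective vv := by
    have h1 := ne_one_of_orderOf_two d.order_t
    have h2 := ne_one_of_orderOf_two d.order_u
    intro i l h
    fin_cases i <;> fin_cases l <;> first
      | rfl
      | (exfalso; simp [vv] at h; first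
          | exact h1 h | exact h1 h.symm | exact h2 h | exact h2 h.symm
          | exact d.tu_ne_one h | exact d.tu_ne_one h.symm
          | exact d.u_ne h | exact d.u_ne h.symm)
  let f : d.K × Fin 4 → Subgroup.centralizer ({w} : Set G) := fun q =>
    ⟨(q.1 : G) * vv q.2, Subgroup.mem_centralizer_singleton_iff.2
      ((d.K_comm q.1.2 (d.U_le_K hw)).mul_left (d.V_comm_U (hvv q.2) hw)).eq⟩
  have hf : Function.Injective f := by
    rintro ⟨x, i⟩ ⟨y, l⟩ e
    have e' : (x : G) * vv i = (y : G) * vv l := congrArg Subtype.val e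
    have h1 : (y : G)⁻¹ * x = vv l * (vv i)⁻¹ := by
      rw [eq_mul_inv_iff_mul_eq, mul_assoc, e', inv_mul_cancel_left]
    have h2 := d.V_inf_K (h1 ▸ mul_mem (hvv l) (inv_mem (hvv i))) (mul_mem (inv_mem y.2) x.2)
    rw [inv_mul_eq_one] at h2
    rw [← h2] at e'
    exact Prod.ext (Subtype.ext h2.symm) (hinj (mul_left_cancel e'))
  have hbij : Function.Bijective f := (Nat.bijective_iff_injective_and_card f).2 ⟨hf, by
    rw [Nat.card_prod, d.card_K, d.card_cent_w w hw hw1, Nat.card_fin]; ring⟩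
  obtain ⟨q, hq⟩ := hbij.2 ⟨g, Subgroup.mem_centralizer_singleton_iff.2 hg.eq⟩
  exact ⟨_, q.1.2, _, hvv q.2, (congrArg Subtype.val hq).symm⟩

theorem cent_w_mem_K {w x g : G} (hw : w ∈ d.U) (hw1 : w ≠ 1) (hx : x ∈ d.K) (hxU : x ∉ d.U)
    (hgw : Commute g w) (hgx : Commute g x) : g ∈ d.K := by
  obtain ⟨y, hy, v, hv, rfl⟩ := d.mem_cent_w hw hw1 hgw
  have h1 : Commute v x := by
    have := (d.K_comm hy hx).inv_left.mul_left hgx
    rwa [inv_mul_cancel_left] at this
  rw [d.eq_one_of_comm_D hv hx hxU h1.symm, mul_one]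
  exact hy

/-- The involution `a u`. -/
def j : G := d.a * d.u

theorem closure_au : Subgroup.closure ({d.a, d.u} : Set G) = (d.S : Subgroup G) := by
  set H := Subgroup.closure ({d.a, d.u} : Set G)
  have hle : H ≤ (d.S : Subgroup G) := (Subgroup.closure_le _).2 (by
    rintro x (rfl | rfl)
    exacts [d.a_mem, d.u_mem])
  have ha : d.a ∈ H := Subgroup.subset_closure (Or.inl rfl)
  have hu : d.u ∈ H := Subgroup.subset_closure (Or.inr rfl)
  refine Subgroup.eq_of_le_of_card_ge hle ?_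
  have hd : Nat.card H ∣ 8 := d.card_S ▸ Subgroup.card_dvd_of_le hle
  have h4 : 4 ∣ Nat.card H := d.order_a ▸ Subgroup.orderOf_dvd_natCard _ ha
  have hne : Nat.card H ≠ 4 := by
    intro he
    have hz : Subgroup.zpowers d.a = H := Subgroup.eq_of_le_of_card_ge (Subgroup.zpowers_le.2 ha)
      (by rw [he, Nat.card_zpowers, d.order_a])
    obtain ⟨i, hi⟩ := Subgroup.mem_zpowers_iff.1 (hz.symm ▸ hu)
    have hc : Commute d.u d.a := hi ▸ (Commute.zpow_self d.a i)
    have e := d.u_conj_a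
    rw [hc.eq, mul_inv_cancel_right] at e
    have h2 : orderOf d.a ∣ 2 :=
      orderOf_dvd_of_pow_eq_one (by rw [pow_two]; exact eq_inv_iff_mul_eq_one.1 e)
    rw [d.order_a] at h2
    omega
  rw [d.card_S]
  have := Nat.le_of_dvd (by norm_num) hd
  have := Nat.le_of_dvd (Nat.card_pos) h4
  interval_cases h : Nat.card H <;> omega

theorem S_normalizes {s : G} (hs : s ∈ (d.S : Subgroup G)) : s ∈ Subgroup.normalizer (d.U : Set G) := by
  rw [← d.closure_au] at hs
  refine (Subgroup.closure_le _).2 ?_ hs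
  rintro x (rfl | rfl)
  · refine Subgroup.mem_normalizer_iff.2 fun y => ⟨fun hy => by rw [d.a_U y hy]; exact inv_mem hy,
      fun hy => ?_⟩
    -- `a` has finite order, so the inclusion is an equality
    have key : ∀ m : ℕ, ∀ z ∈ d.U, d.a ^ m * z * (d.a ^ m)⁻¹ ∈ d.U := by
      intro m
      induction m with
      | zero => intro z hz; simpa using hz
      | succ m ih =>
        intro z hz
        rw [pow_succ', show d.a * d.a ^ m * z * (d.a * d.a ^ m)⁻¹ =
          d.a * (d.a ^ m * z * (d.a ^ m)⁻¹) * d.a⁻¹ by group, d.a_U _ (ih z hz)]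
        exact inv_mem (ih z hz)
    have h3 := key 3 _ hy
    have h4 : d.a ^ 4 = 1 := d.order_a ▸ pow_orderOf_eq_one d.a
    rwa [show d.a ^ 3 * (d.a * y * d.a⁻¹) * (d.a ^ 3)⁻¹ = d.a ^ 4 * y * (d.a ^ 4)⁻¹ by group, h4, one_mul,
      inv_one, mul_one] at h3
  · refine Subgroup.mem_normalizer_iff.2 fun y => ⟨fun hy => ?_, fun hy => ?_⟩
    · rw [(show Commute d.u y from d.u_U y hy).eq, mul_inv_cancel_right]; exact hy
    · have h1 := (show Commute d.u _ from d.u_U _ hy).eq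
      have e : y = d.u * y * d.u⁻¹ := by
        calc y = d.u⁻¹ * (d.u * y * d.u⁻¹ * d.u) := by group
          _ = d.u⁻¹ * (d.u * (d.u * y * d.u⁻¹)) := by rw [← h1]
          _ = d.u * y * d.u⁻¹ := by group
      rw [e]; exact hy

theorem j_sq : d.j * d.j = 1 := by
  have hu : d.u⁻¹ = d.u := inv_eq_of_mul_eq_one_right d.uu
  have h := d.u_conj_a
  rw [hu] at h
  rw [j, show d.a * d.u * (d.a * d.u) = d.a * (d.u * d.a * d.u) by group, h, mul_inv_cancel]

theorem j_U {x : G} (hx : x ∈ d.U) : d.j * x * d.j⁻¹ = x⁻¹ := by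
  rw [j, show d.a * d.u * x * (d.a * d.u)⁻¹ = d.a * (d.u * x * d.u⁻¹) * d.a⁻¹ by group,
    (show Commute d.u x from d.u_U x hx).eq, mul_inv_cancel_right, d.a_U x hx]

theorem j_K {x : G} (hx : x ∈ d.K) : d.j * x * d.j⁻¹ = x⁻¹ := by
  obtain ⟨v, i, hv, rfl⟩ := hx
  rw [show d.j * (v * d.k ^ i) * d.j⁻¹ = (d.j * v * d.j⁻¹) * (d.j * d.k ^ i * d.j⁻¹) by group, d.j_U hv,
    ← conj_pow, j, d.au_k, mul_inv_rev, inv_pow]
  exact ((d.k_comm_U hv i).inv_inv).symm.eq

theorem j_notMem_K : d.j ∉ d.K := by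
  intro h
  have e := eq_one_of_odd_sq (d.odd_order_K h) d.j_sq
  have h1 : d.a = d.u := by
    rw [j] at e
    rw [eq_inv_of_mul_eq_one_left e, inv_eq_of_mul_eq_one_right d.uu]
  have := d.order_a
  rw [h1, d.order_u] at this
  omega

theorem order_j : orderOf d.j = 2 :=
  orderOf_two_of_mul_self d.j_sq fun e => d.j_notMem_K (e ▸ one_mem _)

/-- The elements of odd order centralising `t` lie in `U`. -/
theorem odd_cent_t {y : G} (ho : Odd (orderOf y)) (hy : Commute y d.t) : y ∈ d.U := by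
  set C := Subgroup.centralizer ({d.t} : Set G) with hC
  have hUC : d.U ≤ C := by rw [hC, d.cent_t]; exact le_sup_left
  haveI : (d.U.subgroupOf C).Normal := Subgroup.normal_subgroupOf_of_le_normalizer (by
    rw [hC, d.cent_t]
    exact sup_le Subgroup.le_normalizer fun s hs => d.S_normalizes hs)
  have hidx : (d.U.subgroupOf C).index = 8 := by
    have h1 := (d.U.subgroupOf C).card_mul_index
    rw [Nat.card_congr (Subgroup.subgroupOfEquivOfLe hUC).toEquiv, hC, d.card_cent_t, mul_comm] at h1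
    exact Nat.eq_of_mul_eq_mul_right Nat.card_pos h1
  set y' : C := ⟨y, Subgroup.mem_centralizer_singleton_iff.2 hy.eq⟩
  have h8 := Subgroup.pow_index_mem (d.U.subgroupOf C) y'
  rw [hidx, Subgroup.mem_subgroupOf, Subgroup.coe_pow] at h8
  have hcop : (orderOf y).Coprime 8 := (Nat.coprime_two_right.2 ho).pow_right 3
  obtain ⟨m, hm⟩ := exists_pow_eq_self_of_coprime hcop.symm
  rw [← hm]
  exact pow_mem h8 m

/-- An element of `D` has centraliser `K`. -/
theorem cent_D {x : G} (hx : x ∈ d.K) (hxU : x ∉ d.U) {g : G} (hg : Commute g x) : g ∈ d.K := by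
  classical
  by_cases h3 : x ^ 3 = 1
  swap
  · exact d.cent_w_mem_K (d.cube_mem hx) h3 hx hxU (hg.pow_right 3) hg
  -- `3` does not divide `|U|`
  have hU3 : ¬ 3 ∣ Nat.card d.U := by
    intro h
    obtain ⟨z, hz⟩ := exists_prime_orderOf_dvd_card' (G := d.U) (hp := ⟨Nat.prime_three⟩) 3 h
    let T : Subgroup G :=
      { carrier := {y | y ∈ d.K ∧ y ^ 3 = 1}
        one_mem' := ⟨one_mem _, one_pow 3⟩
        mul_mem' := fun ha hb =>
          ⟨mul_mem ha.1 hb.1, by rw [(d.K_comm ha.1 hb.1).mul_pow, ha.2, hb.2, one_mul]⟩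
        inv_mem' := fun ha => ⟨inv_mem ha.1, by rw [inv_pow, ha.2, inv_one]⟩ }
    haveI : Fact (Nat.Prime 3) := ⟨Nat.prime_three⟩
    have hT : IsPGroup 3 T := fun y => ⟨1, Subtype.ext (by simpa using y.2.2)⟩
    obtain ⟨R, hR⟩ := hT.exists_le_sylow
    haveI := d.oddCyclic 3 Nat.prime_three (by norm_num) R
    haveI : IsCyclic T := isCyclic_of_injective (Subgroup.inclusion hR) (Subgroup.inclusion_injective hR)
    haveI := Fintype.ofFinite T
    have hle := IsCyclic.card_pow_eq_one_le (α := T) (show 0 < 3 by norm_num)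
    have hz3 : (z : G) ^ 3 = 1 := by
      have := pow_orderOf_eq_one (z : G)
      rwa [Subgroup.orderOf_coe, hz] at this
    have hzT : (z : G) ∈ T := ⟨d.U_le_K z.2, hz3⟩
    have hxT : x ∈ T := ⟨hx, h3⟩
    have ho : orderOf (⟨z, hzT⟩ : T) = 3 := by
      rw [Subgroup.orderOf_mk, Subgroup.orderOf_coe, hz]
    have hz1 : (⟨z, hzT⟩ : T) ≠ 1 := fun e => by rw [e, orderOf_one] at ho; omega
    have hz2 : (⟨z, hzT⟩ : T) ^ 2 ≠ 1 := fun e => by
      have := orderOf_dvd_of_pow_eq_one e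
      rw [ho] at this; omega
    have hxne : ∀ y : T, (y : G) ∈ d.U → y ≠ ⟨x, hxT⟩ := fun y hy e => hxU (by rw [e] at hy; exact hy)
    have hsub : ({1, ⟨z, hzT⟩, ⟨z, hzT⟩ ^ 2, ⟨x, hxT⟩} : Finset T) ⊆
        Finset.univ.filter (fun y : T => y ^ 3 = 1) := fun y _ => by
      simp only [Finset.mem_filter, Finset.mem_univ, true_and]
      exact Subtype.ext (by simpa using y.2.2)
    have h4 : ({1, ⟨z, hzT⟩, ⟨z, hzT⟩ ^ 2, ⟨x, hxT⟩} : Finset T).card = 4 := by
      have n1 : (1 : T) ≠ ⟨x, hxT⟩ := hxne 1 (one_mem _)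
      have n2 := hxne ⟨z, hzT⟩ z.2
      have n3 := hxne (⟨z, hzT⟩ ^ 2) (by rw [Subgroup.coe_pow]; exact pow_mem z.2 2)
      have n4 : (⟨z, hzT⟩ : T) ≠ ⟨z, hzT⟩ ^ 2 := fun e => hz1 (by rw [pow_two] at e; exact left_eq_mul.1 e)
      rw [Finset.card_insert_of_notMem, Finset.card_insert_of_notMem, Finset.card_insert_of_notMem,
        Finset.card_singleton]
      · rw [Finset.mem_singleton]; exact n3
      · rw [Finset.mem_insert, Finset.mem_singleton, not_or]; exact ⟨n4, n2⟩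
      · rw [Finset.mem_insert, Finset.mem_insert, Finset.mem_singleton, not_or, not_or]
        exact ⟨hz1.symm, hz2.symm, n1⟩
    have := (Finset.card_le_card hsub).trans hle
    omega
  have hx1 : x ≠ 1 := fun e => hxU (e ▸ one_mem _)
  set C := Subgroup.centralizer ({x} : Set G) with hC
  -- `C` has odd order
  have hCodd : ∀ s : G, orderOf s = 2 → ¬ Commute s x := by
    intro s hs hsx
    obtain ⟨c, hc⟩ := isConj_iff.1 (d.one_class s d.t hs d.order_t)
    have hxo : orderOf x = 3 := orderOf_eq_prime (hp := ⟨Nat.prime_three⟩) h3 hx1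
    have hco : orderOf (c * x * c⁻¹) = 3 := by
      rw [show c * x * c⁻¹ = MulAut.conj c x from rfl, MulEquiv.orderOf_eq, hxo]
    have hU : c * x * c⁻¹ ∈ d.U :=
      d.odd_cent_t (by rw [hco]; decide) (hc ▸ (Commute.conj hsx.symm c))
    exact hU3 (hco ▸ Subgroup.orderOf_dvd_natCard _ hU)
  have hodd : ∀ y ∈ C, Odd (orderOf y) := by
    intro y hy
    rw [← Nat.not_even_iff_odd, even_iff_two_dvd]
    intro h
    exact hCodd _ (orderOf_pow_orderOf_div (orderOf_pos y).ne' h)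
      ((show Commute y x from Subgroup.mem_centralizer_singleton_iff.1 hy).pow_left _)
  -- `j` acts fixed point freely
  have hfix : ∀ y ∈ C, d.j * y * d.j⁻¹ = y → y = 1 := by
    intro y hy hfy
    by_contra hy1
    obtain ⟨c, hc⟩ := isConj_iff.1 (d.one_class d.j d.t d.order_j d.order_t)
    have hyo : orderOf (c * y * c⁻¹) = orderOf y := by
      rw [show c * y * c⁻¹ = MulAut.conj c y from rfl, MulEquiv.orderOf_eq]
    have hyU : c * y * c⁻¹ ∈ d.U := d.odd_cent_t (hyo ▸ hodd y hy)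
      (hc ▸ Commute.conj (show Commute y d.j from (mul_inv_eq_iff_eq_mul.1 hfy).symm) c)
    have hy' : c * y * c⁻¹ ≠ 1 := fun e => hy1 (conj_eq_one_iff.1 e)
    have hcx : Commute (c * x * c⁻¹) (c * y * c⁻¹) :=
      Commute.conj (show Commute y x from Subgroup.mem_centralizer_singleton_iff.1 hy).symm c
    obtain ⟨z, hz, v, hv, hzv⟩ := d.mem_cent_w hyU hy' hcx
    have hinv : d.t * (c * x * c⁻¹) * d.t⁻¹ = (c * x * c⁻¹)⁻¹ := by
      rw [← hc, show c * d.j * c⁻¹ * (c * x * c⁻¹) * (c * d.j * c⁻¹)⁻¹ = c * (d.j * x * d.j⁻¹) * c⁻¹ by group,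
        d.j_K hx]
      group
    have htV : d.t ∈ d.V := Or.inr (Or.inl rfl)
    rw [hzv] at hinv
    have hv1 : z⁻¹ * d.t * z ∈ d.V := by simpa using d.K_V (inv_mem hz) htV
    have e1 : z * ((z⁻¹ * d.t * z) * v * d.t⁻¹) = v⁻¹ * z⁻¹ := by
      rw [← mul_inv_rev, ← hinv]; group
    have e2 : v⁻¹ * z⁻¹ = z⁻¹ * (z * v⁻¹ * z⁻¹) := by group
    rw [e2] at e1
    have e3 : z * z = (z * v⁻¹ * z⁻¹) * ((z⁻¹ * d.t * z) * v * d.t⁻¹)⁻¹ := by
      rw [eq_mul_inv_iff_mul_eq, mul_assoc, e1]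
      group
    have h4 := d.V_inf_K (e3 ▸ mul_mem (d.K_V hz (inv_mem hv))
      (inv_mem (mul_mem (mul_mem hv1 hv) (inv_mem htV)))) (mul_mem hz hz)
    have hz1 := eq_one_of_odd_sq (d.odd_order_K hz) h4
    rw [hz1, one_mul] at hzv
    have h5 : c * (x * x) * c⁻¹ = 1 := by
      rw [show c * (x * x) * c⁻¹ = (c * x * c⁻¹) * (c * x * c⁻¹) by group, hzv, d.V_sq hv]
    exact hx1 (eq_one_of_odd_sq (d.odd_order_K hx) (conj_eq_one_iff.1 h5))
  have hj' : d.j⁻¹ = d.j := inv_eq_of_mul_eq_one_right d.j_sq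
  let φ : C →* C :=
    { toFun := fun y => ⟨d.j * y * d.j⁻¹, Subgroup.mem_centralizer_singleton_iff.2 (by
        have h := Commute.conj (show Commute (y : G) x from Subgroup.mem_centralizer_singleton_iff.1 y.2) d.j
        rw [d.j_K hx] at h
        simpa using h.inv_right.eq)⟩
      map_one' := Subtype.ext (by simp)
      map_mul' := fun a b => Subtype.ext (by simp [mul_assoc]) }
  have hφ : MonoidHom.FixedPointFree φ := fun y hy =>
    Subtype.ext (hfix y y.2 (congrArg Subtype.val hy))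
  have hinvol : Function.Involutive φ := fun y => Subtype.ext (by
    show d.j * (d.j * y * d.j⁻¹) * d.j⁻¹ = y
    rw [hj', show d.j * (d.j * (y : G) * d.j) * d.j = (d.j * d.j) * y * (d.j * d.j) by group, d.j_sq, one_mul,
      mul_one])
  have hneg : ∀ y : C, d.j * (y : G) * d.j⁻¹ = (y : G)⁻¹ := fun y =>
    congrArg Subtype.val (congrFun (hφ.coe_eq_inv_of_involutive hinvol) y)
  have hab : ∀ a b : C, Commute (a : G) b := by
    intro a b
    have h := hneg (a * b)
    rw [Subgroup.coe_mul, show d.j * ((a : G) * b) * d.j⁻¹ = (d.j * a * d.j⁻¹) * (d.j * b * d.j⁻¹) by group,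
      hneg, hneg, ← mul_inv_rev, inv_inj] at h
    exact h.symm
  obtain ⟨w', hw1⟩ := Subgroup.ne_bot_iff_exists_ne_one.1 d.U_ne
  obtain ⟨w, hw⟩ := w'
  refine d.cent_w_mem_K hw (fun e => hw1 (Subtype.ext e)) hx hxU ?_ hg
  exact hab ⟨g, Subgroup.mem_centralizer_singleton_iff.2 hg.eq⟩
    ⟨w, Subgroup.mem_centralizer_singleton_iff.2 (d.K_comm (d.U_le_K hw) hx).eq⟩

/-- `L = K⟨j⟩`. -/
def L : Subgroup G where
  carrier := {x | x ∈ d.K ∨ d.j * x ∈ d.K}
  one_mem' := Or.inl (one_mem _)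
  mul_mem' := by
    have hj' : d.j⁻¹ = d.j := inv_eq_of_mul_eq_one_right d.j_sq
    rintro a b (ha | ha) (hb | hb)
    · exact Or.inl (mul_mem ha hb)
    · refine Or.inr ?_
      have h := d.j_K ha
      have e : d.j * (a * b) = (d.j * a * d.j⁻¹) * (d.j * b) := by group
      rw [e, h]
      exact mul_mem (inv_mem ha) hb
    · exact Or.inr (by rw [← mul_assoc]; exact mul_mem ha hb)
    · refine Or.inl ?_
      have h := d.j_K ha
      have e : a * b = (d.j * (d.j * a) * d.j⁻¹) * (d.j * b) := by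
        rw [show d.j * (d.j * a) * d.j⁻¹ * (d.j * b) = (d.j * d.j) * (a * b) by group, d.j_sq, one_mul]
      rw [e, h]
      exact mul_mem (inv_mem ha) hb
  inv_mem' := by
    rintro a (ha | ha)
    · exact Or.inl (inv_mem ha)
    · refine Or.inr ?_
      have h := d.j_K ha
      have hj' : d.j⁻¹ = d.j := inv_eq_of_mul_eq_one_right d.j_sq
      have e : d.j * a⁻¹ = (d.j * (d.j * a) * d.j⁻¹)⁻¹ := by
        rw [← mul_assoc, d.j_sq, one_mul, mul_inv_rev, inv_inv]
      rw [e, h, inv_inv]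
      exact ha

theorem K_le_L : d.K ≤ d.L := fun _ hx => Or.inl hx

theorem j_mem_L : d.j ∈ d.L := Or.inr (by rw [d.j_sq]; exact one_mem _)

theorem card_L : Nat.card d.L = 6 * Nat.card d.U := by
  have h2 : (d.K.subgroupOf d.L).index = 2 := by
    rw [Subgroup.index_eq_two_iff_exists_notMem_and']
    refine ⟨⟨d.j, d.j_mem_L⟩, d.j_notMem_K, ?_⟩
    rintro ⟨b, hb | hb⟩
    · exact Or.inr hb
    · exact Or.inl hb
  have h1 := (d.K.subgroupOf d.L).card_mul_index
  rw [h2, Nat.card_congr (Subgroup.subgroupOfEquivOfLe d.K_le_L).toEquiv, d.card_K] at h1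
  omega

/-- `D` is TI with normaliser `L`. -/
theorem ti {g x : G} (hx : x ∈ d.K) (hxU : x ∉ d.U) (hy : g * x * g⁻¹ ∈ d.K) (hyU : g * x * g⁻¹ ∉ d.U) :
    g ∈ d.L := by
  classical
  -- `g` normalises `K`
  have hKK : ∀ z ∈ d.K, g * z * g⁻¹ ∈ d.K := fun z hz =>
    d.cent_D hy hyU (Commute.conj (d.K_comm hz hx) g)
  obtain ⟨z, hz, hz3⟩ : ∃ z ∈ d.K, z ^ 3 ≠ 1 := by
    by_contra hall
    push Not at hall
    -- then every element of `U` has order dividing 3, and `x` too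
    obtain ⟨w, hw⟩ := Subgroup.ne_bot_iff_exists_ne_one.1 d.U_ne
    let T : Subgroup G :=
      { carrier := {y | y ∈ d.K ∧ y ^ 3 = 1}
        one_mem' := ⟨one_mem _, one_pow 3⟩
        mul_mem' := fun ha hb =>
          ⟨mul_mem ha.1 hb.1, by rw [(d.K_comm ha.1 hb.1).mul_pow, ha.2, hb.2, one_mul]⟩
        inv_mem' := fun ha => ⟨inv_mem ha.1, by rw [inv_pow, ha.2, inv_one]⟩ }
    haveI : Fact (Nat.Prime 3) := ⟨Nat.prime_three⟩
    have hT : IsPGroup 3 T := fun y => ⟨1, Subtype.ext (by simpa using y.2.2)⟩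
    obtain ⟨R, hR⟩ := hT.exists_le_sylow
    haveI := d.oddCyclic 3 Nat.prime_three (by norm_num) R
    haveI : IsCyclic T := isCyclic_of_injective (Subgroup.inclusion hR) (Subgroup.inclusion_injective hR)
    haveI := Fintype.ofFinite T
    have hle := IsCyclic.card_pow_eq_one_le (α := T) (show 0 < 3 by norm_num)
    have hall' : (Finset.univ.filter fun y : T => y ^ 3 = 1) = Finset.univ :=
      Finset.filter_eq_self.2 fun y _ => Subtype.ext (by simpa using y.2.2)
    rw [hall', Finset.card_univ, ← Nat.card_eq_fintype_card] at hle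
    have hKT : d.K ≤ T := fun y hy => ⟨hy, hall y hy⟩
    have h1 := (Subgroup.card_le_of_le hKT).trans hle
    rw [d.card_K] at h1
    have h2 : 2 ≤ Nat.card d.U := Finite.one_lt_card_iff_nontrivial.2 ⟨⟨w, 1, hw⟩⟩
    omega
  have hw : z ^ 3 ∈ d.U := d.cube_mem hz
  have hgw : g * z ^ 3 * g⁻¹ ∈ d.U := by
    rw [← conj_pow]; exact d.cube_mem (hKK z hz)
  -- an element of `K V` normalising `K` lies in `K`
  have key : ∀ h : G, (∀ z ∈ d.K, h * z * h⁻¹ ∈ d.K) → Commute h (z ^ 3) → h ∈ d.K := by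
    intro h hK hc
    obtain ⟨y, hy', v, hv, rfl⟩ := d.mem_cent_w hw hz3 hc
    have h1 : v * d.k * v⁻¹ ∈ d.K := by
      have h2 := mul_mem (mul_mem (inv_mem hy') (hK d.k d.k_mem_K)) hy'
      rwa [show y⁻¹ * (y * v * d.k * (y * v)⁻¹) * y = v * d.k * v⁻¹ by group] at h2
    have h2 : v * d.k * v⁻¹ * d.k⁻¹ ∈ d.V := by
      rw [show v * d.k * v⁻¹ * d.k⁻¹ = v * (d.k * v⁻¹ * d.k⁻¹) by group]
      exact mul_mem hv (d.k_V (inv_mem hv))
    have h3 := d.V_inf_K h2 (mul_mem h1 (inv_mem d.k_mem_K))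
    have hck : Commute d.k v := by
      rw [mul_inv_eq_one, mul_inv_eq_iff_eq_mul] at h3
      exact h3.symm
    rw [d.eq_one_of_comm_k hv hck, mul_one]
    exact hy'
  rcases d.norm_w _ hw hz3 g hgw with h | h
  · exact Or.inl (key g hKK (mul_inv_eq_iff_eq_mul.1 h))
  · refine Or.inr (key (d.j * g) (fun y hy' => ?_) ?_)
    · rw [show d.j * g * y * (d.j * g)⁻¹ = d.j * (g * y * g⁻¹) * d.j⁻¹ by group, d.j_K (hKK y hy')]
      exact inv_mem (hKK y hy')
    · refine mul_inv_eq_iff_eq_mul.1 ?_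
      rw [show d.j * g * z ^ 3 * (d.j * g)⁻¹ = d.j * (g * z ^ 3 * g⁻¹) * d.j⁻¹ by group, h,
        d.j_U (inv_mem hw), inv_inv]

/-- An element of `D` is a product of two involutions in `3 |U|` ways. -/
theorem count_pairs {x : G} (hx : x ∈ d.K) (hxU : x ∉ d.U) :
    Nat.card {p : G × G // IsConj d.t p.1 ∧ IsConj d.t p.2 ∧ p.1 * p.2 = x} = 3 * Nat.card d.U := by
  rw [← d.card_K]
  have hinv : ∀ y ∈ d.K, orderOf (d.j * y) = 2 := by
    intro y hy
    refine orderOf_two_of_mul_self ?_ fun e => d.j_notMem_K ?_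
    · rw [show d.j * y * (d.j * y) = (d.j * y * d.j⁻¹) * (d.j * d.j) * y by group, d.j_sq, mul_one, d.j_K hy,
        inv_mul_cancel]
    · rw [eq_inv_of_mul_eq_one_left e]; exact inv_mem hy
  have hconj : ∀ {p : G}, IsConj d.t p → orderOf p = 2 := fun {p} h => by
    obtain ⟨c, rfl⟩ := isConj_iff.1 h
    exact conj_orderOf_two d.order_t c
  refine (Nat.card_congr (Equiv.ofBijective (fun y : d.K =>
    (⟨(d.j * (y : G), d.j * (y : G) * x), d.one_class _ _ d.order_t (hinv y y.2),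
      d.one_class _ _ d.order_t (by rw [mul_assoc]; exact hinv _ (mul_mem y.2 hx)),
      by rw [← mul_assoc, mul_self_of_orderOf_two (hinv y y.2), one_mul]⟩ :
      {p : G × G // IsConj d.t p.1 ∧ IsConj d.t p.2 ∧ p.1 * p.2 = x})) ⟨?_, ?_⟩)).symm
  · intro y y' e
    exact Subtype.ext (mul_left_cancel (congrArg (fun q => (Subtype.val q).1) e))
  · rintro ⟨⟨p, q⟩, hp, hq, hpq⟩
    have hp2 := mul_self_of_orderOf_two (hconj hp)
    have hq2 := mul_self_of_orderOf_two (hconj hq)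
    change p * q = x at hpq
    have hqe : q = p * x := by rw [← hpq, ← mul_assoc, hp2, one_mul]
    have hpx : p * x * p⁻¹ = x⁻¹ := by
      rw [← hpq, mul_inv_rev, inv_eq_of_mul_eq_one_right hp2, inv_eq_of_mul_eq_one_right hq2, ← mul_assoc,
        hp2, one_mul]
    have hc : Commute (d.j * p) x := by
      refine mul_inv_eq_iff_eq_mul.1 ?_
      rw [show d.j * p * x * (d.j * p)⁻¹ = d.j * (p * x * p⁻¹) * d.j⁻¹ by group, hpx,
        d.j_K (inv_mem hx), inv_inv]
    refine ⟨⟨d.j * p, d.cent_D hx hxU hc⟩, Subtype.ext (Prod.ext ?_ ?_)⟩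
    · show d.j * (d.j * p) = p
      rw [← mul_assoc, d.j_sq, one_mul]
    · show d.j * (d.j * p) * x = q
      rw [← mul_assoc, d.j_sq, one_mul, hqe]

/-- The order of the group. -/
theorem exists_order : ∃ n : ℕ, Nat.card G = 24 * Nat.card d.U * n ∧ Odd n ∧ n.Coprime (Nat.card d.U) := by
  classical
  obtain ⟨n, hn⟩ : 24 * Nat.card d.U ∣ Nat.card G := d.norm_U ▸ Subgroup.card_subgroup_dvd_card _
  refine ⟨n, hn, ?_, ?_⟩
  · rw [← Nat.not_even_iff_odd, even_iff_two_dvd]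
    rintro ⟨m, rfl⟩
    haveI : Fact (Nat.Prime 2) := ⟨Nat.prime_two⟩
    have h16 : 2 ^ 4 ∣ Nat.card G := ⟨3 * Nat.card d.U * m, by rw [hn]; ring⟩
    have h := d.S.card_eq_multiplicity
    rw [d.card_S] at h
    have h4 := (Nat.prime_two.pow_dvd_iff_le_factorization Nat.card_pos.ne').1 h16
    have : 2 ^ 4 ≤ 2 ^ (Nat.card G).factorization 2 := Nat.pow_le_pow_right two_pos h4
    rw [← h] at this
    omega
  · refine Nat.coprime_of_dvd fun q hq hqn hqu => ?_
    haveI : Fact q.Prime := ⟨hq⟩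
    have hq2 : q ≠ 2 := fun e => Nat.not_even_iff_odd.2 d.odd_U (even_iff_two_dvd.2 (e ▸ hqu))
    obtain ⟨w, hw⟩ := exists_prime_orderOf_dvd_card' (G := d.U) q hqu
    have hw1 : (w : G) ≠ 1 := fun e => by
      rw [← Subgroup.orderOf_coe, e, orderOf_one] at hw
      exact hq.ne_one hw.symm
    have hp : IsPGroup q (Subgroup.zpowers (w : G)) :=
      IsPGroup.of_card (n := 1) (by rw [Nat.card_zpowers, Subgroup.orderOf_coe, hw, pow_one])
    obtain ⟨R, hR⟩ := hp.exists_le_sylow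
    haveI := d.oddCyclic q hq hq2 R
    letI : CommGroup (R : Subgroup G) := IsCyclic.commGroup
    have hRC : (R : Subgroup G) ≤ Subgroup.centralizer ({(w : G)} : Set G) := fun y hy =>
      Subgroup.mem_centralizer_singleton_iff.2
        (congrArg Subtype.val (mul_comm (⟨y, hy⟩ : (R : Subgroup G)) ⟨w, hR (Subgroup.mem_zpowers _)⟩))
    have h1 := Subgroup.card_dvd_of_le hRC
    rw [d.card_cent_w w w.2 hw1, R.card_eq_multiplicity] at h1
    have h24 : (24 * Nat.card d.U) ≠ 0 := by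
      have := Nat.card_pos (α := d.U); omega
    have hn0 : n ≠ 0 := fun e => by
      rw [e, mul_zero] at hn; exact Nat.card_pos.ne' hn
    have h2 : q ^ (Nat.card G).factorization q ∣ 24 * Nat.card d.U :=
      h1.trans ⟨2, by ring⟩
    have h3 := (hq.pow_dvd_iff_le_factorization h24).1 h2
    rw [hn, Nat.factorization_mul h24 hn0, Finsupp.add_apply] at h3
    have h4 := hq.factorization_pos_of_dvd hn0 hqn
    omega

end ResidualData

end CfsgLib.SuzukiCyclic
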