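import Cfsg.Agent.Lib.SuzukiCyclic.ResidualArith
import Cfsg.Agent.Lib.SuzukiCyclic.ResidualLocal

/-!
# The residual configuration: the four possibilities for the values at `t`
-/

set_option autoImplicit false

universe u

namespace CfsgLib.SuzukiCyclic

namespace ResidualData

variable {G : Type u} [Group G] [Finite G] (d : ResidualData G)

theorem three_le_card_U : 3 ≤ Nat.card d.U := by
  have h1 := Nat.card_pos (α := d.U)
  have h2 : Nat.card d.U ≠ 1 := fun e => d.U_ne (Subgroup.eq_bot_of_card_eq _ e)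
  obtain ⟨r, hr⟩ := d.odd_U
  omega

/-- The equations of the exceptional characters contradict the block values. -/
theorem false_of_values {n : ℕ} (hn : Nat.card G = 24 * Nat.card d.U * n) (hn2 : Odd n)
    (hno : n.Coprime (Nat.card d.U)) {F E Y : ℤ} (hFE : 1 + F + E = 0) (hF0 : F ≠ 0) (hE0 : E ≠ 0)
    (hdeg : F ^ 2 + E ^ 2 < (Nat.card G : ℤ))
    (heq : (n : ℤ) * (F * E + Y ^ 2 * E + (-1 - Y) ^ 2 * F) = 8 * (Nat.card d.U : ℤ) ^ 2 * (F * E))
    (hY : Y = -1 ∨ Y = 0 ∨ (Y = 1 ∧ (F + 2).natAbs ∣ Nat.card G ∧ (2 * F + 1).natAbs ∣ Nat.card G) ∨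
      (Y = -2 ∧ (E + 2).natAbs ∣ Nat.card G ∧ (2 * E + 1).natAbs ∣ Nat.card G)) : False := by
  have ho := d.three_le_card_U
  have hn0 : 0 < n := hn2.pos
  rw [hn] at hdeg hY
  rcases hY with rfl | rfl | ⟨rfl, h1, h2⟩ | ⟨rfl, h1, h2⟩
  · refine false_of_one_block ho hn0 hn2 hno hFE (mul_right_cancel₀ hE0 ?_) hdeg
    linear_combination heq
  · refine false_of_one_block ho hn0 hn2 hno (F := E) (E := F) (by omega) (mul_right_cancel₀ hF0 ?_)
      (by rw [add_comm]; exact hdeg)
    linear_combination heq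
  · refine false_of_two_block ho d.odd_U hn0 hn2 hno ?_ h1 h2
    obtain rfl : E = -1 - F := by omega
    linear_combination -heq
  · refine false_of_two_block ho d.odd_U hn0 hn2 hno ?_ h1 h2
    obtain rfl : F = -1 - E := by omega
    linear_combination -heq

end ResidualData

end CfsgLib.SuzukiCyclic
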