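import Cfsg.Agent.Lib.SuzukiCyclic.ResidualLocal
import Cfsg.Agent.Lib.DihBlock.Setup
import Cfsg.Agent.Lib.DihBlock.Formula
import Cfsg.Agent.Lib.DihBlock.Complete
import Cfsg.Agent.Lib.Blocks.BrauerFeit
import Cfsg.Agent.Lib.Char.Central

/-!
# The residual configuration: two characters and the principal 2-block
-/

set_option autoImplicit false
set_option linter.style.haveILetI false
set_option linter.unusedSectionVars false

universe u

namespace CfsgLib.SuzukiCyclic

open Cfsg CfsgLib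

variable {G : Type u} [Group G] [Fintype G]

theorem two_degree_dvd {χ : IrrCharacter G} {s : ℤ} (hs : s = 1 ∨ s = -1) {v : ℤ}
    (h : (χ : G → ℂ) 1 = (s : ℂ) * v) : v.natAbs ∣ Nat.card G := by
  obtain ⟨n, hn, -, hdvd⟩ := Char.exists_degree_dvd_card χ.2
  have e : (n : ℤ) = s * v := by
    rw [hn] at h
    exact_mod_cast h
  have : v.natAbs = n := by
    rcases hs with rfl | rfl <;> omega
  exact this ▸ hdvd

theorem two_exists_int (χ : IrrCharacter G) : ∃ n : ℤ, 0 < n ∧ (χ : G → ℂ) 1 = n := by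
  refine ⟨(charDegree (χ : G → ℂ) : ℤ), by exact_mod_cast (Blocks.irr_degree_eq χ).2, ?_⟩
  rw [(Blocks.irr_degree_eq χ).1, Int.cast_natCast]

/-- The case that the second character is the member of even degree. -/
theorem two_block_both {M : Ideal AlgInt} {σ : G} {ζ : ℂ} (hζ : ζ ^ 2 = -1)
    (R : DihBlock.Rotations M σ 2 ζ) {A B : IrrCharacter G}
    (hA : A = R.a ∨ A = R.c ∨ A = R.e) (hB : B = R.b 1) {cA cB : ℤ}
    (hcA : cA = 1 ∨ cA = -1) (hcB : cB = 1 ∨ cB = -1)
    (hval : 1 + (cA : ℂ) * (A : G → ℂ) (σ ^ 2) + (cB : ℂ) * (B : G → ℂ) (σ ^ 2) = 0)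
    {F E : ℤ} (hF : (cA : ℂ) * (A : G → ℂ) 1 = F) (hE : (cB : ℂ) * (B : G → ℂ) 1 = E)
    (hFE : 1 + F + E = 0) :
    (cA : ℂ) * (A : G → ℂ) (σ ^ 2) = 1 ∧
      (F + 2).natAbs ∣ Nat.card G ∧ (2 * F + 1).natAbs ∣ Nat.card G := by
  subst hB
  obtain ⟨a1, -, ha1⟩ := two_exists_int R.a
  obtain ⟨b1, hb0, hb1⟩ := two_exists_int (R.b 1)
  obtain ⟨c1, -, hc1⟩ := two_exists_int R.c
  obtain ⟨e1, -, he1⟩ := two_exists_int R.e
  have h1 : ¬ 2 ∣ orderOf (1 : G) := by rw [orderOf_one]; decide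
  have hb := R.rel_b 1 one_pos one_lt_two 1 h1
  have hce := R.rel_ce 1 h1
  rw [ha1, hb1] at hb
  rw [ha1, hc1, he1] at hce
  rw [hb1] at hE
  have hb' : 1 + R.δ * a1 = R.δ * b1 := by exact_mod_cast hb
  have hce' : 1 + R.δ * a1 = -R.δc * c1 - R.δe * e1 := by exact_mod_cast hce
  have hE' : cB * b1 = E := by exact_mod_cast hE
  have hvb : (R.b 1 : G → ℂ) (σ ^ 2) = -2 * R.δ := by
    rw [R.val_b 1 one_pos one_lt_two 2 two_pos (by norm_num), one_mul, hζ]
    norm_num
    ring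
  rw [hvb] at hval
  have key : ∀ s : ℤ, (A : G → ℂ) (σ ^ 2) = s → (s = 1 ∨ s = -1) →
      cA * s = 1 ∧ cB = R.δ := by
    intro s hs hs'
    rw [hs] at hval
    have h : 1 + cA * s + cB * (-2 * R.δ) = 0 := by exact_mod_cast hval
    rcases hcA with rfl | rfl <;> rcases hcB with rfl | rfl <;> rcases R.signδ with e | e <;>
      rcases hs' with rfl | rfl <;> simp [e] at h ⊢
  have hδδ : R.δ * R.δ = 1 := by rcases R.signδ with e | e <;> rw [e] <;> norm_num
  have hF2 : cB = R.δ → R.a.1 1 = ((R.δ : ℤ) : ℂ) * ((-(F + 2) : ℤ) : ℂ) := by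
    intro e
    subst e
    rw [ha1]
    have : a1 = R.δ * (-(F + 2)) := by
      have : R.δ * a1 = -(F + 2) := by omega
      rw [← this, ← mul_assoc, hδδ, one_mul]
    exact_mod_cast this
  have hda : cB = R.δ → (F + 2).natAbs ∣ Nat.card G := fun e => by
    have := two_degree_dvd (χ := R.a) R.signδ (hF2 e)
    rwa [Int.natAbs_neg] at this
  -- the member of odd degree whose value at the involution has the other parity
  have hodd : ∀ (s s' x x' : ℤ) (X' : IrrCharacter G), (s = 1 ∨ s = -1) → (s' = 1 ∨ s' = -1) →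
      (A : G → ℂ) (σ ^ 2) = ((-s : ℤ) : ℂ) → (A : G → ℂ) 1 = x → (X' : G → ℂ) 1 = x' →
      1 + R.δ * a1 = -s * x - s' * x' →
      (cA : ℂ) * (A : G → ℂ) (σ ^ 2) = 1 ∧
        (F + 2).natAbs ∣ Nat.card G ∧ (2 * F + 1).natAbs ∣ Nat.card G := by
    intro s s' x x' X' hs hs' hv hx hx' hrel
    obtain ⟨k1, k2⟩ := key (-s) hv (by rcases hs with rfl | rfl <;> norm_num)
    refine ⟨by rw [hv]; exact_mod_cast k1, hda k2, ?_⟩
    rw [hx] at hF
    have hF' : cA * x = F := by exact_mod_cast hF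
    have hcs : cA = -s := by
      rcases hs with rfl | rfl <;> rcases hcA with rfl | rfl <;> simp at k1 ⊢
    subst hcs k2
    refine two_degree_dvd (χ := X') (s := s') hs' ?_
    rw [hx']
    have h2 : x' = s' * (2 * F + 1) := by
      rw [neg_mul] at hF' hrel
      rcases hs' with rfl | rfl <;> omega
    exact_mod_cast h2
  rcases hA with rfl | rfl | rfl
  · exfalso
    obtain ⟨k1, k2⟩ := key R.δ (R.val_a 2 two_pos (by norm_num)) R.signδ
    have hcs : cA = R.δ := by
      rcases R.signδ with e | e <;> rw [e] at k1 ⊢ <;> rcases hcA with rfl | rfl <;> simp at k1 ⊢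
    subst hcs k2
    rw [ha1] at hF
    have hF' : R.δ * a1 = F := by exact_mod_cast hF
    have : R.δ * b1 = 0 := by omega
    rcases R.signδ with e | e <;> rw [e] at this <;> omega
  · exact hodd R.δc R.δe c1 e1 R.e R.signc R.signe
      (by rw [R.val_c 2 two_pos (by norm_num)]; push_cast; ring) hc1 he1 hce'
  · exact hodd R.δe R.δc e1 c1 R.c R.signe R.signc
      (by rw [R.val_e 2 two_pos (by norm_num)]; push_cast; ring) he1 hc1 (by linarith)

/-- The values at the central involution of two characters which, with the trivial one, give a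
function vanishing on the 2-singular elements. -/
theorem two_block (d : ResidualData G) (A B : IrrCharacter G)
    (hA : A ≠ Blocks.trivIrr G) (hB : B ≠ Blocks.trivIrr G) (hAB : A ≠ B)
    (cA cB : ℤ) (hcA : cA = 1 ∨ cA = -1) (hcB : cB = 1 ∨ cB = -1)
    (hvan : ∀ g : G, 2 ∣ orderOf g → 1 + (cA : ℂ) * (A : G → ℂ) g + (cB : ℂ) * (B : G → ℂ) g = 0)
    (F E : ℤ) (hF : (cA : ℂ) * (A : G → ℂ) 1 = F) (hE : (cB : ℂ) * (B : G → ℂ) 1 = E)
    (hFE : 1 + F + E = 0) :
    ∃ Y : ℤ, (cA : ℂ) * (A : G → ℂ) d.t = Y ∧ (cB : ℂ) * (B : G → ℂ) d.t = -1 - Y ∧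
      (Y = -1 ∨ Y = 0 ∨
        (Y = 1 ∧ (F + 2).natAbs ∣ Nat.card G ∧ (2 * F + 1).natAbs ∣ Nat.card G) ∨
        (Y = -2 ∧ (E + 2).natAbs ∣ Nat.card G ∧ (2 * E + 1).natAbs ∣ Nat.card G)) := by
  classical
  haveI := Fact.mk Nat.prime_two
  obtain ⟨M, hM⟩ := Blocks.exists_isPModular Nat.prime_two
  haveI := Blocks.isPrime_of_isPModular hM
  have D : DihBlock.Data d.S d.a d.u 2 :=
    DihBlock.data_of_generators d.S (k := 1) one_pos d.a_mem d.u_mem
      (by rw [d.order_a]; norm_num) d.order_u d.u_conj_a d.closure_au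
  have hζ : IsPrimitiveRoot Complex.I (2 * 2) := by
    rw [IsPrimitiveRoot.iff (by norm_num)]
    refine ⟨Complex.I_pow_four, fun l h0 hl => ?_⟩
    interval_cases l <;> norm_num [pow_succ, Complex.ext_iff]
  obtain ⟨R⟩ := DihBlock.exists_rotations D hM hζ
  have ht : d.a ^ 2 = d.t := by rw [pow_two, d.a_sq]
  obtain ⟨Q, -, -, hnpc⟩ := DihBlock.z_centralizer D
  have hto : ∃ k, orderOf (d.a ^ 2) = 2 ^ k := ⟨1, by rw [DihBlock.orderOf_z D, pow_one]⟩
  set C := Subgroup.centralizer ({d.a ^ 2} : Set G)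
  set s : Finset C := Finset.univ.filter fun c : C => ¬ 2 ∣ orderOf c with hs
  have hN : (s.card : ℂ) ≠ 0 := by
    refine Nat.cast_ne_zero.mpr (Finset.card_ne_zero.mpr ⟨1, ?_⟩)
    rw [hs, Finset.mem_filter, orderOf_one]
    exact ⟨Finset.mem_univ _, by decide⟩
  have hcomm : ∀ c : C, Commute (d.a ^ 2) (c : G) := fun c =>
    (Subgroup.mem_centralizer_singleton_iff.mp c.2).symm
  have hsum : ∀ χ : IrrCharacter G, ∑ c ∈ s, (χ : G → ℂ) (d.a ^ 2 * (c : G)) =
      if χ ∈ principalBlock M G then (s.card : ℂ) * (χ : G → ℂ) (d.a ^ 2) else 0 := by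
    intro χ
    split_ifs with hχ
    · rw [Finset.sum_congr rfl fun c hc => DihBlock.value_mul_regular hM hto hnpc hχ (hcomm c)
        (by rw [Subgroup.orderOf_coe]; exact (Finset.mem_filter.mp hc).2), Finset.sum_const, nsmul_eq_mul]
    · exact DihBlock.sum_regular_section hM hto hχ
  have hphi : ∑ c ∈ s, (1 + (cA : ℂ) * (A : G → ℂ) (d.a ^ 2 * (c : G)) +
      (cB : ℂ) * (B : G → ℂ) (d.a ^ 2 * (c : G))) = 0 := by
    refine Finset.sum_eq_zero fun c hc => hvan _ ?_
    have hc2 : ¬ 2 ∣ orderOf (c : G) := by rw [Subgroup.orderOf_coe]; exact (Finset.mem_filter.mp hc).2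
    rw [(hcomm c).orderOf_mul_eq_mul_orderOf_of_coprime (by
      rw [DihBlock.orderOf_z D]
      exact Nat.prime_two.coprime_iff_not_dvd.mpr hc2), DihBlock.orderOf_z D]
    exact dvd_mul_right 2 _
  simp only [Finset.sum_add_distrib, ← Finset.mul_sum, hsum, Finset.sum_const, nsmul_eq_mul] at hphi
  have hall := hvan (d.a ^ 2) (by rw [DihBlock.orderOf_z D])
  rw [← ht]
  by_cases hAm : A ∈ principalBlock M G <;> by_cases hBm : B ∈ principalBlock M G
  · -- both in the block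
    have hkind : ∀ χ : IrrCharacter G, χ ∈ principalBlock M G → χ ≠ Blocks.trivIrr G →
        (χ = R.b 1 ∧ ∃ v : ℤ, (χ : G → ℂ) (d.a ^ 2) = v ∧ (v = 2 ∨ v = -2)) ∨
        ((χ = R.a ∨ χ = R.c ∨ χ = R.e) ∧
          ∃ v : ℤ, (χ : G → ℂ) (d.a ^ 2) = v ∧ (v = 1 ∨ v = -1)) := by
      intro χ hχ hne
      rcases R.cases D hM hχ with h | rfl | rfl | rfl | ⟨j, hj0, hj2, rfl⟩
      · exact absurd h hne
      · exact Or.inr ⟨Or.inl rfl, R.δ, R.val_a 2 two_pos (by norm_num), R.signδ⟩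
      · exact Or.inr ⟨Or.inr (Or.inl rfl), -R.δc,
          by rw [R.val_c 2 two_pos (by norm_num)]; push_cast; ring,
          by rcases R.signc with e | e <;> simp [e]⟩
      · exact Or.inr ⟨Or.inr (Or.inr rfl), -R.δe,
          by rw [R.val_e 2 two_pos (by norm_num)]; push_cast; ring,
          by rcases R.signe with e | e <;> simp [e]⟩
      · obtain rfl : j = 1 := by omega
        refine Or.inl ⟨rfl, -2 * R.δ, ?_, by rcases R.signδ with e | e <;> simp [e]⟩
        rw [R.val_b 1 one_pos one_lt_two 2 two_pos (by norm_num), one_mul, Complex.I_sq]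
        push_cast
        norm_num
        ring
    rcases hkind A hAm hA with ⟨eA, -⟩ | ⟨eA, vA, hvA, hvA'⟩ <;>
      rcases hkind B hBm hB with ⟨eB, -⟩ | ⟨eB, vB, hvB, hvB'⟩
    · exact absurd (eA.trans eB.symm) hAB
    · obtain ⟨h1, h2, h3⟩ := two_block_both Complex.I_sq R eB eA hcB hcA
        (by linear_combination hall) hE hF (by omega)
      exact ⟨-2, by push_cast; linear_combination hall - h1, by rw [h1]; norm_num,
        Or.inr (Or.inr (Or.inr ⟨rfl, h2, h3⟩))⟩
    · obtain ⟨h1, h2, h3⟩ := two_block_both Complex.I_sq R eA eB hcA hcB hall hF hE hFE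
      exact ⟨1, by rw [h1]; norm_num, by push_cast; linear_combination hall - h1,
        Or.inr (Or.inr (Or.inl ⟨rfl, h2, h3⟩))⟩
    · exfalso
      rw [hvA, hvB] at hall
      have h : 1 + cA * vA + cB * vB = 0 := by exact_mod_cast hall
      rcases hcA with rfl | rfl <;> rcases hcB with rfl | rfl <;> omega
  · rw [if_pos hAm, if_neg hBm, mul_zero, add_zero] at hphi
    have h0 : (s.card : ℂ) * (1 + (cA : ℂ) * (A : G → ℂ) (d.a ^ 2)) = 0 := by linear_combination hphi
    have h1 := (mul_eq_zero.mp h0).resolve_left hN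
    exact ⟨-1, by push_cast; linear_combination h1, by push_cast; linear_combination hall - h1, Or.inl rfl⟩
  · rw [if_neg hAm, if_pos hBm, mul_zero, add_zero] at hphi
    have h0 : (s.card : ℂ) * (1 + (cB : ℂ) * (B : G → ℂ) (d.a ^ 2)) = 0 := by linear_combination hphi
    have h1 := (mul_eq_zero.mp h0).resolve_left hN
    exact ⟨0, by push_cast; linear_combination hall - h1, by push_cast; linear_combination h1,
      Or.inr (Or.inl rfl)⟩
  · exfalso
    rw [if_neg hAm, if_neg hBm] at hphi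
    simp [hN] at hphi

end CfsgLib.SuzukiCyclic
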