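import Cfsg.Agent.Lib.SuzukiCyclic.ResidualChar
import Cfsg.Agent.Lib.SuzukiCyclic.ResidualCases
import Cfsg.Agent.Lib.SuzukiCyclic.TwoBlock

/-!
# The residual configuration is impossible
-/

set_option autoImplicit false
set_option linter.style.haveILetI false

universe u

namespace CfsgLib.SuzukiCyclic

/-- No group satisfies the residual configuration. -/
theorem false_of_residual {G : Type u} [Group G] [Finite G] (d : ResidualData G) : False := by
  haveI := Fintype.ofFinite G
  obtain ⟨n, hn, hn2, hno⟩ := d.exists_order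
  obtain ⟨A, B, cA, cB, F, E, hA, hB, hAB, hcA, hcB, hvan, hF, hE, hFE, hF0, hE0, hdeg, hmain⟩ :=
    d.exists_pair hn
  obtain ⟨Y, hY, hZ, hcases⟩ := two_block d A B hA hB hAB cA cB hcA hcB hvan F E hF hE hFE
  exact d.false_of_values hn hn2 hno hFE hF0 hE0 hdeg
    (hmain Y (-1 - Y) hY (by push_cast; exact hZ)) hcases

end CfsgLib.SuzukiCyclic
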