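import Cfsg.Agent.Lib.SuzukiCyclic.DihedralSetting
import Cfsg.Agent.Lib.SuzukiCyclic.DihedralFree
import Cfsg.Agent.Lib.SuzukiCyclic.Residual

/-!
# The dihedral case

If a reflection centralises part of `U = O(C(t))`, the configuration `ResidualData` arises, and it is
impossible; otherwise `G` is `PSL₂(p)`.
-/

set_option autoImplicit false
set_option linter.unusedSectionVars false
set_option linter.style.haveILetI false

namespace CfsgLib.SuzukiCyclic

open Cfsg CfsgLib.Invol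
open CfsgLib.DihBlock (Data)
open scoped commutatorElement

universe u

variable {G : Type u} [Group G] [Finite G]

/-- Any reflection may serve as the second generator. -/
theorem data_refl {P : Sylow 2 G} {σ τ : G} {m : ℕ} (D : Data P σ τ m) (i : ℕ) :
    Data P σ (σ ^ i * τ) m where
  pow_two := D.pow_two
  memσ := D.memσ
  memτ := DihBlock.refl_mem D i
  ordσ := D.ordσ
  sqτ := DihBlock.refl_sq D i
  rel := by
    rw [show σ ^ i * τ * σ * (σ ^ i * τ)⁻¹ = σ ^ i * (τ * σ * τ⁻¹) * (σ ^ i)⁻¹ by group, D.rel]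
    group
  card := D.card
  cases := by
    intro x hx
    obtain ⟨j, rfl | rfl⟩ := D.cases x hx
    · exact ⟨j, Or.inl rfl⟩
    · refine ⟨j + (2 * m - 1) * i, Or.inr ?_⟩
      have hm := DihBlock.two_le D
      rw [← mul_assoc, ← pow_add]
      congr 1
      rw [DihBlock.pow_eq_pow_iff D, show j + (2 * m - 1) * i + i = j + ((2 * m - 1) * i + i) by ring,
        show (2 * m - 1) * i + i = 2 * m * i by
          rw [Nat.sub_mul, one_mul, Nat.sub_add_cancel (Nat.le_mul_of_pos_left i (by omega))],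
        Nat.add_mul_mod_self_left]

/-- The configuration left when a reflection centralises an element of the odd core. -/
theorem false_of_fixed [IsSimpleGroup G] (hna : ¬ IsMulCommutative G) (h : OddCyclic G)
    (ih : SmallerShape G) {P : Sylow 2 G} {σ τ : G} {m : ℕ} {U : Subgroup G} (D : Data P σ τ m)
    (c : Core P (σ ^ m) U) (hone : ∀ x y : G, orderOf x = 2 → orderOf y = 2 → IsConj x y)
    {a : G} (ha : a ∈ U) (ha1 : a ≠ 1) (haτ : Commute a τ) : False := by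
  classical
  haveI := Fact.mk Nat.prime_two
  obtain ⟨n, hn1, hn2⟩ := exists_cycle D c hone
  -- a prime order power
  have hpick : ∀ w ∈ U, w ≠ 1 → Commute w τ → ∃ z ∈ Subgroup.zpowers w, Setting P σ τ m U n z := by
    intro w hw hw1 hwτ
    obtain ⟨q, hq, hqd⟩ := Nat.exists_prime_and_dvd (fun e => hw1 (orderOf_eq_one_iff.1 e))
    refine ⟨w ^ (orderOf w / q), Subgroup.pow_mem _ (Subgroup.mem_zpowers w) _,
      ⟨D, c, hone, hn1, hn2, pow_mem hw _, hwτ.pow_left _, fun e => hq.ne_one ?_⟩⟩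
    rw [← orderOf_pow_orderOf_div (orderOf_pos w).ne' hqd, e, orderOf_one]
  obtain ⟨z, hz, T⟩ := hpick a ha ha1 haτ
  obtain ⟨rfl, hall, -⟩ := T.small hna h ih
  haveI := c.cyclic
  set t := σ ^ 2 with htdef
  have hto : orderOf t = 2 := DihBlock.orderOf_z D
  have htt : t * t = 1 := DihBlock.z_mul_self D
  have hτt : Commute τ t := sylow_comm_t D c D.memτ
  have hnU : ∀ w ∈ U, Commute n w := fun w hw => cycle_commute D c hn1 hn2 hw (hall w hw)
  have hσU : ∀ w ∈ U, σ * w * σ⁻¹ = w⁻¹ := fun w hw => sigma_inv D c hw (hall w hw)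
  have hUU : ∀ {v w : G}, v ∈ U → w ∈ U → Commute v w := fun hv hw => T.U_commute hv hw
  have hn3 : n * (τ * t) * n⁻¹ = τ := by
    rw [show n * (τ * t) * n⁻¹ = n * τ * n⁻¹ * (n * t * n⁻¹) by group, hn1, hn2, ← mul_assoc,
      hτt.symm.eq, mul_assoc, htt, mul_one]
  have htτ : t ≠ τ := fun e => DihBlock.tau_not_mem D (e ▸ pow_mem (Subgroup.mem_zpowers σ) 2)
  have hτ1 : τ ≠ 1 := DihBlock.tau_ne_one D
  have hτt_ne_t : τ * t ≠ t := fun e => hτ1 (mul_eq_right.1 e)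
  have hτt_ne_τ : τ * t ≠ τ := fun e => ne_one_of_orderOf_two hto (mul_eq_left.1 e)
  -- the four group centralises `U`
  have hVU : ∀ w ∈ U, Commute t w ∧ Commute τ w := fun w hw =>
    ⟨(c.comm_t w hw).symm, (hall w hw).symm⟩
  have hfour : ∀ {g : G}, Commute g t → ∀ {w : G}, w ∈ U → w ≠ 1 → Commute g w →
      ∃ o ∈ U, ∃ s ∈ (P : Subgroup G), (s = 1 ∨ s = t ∨ s = τ ∨ s = t * τ) ∧ g = o * s := by
    intro g hg w hw hw1 hgw
    obtain ⟨o, ho, s, hs, rfl⟩ := c.decomp g hg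
    refine ⟨o, ho, s, hs, ?_, rfl⟩
    have hsw : Commute s w := by
      have := (hUU ho hw).inv_left.mul_left hgw
      rwa [inv_mul_cancel_left] at this
    obtain ⟨z', hz', T'⟩ := hpick w hw hw1 (hall w hw)
    obtain ⟨l, hl⟩ := hz'
    obtain ⟨j, hj⟩ := T'.mem_cent_sylow hs (hl ▸ hsw.zpow_right l)
    have hσ2 : σ ^ (2 * j) = 1 ∨ σ ^ (2 * j) = t := by
      rw [pow_mul]
      rcases Nat.even_or_odd' j with ⟨i, rfl | rfl⟩
      · left; rw [pow_mul, pow_two, htt, one_pow]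
      · right; rw [pow_succ, pow_mul, pow_two, htt, one_pow, one_mul]
    rcases hj with hj | hj <;> rcases hσ2 with e | e <;> rw [hj, e]
    · exact Or.inl rfl
    · exact Or.inr (Or.inl rfl)
    · exact Or.inr (Or.inr (Or.inl (one_mul τ)))
    · exact Or.inr (Or.inr (Or.inr rfl))
  -- elements mapping `t` into the four group
  have hsplit : ∀ {g : G}, (g * t * g⁻¹ = t ∨ g * t * g⁻¹ = τ * t ∨ g * t * g⁻¹ = τ) →
      ∃ i, (i = 1 ∨ i = n ∨ i = n * n) ∧ Commute (i⁻¹ * g) t := by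
    intro g hg
    have key : ∀ i : G, i * t * i⁻¹ = g * t * g⁻¹ → Commute (i⁻¹ * g) t := fun i e => by
      refine mul_inv_eq_iff_eq_mul.1 ?_
      calc i⁻¹ * g * t * (i⁻¹ * g)⁻¹ = i⁻¹ * (g * t * g⁻¹) * i := by group
        _ = i⁻¹ * (i * t * i⁻¹) * i := by rw [e]
        _ = t := by group
    rcases hg with e | e | e
    · exact ⟨1, Or.inl rfl, key 1 (by rw [one_mul, inv_one, mul_one, e])⟩
    · exact ⟨n, Or.inr (Or.inl rfl), key n (by rw [hn2, e])⟩
    · refine ⟨n * n, Or.inr (Or.inr rfl), key _ ?_⟩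
      rw [show n * n * t * (n * n)⁻¹ = n * (n * t * n⁻¹) * n⁻¹ by group, hn2, hn3, e]
  -- involutions centralising a nontrivial element of `U`
  have hinv : ∀ {x : G}, orderOf x = 2 → ∀ {w : G}, w ∈ U → w ≠ 1 → Commute x w →
      x = t ∨ x = τ * t ∨ x = τ := by
    intro x hx w hw hw1 hxw
    obtain ⟨z', hz', T'⟩ := hpick w hw hw1 (hall w hw)
    obtain ⟨l, hl⟩ := hz'
    have hxP := (T'.small hna h ih).2.2 x hx (hl ▸ hxw.zpow_right l)
    obtain ⟨o, ho, s, hs, hs4, e⟩ := hfour (sylow_comm_t D c hxP) hw hw1 hxw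
    obtain ⟨-, e2⟩ := decomp_unique D c (one_mem U) ho hxP hs ((one_mul x).trans e)
    rcases hs4 with e3 | e3 | e3 | e3
    · exact absurd (e2.trans e3) (ne_one_of_orderOf_two hx)
    · exact Or.inl (e2.trans e3)
    · exact Or.inr (Or.inr (e2.trans e3))
    · exact Or.inr (Or.inl ((e2.trans e3).trans hτt.symm.eq))
  -- the centraliser of a nontrivial element of `U`
  have hcent : ∀ {w : G}, w ∈ U → w ≠ 1 → ∀ {g : G}, Commute g w →
      ∃ i, (i = 1 ∨ i = n ∨ i = n * n) ∧ ∃ o ∈ U, ∃ s ∈ (P : Subgroup G),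
        (s = 1 ∨ s = t ∨ s = τ ∨ s = t * τ) ∧ g = i * (o * s) := by
    intro w hw hw1 g hg
    obtain ⟨i, hi, hit⟩ := hsplit (hinv (conj_orderOf_two hto g) hw hw1
      ((hg.mul_left (hVU w hw).1).mul_left hg.inv_left))
    have hiw : Commute i w := by
      rcases hi with rfl | rfl | rfl
      exacts [Commute.one_left w, hnU w hw, (hnU w hw).mul_left (hnU w hw)]
    obtain ⟨o, ho, s, hs, hs4, e⟩ := hfour hit hw hw1 (hiw.inv_left.mul_left hg)
    exact ⟨i, hi, o, ho, s, hs, hs4, by rw [← e]; group⟩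
  -- `n ^ 3 ∈ U`
  have hn3t : Commute (n * n * n) t := by
    refine mul_inv_eq_iff_eq_mul.1 ?_
    rw [show n * n * n * t * (n * n * n)⁻¹ = n * (n * (n * t * n⁻¹) * n⁻¹) * n⁻¹ by group, hn2, hn3, hn1]
  have hn3τ : Commute (n * n * n) τ := by
    refine mul_inv_eq_iff_eq_mul.1 ?_
    rw [show n * n * n * τ * (n * n * n)⁻¹ = n * (n * (n * τ * n⁻¹) * n⁻¹) * n⁻¹ by group, hn1, hn2, hn3]
  have hN3 : n * n * n ∈ U := by
    obtain ⟨o, ho, -, s, -, hs4, e⟩ := cent_four D c hn3t hn3τ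
    have hns : n * s * n⁻¹ = s := by
      have h1 : n * (n * n * n) * n⁻¹ = n * n * n := by group
      rw [e, show n * (o * s) * n⁻¹ = n * o * n⁻¹ * (n * s * n⁻¹) by group,
        (hnU o ho).eq, mul_inv_cancel_right] at h1
      exact mul_left_cancel h1
    rcases hs4 with rfl | rfl | rfl | rfl
    · rw [e, mul_one]; exact ho
    · exact absurd (hn2.symm.trans hns) hτt_ne_t
    · exact absurd (hn1.symm.trans hns) htτ
    · rw [hτt.symm.eq] at hns
      exact absurd (hn3.symm.trans hns) hτt_ne_τ.symm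
  -- its `3`-part
  obtain ⟨x, y, hxy, hxn, hyn, ⟨e3, hx3⟩, hy3⟩ := PPrimeAbelian.exists_split Nat.prime_three n
  have hyU : y ∈ U := by
    obtain ⟨j, hj⟩ := (mem_powers_iff_mem_zpowers (x := n)).mpr hyn
    change n ^ j = y at hj
    have hpow : ∀ q : ℕ, n ^ (3 * q) ∈ U := fun q => by
      rw [pow_mul, pow_three, ← mul_assoc]
      exact pow_mem hN3 q
    have hfix : ∀ l : ℕ, Commute (n ^ l) t → 3 ∣ l := by
      intro l hl
      have hq : Commute (n ^ (3 * (l / 3))) t := c.comm_t _ (hpow _)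
      have hr : Commute (n ^ (l % 3)) t := by
        have := hq.inv_left.mul_left hl
        rwa [show (n ^ (3 * (l / 3)))⁻¹ * n ^ l = n ^ (l % 3) by
          rw [inv_mul_eq_iff_eq_mul, ← pow_add, Nat.div_add_mod]] at this
      rcases (show l % 3 = 0 ∨ l % 3 = 1 ∨ l % 3 = 2 by omega) with e | e | e
      · exact Nat.dvd_of_mod_eq_zero e
      · rw [e, pow_one] at hr
        exact absurd (hn2.symm.trans (mul_inv_eq_iff_eq_mul.2 hr.eq)) hτt_ne_t
      · rw [e, pow_two] at hr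
        have e4 := mul_inv_eq_iff_eq_mul.2 hr.eq
        rw [show n * n * t * (n * n)⁻¹ = n * (n * t * n⁻¹) * n⁻¹ by group, hn2, hn3] at e4
        exact absurd e4 htτ.symm
    have h3 : 3 ∣ j * orderOf y := hfix _ (by
      rw [pow_mul, hj, pow_orderOf_eq_one]; exact Commute.one_left t)
    have h3' : 3 ∣ j := (Nat.Coprime.dvd_of_dvd_mul_right hy3.symm h3)
    obtain ⟨q, rfl⟩ := h3'
    exact hj ▸ hpow q
  have hx_eq : x = n * y⁻¹ := by rw [hxy, mul_inv_cancel_right]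
  have hxt : x * t * x⁻¹ = τ * t := by
    rw [hx_eq, show n * y⁻¹ * t * (n * y⁻¹)⁻¹ = n * (y⁻¹ * t * y) * n⁻¹ by group,
      (c.comm_t y hyU).inv_left.eq, inv_mul_cancel_right, hn2]
  have hxτ : x * τ * x⁻¹ = t := by
    rw [hx_eq, show n * y⁻¹ * τ * (n * y⁻¹)⁻¹ = n * (y⁻¹ * τ * y) * n⁻¹ by group,
      (hall y hyU).inv_left.eq, inv_mul_cancel_right, hn1]
  have hxU : ∀ w ∈ U, Commute x w := fun w hw => hx_eq ▸ (hnU w hw).mul_left (hUU (inv_mem hyU) hw)
  obtain ⟨k₀, hk₀⟩ : ∃ v, v = x⁻¹ := ⟨_, rfl⟩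
  have hk₀t : k₀ * t * k₀⁻¹ = τ := by rw [hk₀, ← hxτ]; group
  have hk₀τt : k₀ * (τ * t) * k₀⁻¹ = t := by rw [hk₀, ← hxt]; group
  have hk₀τ : k₀ * τ * k₀⁻¹ = τ * t := by
    have : k₀ * τ * k₀⁻¹ = k₀ * (τ * t) * k₀⁻¹ * (k₀ * t * k₀⁻¹) := by
      rw [show k₀ * (τ * t) * k₀⁻¹ * (k₀ * t * k₀⁻¹) = k₀ * (τ * (t * t)) * k₀⁻¹ by group, htt,
        mul_one]
    rw [this, hk₀τt, hk₀t, hτt.eq]
  have hk₀cube : k₀ * k₀ * k₀ ∈ U := by
    have : x * x * x = n * n * n * (y * y * y)⁻¹ := by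
      have hcy : Commute n y⁻¹ := (hnU y hyU).inv_right
      rw [hx_eq]
      calc n * y⁻¹ * (n * y⁻¹) * (n * y⁻¹) = n * n * (y⁻¹ * y⁻¹) * (n * y⁻¹) := by
            rw [hcy.symm.mul_mul_mul_comm]
        _ = n * n * n * (y⁻¹ * y⁻¹ * y⁻¹) := by rw [(hcy.mul_right hcy).symm.mul_mul_mul_comm]
        _ = n * n * n * (y * y * y)⁻¹ := by group
    have h1 : x * x * x ∈ U := this ▸ U.mul_mem hN3 (U.inv_mem (U.mul_mem (U.mul_mem hyU hyU) hyU))
    rw [hk₀, show x⁻¹ * x⁻¹ * x⁻¹ = (x * x * x)⁻¹ by group]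
    exact U.inv_mem h1
  -- `σ τ` inverts a suitable one
  obtain ⟨j, hjdef⟩ : ∃ v, v = σ * τ := ⟨_, rfl⟩
  have hjo : orderOf j = 2 := by simpa [hjdef] using DihBlock.orderOf_refl D 1
  have hjj := mul_self_of_orderOf_two hjo
  have hjU : ∀ w ∈ U, j * w * j⁻¹ = w⁻¹ := fun w hw => by
    rw [hjdef, show σ * τ * w * (σ * τ)⁻¹ = σ * (τ * w * τ⁻¹) * σ⁻¹ by group, (hVU w hw).2.eq,
      mul_inv_cancel_right, hσU w hw]
  have hjt : j * t * j⁻¹ = t := by
    rw [hjdef, (sylow_comm_t D c (mul_mem D.memσ D.memτ)).eq, mul_inv_cancel_right]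
  have hjτ : j * τ * j⁻¹ = t * τ := by
    rw [hjdef, show σ * τ * τ * (σ * τ)⁻¹ = σ * τ * τ * τ⁻¹ * σ⁻¹ by group]
    have := half_conj D c 0
    simpa [mul_assoc] using this
  have hjτt : j * (τ * t) * j⁻¹ = τ := by
    rw [show j * (τ * t) * j⁻¹ = j * τ * j⁻¹ * (j * t * j⁻¹) by group, hjτ, hjt, mul_assoc, hτt.eq,
      ← mul_assoc, htt, one_mul]
  obtain ⟨y₀, hy₀⟩ : ∃ v, v = j * k₀ * j⁻¹ * k₀ := ⟨_, rfl⟩
  have hjconj : ∀ v : G, j⁻¹ * v * j = j * v * j⁻¹ := fun v => by rw [inv_of_orderOf_two hjo]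
  have hy₀t : Commute y₀ t := by
    refine mul_inv_eq_iff_eq_mul.1 ?_
    rw [hy₀, show j * k₀ * j⁻¹ * k₀ * t * (j * k₀ * j⁻¹ * k₀)⁻¹ =
      j * (k₀ * (j⁻¹ * (k₀ * t * k₀⁻¹) * j) * k₀⁻¹) * j⁻¹ by group, hk₀t,
      show j⁻¹ * τ * j = τ * t by rw [hjconj, hjτ, hτt.eq], hk₀τt, hjt]
  have hy₀τ : Commute y₀ τ := by
    refine mul_inv_eq_iff_eq_mul.1 ?_
    rw [hy₀, show j * k₀ * j⁻¹ * k₀ * τ * (j * k₀ * j⁻¹ * k₀)⁻¹ =
      j * (k₀ * (j⁻¹ * (k₀ * τ * k₀⁻¹) * j) * k₀⁻¹) * j⁻¹ by group, hk₀τ,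
      show j⁻¹ * (τ * t) * j = τ by rw [hjconj, hjτt],
      hk₀τ, hjτt]
  obtain ⟨o, ho, hoτ, s, hs, hs4, hys⟩ := cent_four D c hy₀t hy₀τ
  have hk₀U : ∀ w ∈ U, Commute k₀ w := fun w hw => hk₀ ▸ (hxU w hw).inv_left
  have hrel : k₀ * (o * s) * k₀⁻¹ = j * (o * s) * j⁻¹ := by
    rw [← hys, hy₀]
    calc k₀ * (j * k₀ * j⁻¹ * k₀) * k₀⁻¹ = k₀ * (j * k₀ * j⁻¹) := by group
      _ = (j * j) * k₀ * (j * j)⁻¹ * (j * k₀ * j⁻¹) := by rw [hjj]; group
      _ = j * (j * k₀ * j⁻¹ * k₀) * j⁻¹ := by group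
  rw [show k₀ * (o * s) * k₀⁻¹ = k₀ * o * k₀⁻¹ * (k₀ * s * k₀⁻¹) by group, (hk₀U o ho).eq,
    mul_inv_cancel_right, show j * (o * s) * j⁻¹ = j * o * j⁻¹ * (j * s * j⁻¹) by group, hjU o ho] at hrel
  have hks : k₀ * s * k₀⁻¹ ∈ (P : Subgroup G) := by
    have hv : ∀ v : G, (v = t ∨ v = τ ∨ v = τ * t) → v ∈ (P : Subgroup G) := by
      rintro v (rfl | rfl | rfl)
      exacts [pow_mem D.memσ 2, D.memτ, mul_mem D.memτ (pow_mem D.memσ 2)]
    rcases hs4 with rfl | rfl | rfl | rfl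
    · simp
    · exact hk₀t.symm ▸ hv τ (Or.inr (Or.inl rfl))
    · exact hk₀τ.symm ▸ hv _ (Or.inr (Or.inr rfl))
    · rw [hτt.symm.eq, hk₀τt]; exact hv t (Or.inl rfl)
  obtain ⟨ho1, hs1⟩ := decomp_unique D c ho (inv_mem ho) hks
    (show j * s * j⁻¹ ∈ (P : Subgroup G) by
      rw [hjdef]; exact mul_mem (mul_mem (mul_mem D.memσ D.memτ) hs) (inv_mem (mul_mem D.memσ D.memτ))) hrel
  have ho1' : o = 1 := DGroup.eq_one_of_odd_sq (c.odd_orderOf ho) (eq_inv_iff_mul_eq_one.mp ho1)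
  rw [ho1', one_mul] at hys
  obtain ⟨k, hkU, hkt, hkτ, hk3, hkj, hkord, hkc⟩ : ∃ k : G, (∀ w ∈ U, Commute k w) ∧
      k * t * k⁻¹ = τ ∧ k * τ * k⁻¹ = τ * t ∧ k * k * k ∈ U ∧ j * k * j⁻¹ = k⁻¹ ∧
      orderOf k = 3 ^ e3 ∧ n ∈ U ⊔ Subgroup.closure {t, τ, k} := by
    rcases hs4 with e | e | e | e <;> rw [e] at hys hs1
    · refine ⟨k₀, hk₀U, hk₀t, hk₀τ, hk₀cube, eq_inv_of_mul_eq_one_left ?_, by
        rw [hk₀, orderOf_inv, hx3], ?_⟩
      · rw [← hy₀, hys]
      · rw [hxy, show x = k₀⁻¹ by rw [hk₀, inv_inv]]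
        exact mul_mem (inv_mem (Subgroup.mem_sup_right (Subgroup.subset_closure (by simp))))
          (Subgroup.mem_sup_left hyU)
    · exact absurd (hk₀t.symm.trans (hs1.trans hjt)) htτ.symm
    · refine ⟨τ * k₀ * τ, fun w hw => ((hVU w hw).2.mul_left (hk₀U w hw)).mul_left (hVU w hw).2,
        ?_, ?_, ?_, ?_, ?_, ?_⟩
      · rw [show τ * k₀ * τ * t * (τ * k₀ * τ)⁻¹ = τ * (k₀ * (τ * t * τ⁻¹) * k₀⁻¹) * τ⁻¹ by group,
          hτt.eq, mul_inv_cancel_right, hk₀t, mul_inv_cancel_right]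
      · rw [show τ * k₀ * τ * τ * (τ * k₀ * τ)⁻¹ = τ * (k₀ * τ * k₀⁻¹) * τ⁻¹ by group, hk₀τ,
          mul_assoc τ (τ * t), hτt.eq, mul_inv_cancel_right, ← hτt.eq]
      · have : τ * k₀ * τ * (τ * k₀ * τ) * (τ * k₀ * τ) = τ * (k₀ * k₀ * k₀) * τ⁻¹ := by
          rw [inv_of_orderOf_two (DihBlock.orderOf_tau D),
            show τ * k₀ * τ * (τ * k₀ * τ) * (τ * k₀ * τ) =
              τ * k₀ * (τ * τ) * k₀ * (τ * τ) * k₀ * τ by group, D.sqτ]
          group
        rw [this, (hVU _ hk₀cube).2.eq, mul_inv_cancel_right]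
        exact hk₀cube
      · have hτi := inv_of_orderOf_two (DihBlock.orderOf_tau D)
        have e5 : j * k₀ * j⁻¹ = τ * k₀⁻¹ := by rw [← hys, hy₀]; group
        have e6 : k₀⁻¹ * t = τ * t * k₀⁻¹ := by
          calc k₀⁻¹ * t = k₀⁻¹ * (k₀ * (τ * t) * k₀⁻¹) := by rw [hk₀τt]
            _ = τ * t * k₀⁻¹ := by group
        calc j * (τ * k₀ * τ) * j⁻¹ = (j * τ * j⁻¹) * (j * k₀ * j⁻¹) * (j * τ * j⁻¹) := by group
          _ = t * τ * (τ * k₀⁻¹) * (t * τ) := by rw [hjτ, e5]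
          _ = t * (τ * τ) * (k₀⁻¹ * t) * τ := by group
          _ = t * (τ * t * k₀⁻¹) * τ := by rw [D.sqτ, e6, mul_one]
          _ = (t * τ * t) * k₀⁻¹ * τ := by group
          _ = τ * k₀⁻¹ * τ := by rw [← hτt.eq, mul_assoc τ, htt, mul_one]
          _ = (τ * k₀ * τ)⁻¹ := by rw [mul_inv_rev, mul_inv_rev, hτi, mul_assoc]
      · rw [show τ * k₀ * τ = MulAut.conj τ k₀ by
          rw [MulAut.conj_apply, inv_of_orderOf_two (DihBlock.orderOf_tau D)],
          MulEquiv.orderOf_eq, hk₀, orderOf_inv, hx3]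
      · have hτc : τ ∈ U ⊔ Subgroup.closure {t, τ, τ * k₀ * τ} :=
          Subgroup.mem_sup_right (Subgroup.subset_closure (by simp))
        have hk₀c : k₀ ∈ U ⊔ Subgroup.closure {t, τ, τ * k₀ * τ} := by
          have := mul_mem (mul_mem hτc (Subgroup.mem_sup_right (S := U)
            (Subgroup.subset_closure (show τ * k₀ * τ ∈ ({t, τ, τ * k₀ * τ} : Set G) by simp)))) hτc
          rwa [show τ * (τ * k₀ * τ) * τ = (τ * τ) * k₀ * (τ * τ) by group, D.sqτ, one_mul,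
            mul_one] at this
        rw [hxy, show x = k₀⁻¹ by rw [hk₀, inv_inv]]
        exact mul_mem (inv_mem hk₀c) (Subgroup.mem_sup_left hyU)
    · rw [hτt.symm.eq, hk₀τt, hjτt] at hs1
      exact absurd hs1 htτ
  have he3 : 0 < e3 := by
    rcases Nat.eq_zero_or_pos e3 with e0 | h0
    · rw [e0, pow_zero, orderOf_eq_one_iff] at hkord
      rw [hkord, one_mul, inv_one, mul_one] at hkt
      exact absurd hkt htτ
    · exact h0
  -- `U` is nontrivial
  have hUne : U ≠ ⊥ := fun e => ha1 (by rw [e, Subgroup.mem_bot] at ha; exact ha)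
  have hcentw : ∀ w ∈ U, w ≠ 1 →
      Subgroup.centralizer ({w} : Set G) = U ⊔ Subgroup.closure {t, τ, k} := by
    intro w hw hw1
    refine le_antisymm (fun g hg => ?_) (sup_le (fun v hv =>
      Subgroup.mem_centralizer_singleton_iff.2 (hUU hv hw).eq) ?_)
    · obtain ⟨i, hi, o', ho', s', -, hs', rfl⟩ :=
        hcent hw hw1 (Subgroup.mem_centralizer_singleton_iff.1 hg)
      have hgen : ∀ v ∈ ({t, τ, k} : Set G), v ∈ U ⊔ Subgroup.closure {t, τ, k} := fun v hv =>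
        Subgroup.mem_sup_right (Subgroup.subset_closure hv)
      refine mul_mem ?_ (mul_mem (Subgroup.mem_sup_left ho') ?_)
      · rcases hi with rfl | rfl | rfl
        exacts [one_mem _, hkc, mul_mem hkc hkc]
      · rcases hs' with e | e | e | e <;> rw [e]
        exacts [one_mem _, hgen t (by simp), hgen τ (by simp),
          mul_mem (hgen t (by simp)) (hgen τ (by simp))]
    · rw [Subgroup.closure_le]
      rintro v (rfl | rfl | rfl)
      exacts [Subgroup.mem_centralizer_singleton_iff.2 (hVU w hw).1.eq,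
        Subgroup.mem_centralizer_singleton_iff.2 (hVU w hw).2.eq,
        Subgroup.mem_centralizer_singleton_iff.2 (hkU w hw).eq]
  -- orders
  have hcardt : Nat.card ↥(Subgroup.centralizer ({t} : Set G)) = 8 * Nat.card U := by
    let f : U × (P : Subgroup G) → Subgroup.centralizer ({t} : Set G) := fun q =>
      ⟨(q.1 : G) * q.2, Subgroup.mem_centralizer_singleton_iff.2
        ((c.comm_t _ q.1.2).mul_left (sylow_comm_t D c q.2.2)).eq⟩
    have hf : Function.Bijective f := by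
      constructor
      · rintro ⟨o₁, s₁⟩ ⟨o₂, s₂⟩ e
        obtain ⟨e1, e2⟩ := decomp_unique D c o₁.2 o₂.2 s₁.2 s₂.2 (congrArg Subtype.val e)
        exact Prod.ext (Subtype.ext e1) (Subtype.ext e2)
      · rintro ⟨g, hg⟩
        obtain ⟨o₁, ho₁, s₁, hs₁, e⟩ := c.decomp g (Subgroup.mem_centralizer_singleton_iff.1 hg)
        exact ⟨(⟨o₁, ho₁⟩, ⟨s₁, hs₁⟩), Subtype.ext e.symm⟩
    rw [← Nat.card_congr (Equiv.ofBijective f hf), Nat.card_prod, D.card]
    ring
  have hthree : ∀ H : Subgroup G, n ∈ H →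
      (∀ g ∈ H, g * t * g⁻¹ = t ∨ g * t * g⁻¹ = τ * t ∨ g * t * g⁻¹ = τ) →
      Nat.card H = 3 * Nat.card ↥(H ⊓ Subgroup.centralizer ({t} : Set G)) := by
    intro H hnH hH
    let e : Fin 3 → G := ![1, n, n * n]
    have heH : ∀ i, e i ∈ H := by
      intro i; fin_cases i <;> simp [e, hnH, H.mul_mem hnH hnH]
    let f : Fin 3 × ↥(H ⊓ Subgroup.centralizer ({t} : Set G)) → H := fun q =>
      ⟨e q.1 * q.2, H.mul_mem (heH q.1) q.2.2.1⟩
    have himg : ∀ i, e i * t * (e i)⁻¹ = ![t, τ * t, τ] i := by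
      intro i
      fin_cases i
      · simp [e]
      · simpa [e] using hn2
      · show n * n * t * (n * n)⁻¹ = τ
        rw [show n * n * t * (n * n)⁻¹ = n * (n * t * n⁻¹) * n⁻¹ by group, hn2, hn3]
    have hinj : Function.Injective (![t, τ * t, τ] : Fin 3 → G) := by
      intro i₁ i₂ e'
      fin_cases i₁ <;> fin_cases i₂ <;>
        simp [htτ, htτ.symm, hτt_ne_t, hτt_ne_t.symm, hτt_ne_τ, hτt_ne_τ.symm, hτ1,
          ne_one_of_orderOf_two hto] at e' ⊢
    have hf : Function.Bijective f := by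
      constructor
      · rintro ⟨i₁, x₁⟩ ⟨i₂, x₂⟩ e'
        have e1 : e i₁ * x₁ = e i₂ * x₂ := congrArg Subtype.val e'
        have hx : ∀ (v : ↥(H ⊓ Subgroup.centralizer ({t} : Set G))), (v : G) * t * (v : G)⁻¹ = t :=
          fun v => by
            rw [Subgroup.mem_centralizer_singleton_iff.1 v.2.2, mul_inv_cancel_right]
        have hi12 : i₁ = i₂ := hinj (by
          rw [← himg, ← himg]
          calc e i₁ * t * (e i₁)⁻¹ = e i₁ * ((x₁ : G) * t * (x₁ : G)⁻¹) * (e i₁)⁻¹ := by rw [hx]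
            _ = (e i₁ * x₁) * t * (e i₁ * x₁)⁻¹ := by group
            _ = (e i₂ * x₂) * t * (e i₂ * x₂)⁻¹ := by rw [e1]
            _ = e i₂ * ((x₂ : G) * t * (x₂ : G)⁻¹) * (e i₂)⁻¹ := by group
            _ = e i₂ * t * (e i₂)⁻¹ := by rw [hx])
        subst hi12
        exact Prod.ext rfl (Subtype.ext (mul_left_cancel e1))
      · rintro ⟨g, hg⟩
        obtain ⟨i, hi, hit⟩ := hsplit (hH g hg)
        obtain ⟨l, rfl⟩ : ∃ l, e l = i := by
          rcases hi with rfl | rfl | rfl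
          exacts [⟨0, rfl⟩, ⟨1, rfl⟩, ⟨2, rfl⟩]
        exact ⟨(l, ⟨(e l)⁻¹ * g, H.mul_mem (H.inv_mem (heH l)) hg,
          Subgroup.mem_centralizer_singleton_iff.2 hit.eq⟩), Subtype.ext (mul_inv_cancel_left _ _)⟩
    rw [← Nat.card_congr (Equiv.ofBijective f hf), Nat.card_prod]
    simp
  have hcardw : ∀ w ∈ U, w ≠ 1 → Nat.card ↥(Subgroup.centralizer ({w} : Set G)) = 12 * Nat.card U := by
    intro w hw hw1
    set Cw := Subgroup.centralizer ({w} : Set G) with hCw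
    have h1 := hthree Cw (Subgroup.mem_centralizer_singleton_iff.2 (hnU w hw).eq) fun g hg =>
      hinv (conj_orderOf_two hto g) hw hw1
        (((show Commute g w from Subgroup.mem_centralizer_singleton_iff.1 hg).mul_left (hVU w hw).1).mul_left
          (show Commute g w from Subgroup.mem_centralizer_singleton_iff.1 hg).inv_left)
    have hnσ : σ ∉ Cw := fun hσ => by
      have e := hσU w hw
      rw [show σ * w = w * σ from Subgroup.mem_centralizer_singleton_iff.1 hσ, mul_inv_cancel_right] at e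
      exact hw1 (DGroup.eq_one_of_odd_sq (c.odd_orderOf hw) (eq_inv_iff_mul_eq_one.mp e))
    have h2 := DGroup.card_two_coset (H := Subgroup.centralizer ({t} : Set G))
      (K := Cw ⊓ Subgroup.centralizer ({t} : Set G)) inf_le_right
      (Subgroup.mem_centralizer_singleton_iff.2 (sylow_comm_t D c D.memσ).eq) (fun e => hnσ e.1)
      (fun g hg => by
        obtain ⟨o', ho', s', hs', e⟩ := c.decomp g (Subgroup.mem_centralizer_singleton_iff.1 hg)
        have hσ2 : ∀ l : ℕ, σ ^ (2 * l) ∈ Cw := fun l => by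
          rw [pow_mul]
          exact pow_mem (Subgroup.mem_centralizer_singleton_iff.2 (hVU w hw).1.eq) l
        have hτC : τ ∈ Cw := Subgroup.mem_centralizer_singleton_iff.2 (hVU w hw).2.eq
        have ho'C : o' ∈ Cw := Subgroup.mem_centralizer_singleton_iff.2 (hUU ho' hw).eq
        have hσg : σ * g = (σ * o' * σ⁻¹) * (σ * s') := by rw [e]; group
        have hσo : σ * o' * σ⁻¹ ∈ Cw := by rw [hσU o' ho']; exact inv_mem ho'C
        have hσt : σ ∈ Subgroup.centralizer ({t} : Set G) :=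
          Subgroup.mem_centralizer_singleton_iff.2 (sylow_comm_t D c D.memσ).eq
        obtain ⟨i, hi⟩ := D.cases s' hs'
        rcases Nat.even_or_odd' i with ⟨l, rfl | rfl⟩
        · left
          refine ⟨?_, hg⟩
          rcases hi with rfl | rfl
          · exact e ▸ mul_mem ho'C (hσ2 l)
          · exact e ▸ mul_mem ho'C (mul_mem (hσ2 l) hτC)
        · right
          refine ⟨?_, mul_mem hσt hg⟩
          rw [hσg]
          refine mul_mem hσo ?_
          rcases hi with rfl | rfl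
          · rw [← pow_succ']; exact hσ2 (l + 1)
          · rw [← mul_assoc, ← pow_succ']; exact mul_mem (hσ2 (l + 1)) hτC)
    omega
  have hnormw : ∀ w ∈ U, w ≠ 1 → ∀ g : G, g * w * g⁻¹ ∈ U →
      (g * t * g⁻¹ = t ∨ g * t * g⁻¹ = τ * t ∨ g * t * g⁻¹ = τ) ∧
        (g * w * g⁻¹ = w ∨ g * w * g⁻¹ = w⁻¹) := by
    intro w hw hw1 g hgw
    obtain ⟨⟨u₀, hu₀⟩, hgen⟩ := c.cyclic.exists_generator
    have hUgen : ∀ v ∈ U, v ∈ Subgroup.zpowers u₀ := fun v hv => by
      obtain ⟨l, hl⟩ := hgen ⟨v, hv⟩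
      exact ⟨l, congrArg Subtype.val hl⟩
    obtain ⟨l, hl⟩ := DihBlock.mem_zpowers_of_same_order (hUgen _ hgw) (hUgen w hw)
      (by rw [← MulAut.conj_apply, MulEquiv.orderOf_eq])
    have hcomm : Commute (g * t * g⁻¹) (g * w * g⁻¹) := Commute.conj (hVU w hw).1 g
    have hg' := hinv (conj_orderOf_two hto g) hw hw1 (hl ▸ hcomm.zpow_right l)
    refine ⟨hg', ?_⟩
    obtain ⟨i, hi, hit⟩ := hsplit hg'
    obtain ⟨o', ho', s', hs', e⟩ := c.decomp _ hit
    have hiU : ∀ v ∈ U, i * v * i⁻¹ = v := fun v hv => by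
      refine mul_inv_eq_iff_eq_mul.2 (Commute.eq ?_)
      rcases hi with rfl | rfl | rfl
      exacts [Commute.one_left v, hnU v hv, (hnU v hv).mul_left (hnU v hv)]
    have hge : g = i * (o' * s') := by rw [← e]; group
    have hs'w : s' * w * s'⁻¹ = w ∨ s' * w * s'⁻¹ = w⁻¹ := by
      have hev : ∀ l : ℕ, σ ^ (2 * l) * w * (σ ^ (2 * l))⁻¹ = w := fun l => by
        rw [pow_mul, ((hVU w hw).1.pow_left l).eq, mul_inv_cancel_right]
      have hτw : τ * w * τ⁻¹ = w := by rw [(hVU w hw).2.eq, mul_inv_cancel_right]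
      obtain ⟨q, hq⟩ := D.cases s' hs'
      rcases Nat.even_or_odd' q with ⟨l, rfl | rfl⟩
      · left
        rcases hq with rfl | rfl
        · exact hev l
        · rw [show σ ^ (2 * l) * τ * w * (σ ^ (2 * l) * τ)⁻¹ =
            σ ^ (2 * l) * (τ * w * τ⁻¹) * (σ ^ (2 * l))⁻¹ by group, hτw, hev]
      · right
        have hodd : σ ^ (2 * l + 1) * w * (σ ^ (2 * l + 1))⁻¹ = w⁻¹ := by
          rw [pow_succ', show σ * σ ^ (2 * l) * w * (σ * σ ^ (2 * l))⁻¹ =
            σ * (σ ^ (2 * l) * w * (σ ^ (2 * l))⁻¹) * σ⁻¹ by group, hev, hσU w hw]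
        rcases hq with rfl | rfl
        · exact hodd
        · rw [show σ ^ (2 * l + 1) * τ * w * (σ ^ (2 * l + 1) * τ)⁻¹ =
            σ ^ (2 * l + 1) * (τ * w * τ⁻¹) * (σ ^ (2 * l + 1))⁻¹ by group, hτw, hodd]
    have hfin : g * w * g⁻¹ = s' * w * s'⁻¹ := by
      rw [hge, show i * (o' * s') * w * (i * (o' * s'))⁻¹ = i * (o' * (s' * w * s'⁻¹) * o'⁻¹) * i⁻¹
        by group]
      have hsU : s' * w * s'⁻¹ ∈ U := sylow_norm D c hs' hw
      rw [(hUU ho' hsU).eq, mul_inv_cancel_right, hiU _ hsU]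
    rw [hfin]
    exact hs'w
  have hnormU : Nat.card ↥(Subgroup.normalizer (U : Set G)) = 24 * Nat.card U := by
    obtain ⟨⟨w₀, hw₀⟩, hw₀1⟩ := Subgroup.ne_bot_iff_exists_ne_one.1 hUne
    have h1 := hthree (Subgroup.normalizer (U : Set G))
      (PrimaryParts.mem_normalizer_of_conj_mem fun v hv => by
        rwa [(hnU v hv).eq, mul_inv_cancel_right])
      (fun g hg => (hnormw w₀ hw₀ (fun e => hw₀1 (Subtype.ext e)) g
        ((Subgroup.mem_normalizer_iff.1 hg w₀).1 hw₀)).1)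
    rw [inf_eq_right.2 (fun g hg => norm_of_commute D c (Subgroup.mem_centralizer_singleton_iff.1 hg)),
      hcardt] at h1
    omega
  exact false_of_residual
    { S := P, t := t, u := τ, a := σ, k := k, U := U
      card_S := by rw [D.card]
      u_mem := D.memτ
      a_mem := D.memσ
      order_u := DihBlock.orderOf_tau D
      order_a := by rw [D.ordσ]
      a_sq := (pow_two σ).symm
      u_ne := htτ.symm
      u_conj_a := D.rel
      perfect := by
        rcases (inferInstance : (commutator G).Normal).eq_bot_or_eq_top with e | e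
        · exact absurd ⟨⟨fun v w => commutatorElement_eq_one_iff_mul_comm.1 (Subgroup.mem_bot.1
            (e ▸ Subgroup.commutator_mem_commutator (Subgroup.mem_top v) (Subgroup.mem_top w)))⟩⟩ hna
        · exact e
      simple := inferInstance
      one_class := hone
      oddCyclic := h
      odd_U := c.odd
      U_ne := hUne
      cyclic_U := c.cyclic
      t_U := fun v hv => (hVU v hv).1.eq
      u_U := fun v hv => (hVU v hv).2.eq
      a_U := hσU
      cent_t := by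
        refine le_antisymm (fun g hg => ?_) (sup_le (fun v hv =>
          Subgroup.mem_centralizer_singleton_iff.2 (c.comm_t v hv).eq) fun v hv =>
          Subgroup.mem_centralizer_singleton_iff.2 (sylow_comm_t D c hv).eq)
        obtain ⟨o', ho', s', hs', rfl⟩ := c.decomp g (Subgroup.mem_centralizer_singleton_iff.1 hg)
        exact mul_mem (Subgroup.mem_sup_left ho') (Subgroup.mem_sup_right hs')
      card_cent_t := hcardt
      k_three := ⟨e3, he3, hkord⟩
      k_cube := by rw [pow_three, ← mul_assoc]; exact hk3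
      k_U := fun v hv => (hkU v hv).eq
      k_t := hkt
      k_u := by rw [hkτ, hτt.eq]
      au_k := by rw [← hjdef]; exact hkj
      cent_w := hcentw
      card_cent_w := hcardw
      norm_w := fun w hw hw1 g hg => (hnormw w hw hw1 g hg).2
      norm_U := hnormU }

/-- The dihedral case. -/
theorem simple_dihedral [IsSimpleGroup G] (hna : ¬ IsMulCommutative G) (h : OddCyclic G)
    (ih : SmallerShape G) (S : Sylow 2 G) (m : ℕ) (hm : 4 ≤ m)
    (eS : Nonempty (↥(S : Subgroup G) ≃* DihedralGroup m)) : SimpleConcl G := by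
  classical
  haveI := Fact.mk Nat.prime_two
  obtain ⟨e⟩ := eS
  haveI : NeZero m := ⟨by omega⟩
  obtain ⟨b, hb⟩ := S.2.exists_card_eq
  have hcard : Nat.card (S : Subgroup G) = 2 * m := by
    rw [Nat.card_congr e.toEquiv, DihedralGroup.nat_card]
  rw [hcard] at hb
  obtain ⟨k, rfl⟩ : ∃ k, b = k + 3 := ⟨b - 3, by
    by_contra hne
    have := Nat.pow_le_pow_right two_pos (show b ≤ 2 by omega)
    omega⟩
  have hmk : m = 2 * 2 ^ (k + 1) := by
    have h8 : 2 ^ (k + 3) = 2 * (2 * 2 ^ (k + 1)) := by ring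
    omega
  set σ₀ : (S : Subgroup G) := e.symm (DihedralGroup.r 1)
  have hσo : orderOf (σ₀ : G) = m := by
    rw [Subgroup.orderOf_coe, MulEquiv.orderOf_eq, DihedralGroup.orderOf_r_one]
  obtain ⟨τ, D⟩ := DihBlock.data_of_iso S (Nat.succ_pos k) hmk e σ₀.2 hσo
  have hone := one_class_of_simple hna S (k := k + 2) (by omega)
    ⟨e.trans (by rw [hmk, show 2 * 2 ^ (k + 1) = 2 ^ (k + 2) by ring])⟩
  have eP : Nonempty ((S : Subgroup G) ≃* DihedralGroup (2 * 2 ^ (k + 1))) := hmk ▸ ⟨e⟩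
  obtain ⟨U, c⟩ := exists_core hna h D eP
  by_cases hfree : ∀ i : ℕ, ∀ a ∈ U, Commute a ((σ₀ : G) ^ i * τ) → a = 1
  · exact simple_free hna h D c hone eP hfree
  · exfalso
    push Not at hfree
    obtain ⟨i, a, ha, hai, ha1⟩ := hfree
    exact false_of_fixed hna h ih (data_refl D i) c hone ha ha1 hai

end CfsgLib.SuzukiCyclic
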