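import Cfsg.Agent.Lib.SuzukiCyclic.Reduce
import Cfsg.Agent.Lib.SuzukiCyclic.Dihedral

/-!
The shape theorem with the dihedral case plugged in.
-/

set_option autoImplicit false

universe u

namespace CfsgLib.SuzukiCyclic

/-- The dihedral simple case. -/
theorem dihedralCase : DihedralCase.{u} := by
  intro T _ _ _ hna h ih S m hm hd
  exact simple_dihedral hna h ih S m hm hd

/-- The shape, given the semidihedral case. -/
theorem shape_of_semidihedralCase {G : Type u} [Group G] [Finite G] (hE : SemidihedralCase.{u})
    (hns : ¬ Group.IsSolvable G) (h : OddCyclic G) (h2 : TwoCyclicIndex G) : Shape G :=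
  shape_of_cases dihedralCase hE hns h h2

end CfsgLib.SuzukiCyclic
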