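import Mathlib
import Mathlib.GroupTheory.SpecificGroups.Dihedral
import Mathlib.GroupTheory.Sylow

/-!
# Groups all of whose odd Sylow subgroups are cyclic: vocabulary

See `notes/s4069_plan.md`. `Shape` is the conclusion of the theorem, `SmallerShape` the induction
hypothesis for a minimal counterexample, `ResidualData` the interface between the local analysis of the
dihedral case and the character argument which refutes it.
-/

set_option autoImplicit false

universe u

namespace CfsgLib.SuzukiCyclic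

/-- Every Sylow subgroup for an odd prime is cyclic. -/
def OddCyclic (G : Type u) [Group G] : Prop :=
  ∀ p : ℕ, p.Prime → p ≠ 2 → ∀ P : Sylow p G, IsCyclic P

/-- A Sylow 2-subgroup has a cyclic subgroup of index at most two. -/
def TwoCyclicIndex (G : Type u) [Group G] : Prop :=
  ∀ S : Sylow 2 G, ∃ C : Subgroup ↥(S : Subgroup G), IsCyclic C ∧ C.index ∣ 2

/-- The conclusion of the theorem. -/
def Shape (G : Type u) [Group G] : Prop :=
  ∃ G₀ : Subgroup G, G₀.Normal ∧ G₀.index ∣ 2 ∧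
    ∃ X L : Subgroup ↥G₀, X.Normal ∧ L.Normal ∧ X ⊓ L = ⊥ ∧ X ⊔ L = ⊤ ∧
      (Nat.card X).Coprime (Nat.card L) ∧
      Odd (Nat.card X) ∧ (∃ (C : Subgroup ↥X) (_ : C.Normal), IsCyclic C ∧ IsCyclic (↥X ⧸ C)) ∧
      ∃ (p : ℕ) (_ : Fact p.Prime), 5 ≤ p ∧
        (Nonempty (↥L ≃* Matrix.ProjectiveSpecialLinearGroup (Fin 2) (ZMod p)) ∨
         Nonempty (↥L ≃* Matrix.SpecialLinearGroup (Fin 2) (ZMod p)))

/-- The induction hypothesis: every proper nonsolvable subgroup has the shape. -/
def SmallerShape (G : Type u) [Group G] : Prop :=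
  ∀ H : Subgroup G, H ≠ ⊤ → ¬ Group.IsSolvable ↥H → Shape ↥H

/-- The conclusion in the simple case. -/
def SimpleConcl (G : Type u) [Group G] : Prop :=
  ∃ (p : ℕ) (_ : Fact p.Prime), 5 ≤ p ∧
    Nonempty (G ≃* Matrix.ProjectiveSpecialLinearGroup (Fin 2) (ZMod p))

/-- The configuration left over by the local analysis of a dihedral Sylow 2-subgroup: it has order 8,
`U = O(C(t))` is cyclic and nontrivial, centralised by the four group `⟨t, u⟩` and inverted by `a`,
`k` is a `3`-element centralising `U` and permuting the four group, `a * u` inverts `k`, and all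
nontrivial elements of `U` have the same normalizer, of order `24 |U|`. -/
structure ResidualData (G : Type u) [Group G] where
  /-- A Sylow 2-subgroup. -/
  S : Sylow 2 G
  /-- Its central involution. -/
  t : G
  /-- A reflection. -/
  u : G
  /-- A rotation of order four. -/
  a : G
  /-- A 3-element permuting the four group. -/
  k : G
  /-- The odd core of the centralizer of `t`. -/
  U : Subgroup G
  card_S : Nat.card ↥(S : Subgroup G) = 8
  u_mem : u ∈ (S : Subgroup G)
  a_mem : a ∈ (S : Subgroup G)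
  order_u : orderOf u = 2
  order_a : orderOf a = 4
  a_sq : a * a = t
  u_ne : u ≠ t
  u_conj_a : u * a * u⁻¹ = a⁻¹
  perfect : commutator G = ⊤
  simple : IsSimpleGroup G
  one_class : ∀ x y : G, orderOf x = 2 → orderOf y = 2 → IsConj x y
  oddCyclic : OddCyclic G
  odd_U : Odd (Nat.card U)
  U_ne : U ≠ ⊥
  cyclic_U : IsCyclic U
  t_U : ∀ x ∈ U, t * x = x * t
  u_U : ∀ x ∈ U, u * x = x * u
  a_U : ∀ x ∈ U, a * x * a⁻¹ = x⁻¹
  cent_t : Subgroup.centralizer ({t} : Set G) = U ⊔ (S : Subgroup G)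
  card_cent_t : Nat.card ↥(Subgroup.centralizer ({t} : Set G)) = 8 * Nat.card U
  k_three : ∃ e : ℕ, 0 < e ∧ orderOf k = 3 ^ e
  k_cube : k ^ 3 ∈ U
  k_U : ∀ x ∈ U, k * x = x * k
  k_t : k * t * k⁻¹ = u
  k_u : k * u * k⁻¹ = t * u
  au_k : (a * u) * k * (a * u)⁻¹ = k⁻¹
  cent_w : ∀ w ∈ U, w ≠ 1 → Subgroup.centralizer ({w} : Set G) = U ⊔ Subgroup.closure {t, u, k}
  card_cent_w : ∀ w ∈ U, w ≠ 1 → Nat.card ↥(Subgroup.centralizer ({w} : Set G)) = 12 * Nat.card U
  norm_w : ∀ w ∈ U, w ≠ 1 → ∀ g : G, g * w * g⁻¹ ∈ U →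
    g * w * g⁻¹ = w ∨ g * w * g⁻¹ = w⁻¹
  norm_U : Nat.card ↥(Subgroup.normalizer (U : Set G)) = 24 * Nat.card U

end CfsgLib.SuzukiCyclic
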