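import Cfsg.Agent.Lib.SuzukiCyclic.Defs
import Cfsg.Agent.Lib.DGroup.Tools
import Cfsg.Agent.Lib.PPrimeAbelian.Tools
import Cfsg.Agent.Lib.DihBlock.Centralizer
import Cfsg.Agent.Lib.Elem.PrimaryParts
import Cfsg.Agent.Lib.Coprime.Action

/-!
# A dihedral Sylow 2-subgroup, odd Sylow subgroups cyclic: the odd core of `C(t)` is cyclic

`C_U(S) = 1` by Burnside's transfer, hence `U = [U, S]`, which acts trivially on its derived subgroup.
-/

set_option autoImplicit false
set_option linter.unusedSectionVars false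
set_option linter.style.haveILetI false

namespace CfsgLib.SuzukiCyclic

open Cfsg CfsgLib.Invol
open scoped commutatorElement

open CfsgLib.DihBlock (Data)

universe u

variable {G : Type u} [Group G] [Finite G]

/-- Conjugations by elements normalising a cyclic subgroup commute on it. -/
theorem conj_comm_of_cyclic {K : Subgroup G} (hK : IsCyclic K) {g h x : G}
    (hg : g ∈ Subgroup.normalizer (K : Set G)) (hh : h ∈ Subgroup.normalizer (K : Set G)) (hx : x ∈ K) :
    g * (h * x * h⁻¹) * g⁻¹ = h * (g * x * g⁻¹) * h⁻¹ := by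
  obtain ⟨⟨c, hc⟩, hgen⟩ := hK.exists_generator
  have hz : ∀ y ∈ K, ∃ i : ℤ, c ^ i = y := fun y hy => by
    obtain ⟨i, hi⟩ := hgen ⟨y, hy⟩
    exact ⟨i, congrArg Subtype.val hi⟩
  obtain ⟨i, hi⟩ := hz _ ((Subgroup.mem_normalizer_iff.1 hg c).1 hc)
  obtain ⟨j, hj⟩ := hz _ ((Subgroup.mem_normalizer_iff.1 hh c).1 hc)
  obtain ⟨n, rfl⟩ := hz x hx
  have hgn : ∀ l : ℤ, g * c ^ l * g⁻¹ = c ^ (i * l) := fun l => by
    rw [← conj_zpow, ← hi, ← zpow_mul]
  have hhn : ∀ l : ℤ, h * c ^ l * h⁻¹ = c ^ (j * l) := fun l => by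
    rw [← conj_zpow, ← hj, ← zpow_mul]
  rw [hhn, hgn, hgn, hhn]
  congr 1
  ring

/-- A commutator of elements normalising a cyclic subgroup centralises it. -/
theorem commutator_commute {K : Subgroup G} (hK : IsCyclic K) {g h x : G}
    (hg : g ∈ Subgroup.normalizer (K : Set G)) (hh : h ∈ Subgroup.normalizer (K : Set G)) (hx : x ∈ K) :
    Commute ⁅g, h⁆ x := by
  have hy : g⁻¹ * (h⁻¹ * x * h) * g ∈ K := by
    have h1 := (Subgroup.mem_normalizer_iff.1 (inv_mem hh) x).1 hx
    rw [inv_inv] at h1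
    have h2 := (Subgroup.mem_normalizer_iff.1 (inv_mem hg) _).1 h1
    rwa [inv_inv] at h2
  refine mul_inv_eq_iff_eq_mul.1 ?_
  calc ⁅g, h⁆ * x * ⁅g, h⁆⁻¹ = g * (h * (g⁻¹ * (h⁻¹ * x * h) * g) * h⁻¹) * g⁻¹ := by
        rw [commutatorElement_def]; group
    _ = h * (g * (g⁻¹ * (h⁻¹ * x * h) * g) * g⁻¹) * h⁻¹ := conj_comm_of_cyclic hK hg hh hy
    _ = x := by group

/-- An odd subgroup is a Z-group. -/
theorem OddCyclic.isZGroup (h : OddCyclic G) {U : Subgroup G} (hU : Odd (Nat.card U)) : IsZGroup U := by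
  refine ⟨fun p hp Q => ?_⟩
  haveI := Fact.mk hp
  by_cases hp2 : p = 2
  · haveI : Subsingleton Q := by
      obtain ⟨n, hn⟩ := Q.2.exists_card_eq
      rcases Nat.eq_zero_or_pos n with rfl | hn0
      · exact (Nat.card_eq_one_iff_unique.1 (by simpa using hn)).1
      · exact absurd (hp2 ▸ hn ▸ dvd_pow_self p hn0.ne' : 2 ∣ Nat.card (Q : Subgroup U))
          (fun h2 => hU.not_two_dvd_nat (h2.trans (Subgroup.card_subgroup_dvd_card _)))
    exact isCyclic_of_subsingleton
  · obtain ⟨R, hR⟩ := (Q.2.map U.subtype).exists_le_sylow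
    haveI := h p hp hp2 R
    haveI : IsCyclic ((Q : Subgroup U).map U.subtype) := Subgroup.isCyclic_of_le hR
    exact isCyclic_of_injective
      ((Q : Subgroup U).equivMapOfInjective U.subtype U.subtype_injective).toMonoidHom
      (MulEquiv.injective _)

/-- The odd core `U` of the centraliser of the central involution `t` of `P`. -/
structure Core (P : Sylow 2 G) (t : G) (U : Subgroup G) : Prop where
  odd : Odd (Nat.card U)
  cyclic : IsCyclic U
  comm_t : ∀ a ∈ U, Commute a t
  mem_of_odd : ∀ a : G, Odd (orderOf a) → Commute a t → a ∈ U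
  normal : ∀ g : G, Commute g t → ∀ a ∈ U, g * a * g⁻¹ ∈ U
  decomp : ∀ g : G, Commute g t → ∃ o ∈ U, ∃ s ∈ (P : Subgroup G), g = o * s
  fix_sylow : ∀ a ∈ U, (∀ s ∈ (P : Subgroup G), Commute a s) → a = 1

theorem Core.odd_orderOf {P : Sylow 2 G} {t : G} {U : Subgroup G} (c : Core P t U) {a : G}
    (ha : a ∈ U) : Odd (orderOf a) :=
  c.odd.of_dvd_nat (U.orderOf_dvd_natCard ha)

theorem eq_one_of_odd_of_mem_sylow {P : Sylow 2 G} {x : G} (ho : Odd (orderOf x))
    (hx : x ∈ (P : Subgroup G)) : x = 1 := by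
  haveI := Fact.mk Nat.prime_two
  obtain ⟨k, hk⟩ := P.2 ⟨x, hx⟩
  rw [← orderOf_eq_one_iff]
  refine Nat.eq_one_of_dvd_coprimes (a := orderOf x) (b := 2 ^ k) ?_ dvd_rfl
    (orderOf_dvd_of_pow_eq_one (congrArg Subtype.val hk))
  exact (Nat.coprime_two_right.2 ho).pow_right _

theorem exists_core [IsSimpleGroup G] (hna : ¬ IsMulCommutative G) (h : OddCyclic G)
    {P : Sylow 2 G} {σ τ : G} {m : ℕ} (D : Data P σ τ m)
    (eP : Nonempty ((P : Subgroup G) ≃* DihedralGroup (2 * m))) :
    ∃ U : Subgroup G, Core P (σ ^ m) U := by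
  classical
  haveI := Fintype.ofFinite G
  haveI := Fact.mk Nat.prime_two
  have hm2 := DihBlock.two_le D
  set t := σ ^ m with htdef
  have hto : orderOf t = 2 := DihBlock.orderOf_z D
  obtain ⟨k, -, hk⟩ := D.pow_two
  obtain ⟨U, hU, hUmem, hUn, hUdec⟩ := DGroup.exists_odd_core P (n := 2 * m) (by omega) eP hto
  have hPt : ∀ s ∈ (P : Subgroup G), Commute s t := fun s hs => (DihBlock.z_commute D hs).symm
  have hodd : Odd (Nat.card U) := by
    rw [← Nat.not_even_iff_odd]
    intro he
    obtain ⟨x, hx⟩ := exists_prime_orderOf_dvd_card' (G := U) 2 (even_iff_two_dvd.1 he)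
    have := (hU x x.2).1
    rw [Subgroup.orderOf_coe, hx] at this
    exact absurd this (by decide)
  have hdec : ∀ g : G, Commute g t → ∃ o ∈ U, ∃ s ∈ (P : Subgroup G), g = o * s :=
    hUdec P (DihBlock.sylow_le_centralizer_z D) P.2 fun R _ hR2 => by
      obtain ⟨Q, hQ⟩ := hR2.exists_le_sylow
      calc Nat.card R ≤ Nat.card Q := Subgroup.card_le_of_le hQ
        _ = Nat.card P := Q.card_eq_multiplicity.trans P.card_eq_multiplicity.symm
  -- Burnside
  have hfix : ∀ a ∈ U, (∀ s ∈ (P : Subgroup G), Commute a s) → a = 1 := by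
    set W := U ⊓ Subgroup.centralizer ((P : Subgroup G) : Set G) with hWdef
    have hmemW : ∀ a, a ∈ W ↔ a ∈ U ∧ ∀ s ∈ (P : Subgroup G), Commute a s := fun a => by
      rw [hWdef, Subgroup.mem_inf, Subgroup.mem_centralizer_iff]
      exact and_congr_right fun _ => forall₂_congr fun s _ => ⟨fun e => e.symm, fun e => e.symm⟩
    suffices hW : W = ⊥ by
      intro a ha hs
      have : a ∈ W := (hmemW a).2 ⟨ha, hs⟩
      rwa [hW, Subgroup.mem_bot] at this
    by_contra hW
    have hW1 : Nat.card W ≠ 1 := fun e => hW (Subgroup.eq_bot_of_card_eq _ e)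
    set q := (Nat.card W).minFac with hqdef
    have hq : q.Prime := Nat.minFac_prime hW1
    haveI := Fact.mk hq
    obtain ⟨⟨z, hz⟩, hz'⟩ := exists_prime_orderOf_dvd_card' (G := W) q (Nat.minFac_dvd _)
    have hzo : orderOf z = q := by rw [← hz', Subgroup.orderOf_mk]
    obtain ⟨hzU, hzP⟩ := (hmemW z).1 hz
    have hq2 : q ≠ 2 := fun e => absurd (hU z hzU).1 (by rw [hzo, e]; decide)
    have hz1 : z ≠ 1 := fun e => hq.ne_one (by rw [← hzo, e, orderOf_one])
    set Z := Subgroup.zpowers z with hZ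
    have hcomZ : ∀ {s : G}, Commute s z → ∀ y ∈ Z, Commute s y := by
      rintro s hs _ ⟨i, rfl⟩
      exact hs.zpow_right i
    have hM : ∀ g : G, g * z * g⁻¹ ∈ Z → Commute g z := by
      intro g hg
      have hgen : z ∈ Subgroup.zpowers (g * z * g⁻¹) :=
        DihBlock.mem_zpowers_of_same_order hg (Subgroup.mem_zpowers z)
          (by rw [← MulAut.conj_apply, MulEquiv.orderOf_eq])
      have hPC : ∀ s ∈ (P : Subgroup G), s ∈ Subgroup.centralizer ({z} : Set G) := fun s hs =>
        Subgroup.mem_centralizer_singleton_iff.2 (hzP s hs).eq.symm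
      have hgPC : ((g • P : Sylow 2 G) : Subgroup G) ≤ Subgroup.centralizer ({z} : Set G) := by
        rw [Sylow.coe_subgroup_smul]
        rintro _ ⟨s, hs, rfl⟩
        refine Subgroup.mem_centralizer_singleton_iff.2 ?_
        obtain ⟨i, hi⟩ := hgen
        have e : Commute (g * s * g⁻¹) (g * z * g⁻¹) := Commute.conj (hzP s hs).symm g
        exact (hi ▸ e.zpow_right i : Commute (g * s * g⁻¹) z).eq
      obtain ⟨c, hc⟩ := MulAction.exists_smul_eq (Subgroup.centralizer ({z} : Set G))
        (P.subtype hPC) ((g • P).subtype hgPC)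
      rw [Sylow.smul_subtype] at hc
      have hcP : (c : G) • P = g • P := Sylow.subtype_injective hc
      have hcz : Commute (c : G) z := Subgroup.mem_centralizer_singleton_iff.1 c.2
      set h₁ := (g⁻¹ * (c : G)) with hh₁
      have hN : h₁ ∈ Subgroup.normalizer ((P : Subgroup G) : Set G) := by
        refine Sylow.smul_eq_iff_mem_normalizer.1 ?_
        rw [hh₁, mul_smul, hcP, inv_smul_smul]
      have hzh : h₁ * z * h₁⁻¹ = g⁻¹ * z * g := by
        rw [hh₁, show g⁻¹ * (c : G) * z * (g⁻¹ * (c : G))⁻¹ = g⁻¹ * ((c : G) * z * (c : G)⁻¹) * g by group,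
          hcz.eq, mul_inv_cancel_right]
      -- `h₁` fixes `t`
      have hht : Commute h₁ t := by
        refine mul_inv_eq_iff_eq_mul.1 ?_
        have hmem : h₁ * t * h₁⁻¹ ∈ (P : Subgroup G) :=
          (Subgroup.mem_normalizer_iff.1 hN t).1 (pow_mem D.memσ m)
        have hcen : Commute (h₁ * t * h₁⁻¹) σ := by
          have hσ' : h₁⁻¹ * σ * h₁ ∈ (P : Subgroup G) := by
            have := (Subgroup.mem_normalizer_iff.1 (inv_mem hN) σ).1 D.memσ
            rwa [inv_inv] at this
          have e : Commute (h₁ * t * h₁⁻¹) (h₁ * (h₁⁻¹ * σ * h₁) * h₁⁻¹) :=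
            Commute.conj (hPt _ hσ').symm h₁
          rwa [show h₁ * (h₁⁻¹ * σ * h₁) * h₁⁻¹ = σ by group] at e
        have hσσ : σ ^ 1 * σ ^ 1 ≠ 1 := by
          rw [← pow_add]
          exact DihBlock.pow_ne_one D two_pos (by omega)
        have hz' : h₁ * t * h₁⁻¹ ∈ Subgroup.zpowers σ := by
          rw [← DihBlock.card_centralizer_rot D hσσ, pow_one]
          exact ⟨hmem, Subgroup.mem_centralizer_singleton_iff.2 hcen.eq⟩
        have ho := conj_orderOf_two hto h₁
        exact DihBlock.eq_z_of_sq D hz' (mul_self_of_orderOf_two ho) (ne_one_of_orderOf_two ho)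
      obtain ⟨o, ho, s, hs, e⟩ := hdec h₁ hht
      have hoP : o ∈ Subgroup.normalizer ((P : Subgroup G) : Set G) := by
        rw [show o = h₁ * s⁻¹ by rw [e]; group]
        exact mul_mem hN (inv_mem (Subgroup.le_normalizer hs))
      have hoW : o ∈ W := by
        refine (hmemW o).2 ⟨ho, fun s' hs' => ?_⟩
        have h1 : o * s' * o⁻¹ * s'⁻¹ ∈ (P : Subgroup G) :=
          mul_mem ((Subgroup.mem_normalizer_iff.1 hoP s').1 hs') (inv_mem hs')
        have h2 : o * s' * o⁻¹ * s'⁻¹ ∈ U := by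
          rw [show o * s' * o⁻¹ * s'⁻¹ = o * (s' * o⁻¹ * s'⁻¹) by group]
          exact mul_mem ho (hUn s' (hPt s' hs') _ (inv_mem ho))
        exact mul_inv_eq_iff_eq_mul.1 (mul_inv_eq_one.1 (eq_one_of_odd_of_mem_sylow (hU _ h2).1 h1))
      have hoz : o * z * o⁻¹ = g⁻¹ * z * g := by
        rw [← hzh, e, show o * s * z * (o * s)⁻¹ = o * (s * z * s⁻¹) * o⁻¹ by group,
          ← (hzP s hs).eq, mul_inv_cancel_right]
      -- `o` fixes `z`
      have hoi : o * z * o⁻¹ ∈ Z := by
        have hg' : z ∈ Subgroup.zpowers (g * z * g⁻¹) := hgen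
        obtain ⟨i, hi⟩ := hg'
        rw [hoz]
        refine ⟨i, ?_⟩
        show z ^ i = g⁻¹ * z * g
        have e := congrArg (fun x => g⁻¹ * x * g) hi
        simp only [conj_zpow] at e
        rw [← e]; group
      obtain ⟨i, hi⟩ := hoi
      have hpow : ∀ n : ℕ, o ^ n * z * (o ^ n)⁻¹ = z ^ (i ^ n) := by
        intro n
        induction n with
        | zero => simp
        | succ n ih =>
          rw [pow_succ' o, show o * o ^ n * z * (o * o ^ n)⁻¹ = o * (o ^ n * z * (o ^ n)⁻¹) * o⁻¹ by group,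
            ih, ← conj_zpow, ← hi, ← zpow_mul, pow_succ']
      have h1 := hpow (orderOf o)
      rw [pow_orderOf_eq_one, one_mul, inv_one, mul_one] at h1
      have hiq : ((i : ZMod q)) ^ orderOf o = 1 := by
        have : z ^ (i ^ orderOf o) = z ^ (1 : ℤ) := by rw [← h1, zpow_one]
        rw [zpow_eq_zpow_iff_modEq, hzo, ← ZMod.intCast_eq_intCast_iff] at this
        push_cast at this
        exact this
      have hi0 : (i : ZMod q) ≠ 0 := fun e0 => by
        rw [e0, zero_pow (orderOf_pos o).ne'] at hiq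
        exact zero_ne_one hiq
      have hcop : (orderOf o).Coprime (q - 1) := by
        rw [Nat.coprime_iff_gcd_eq_one]
        by_contra hne
        obtain ⟨r, hr, hrd⟩ := Nat.exists_prime_and_dvd hne
        have hrW : r ∣ Nat.card W :=
          ((Nat.dvd_gcd_iff.1 hrd).1).trans (W.orderOf_dvd_natCard hoW)
        have hle : q ≤ r := Nat.minFac_le_of_dvd hr.two_le hrW
        have hq1 : 0 < q - 1 := by have := hq.two_le; omega
        have := Nat.le_of_dvd hq1 (Nat.dvd_gcd_iff.1 hrd).2
        omega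
      have hi1 : (i : ZMod q) = 1 := by
        have := pow_gcd_eq_one.2 ⟨hiq, ZMod.pow_card_sub_one_eq_one hi0⟩
        rwa [Nat.coprime_iff_gcd_eq_one.1 hcop, pow_one] at this
      have hzz : o * z * o⁻¹ = z := by
        rw [← hi]
        conv_rhs => rw [← zpow_one z]
        show z ^ i = z ^ (1 : ℤ)
        rw [zpow_eq_zpow_iff_modEq, hzo, ← ZMod.intCast_eq_intCast_iff, hi1, Int.cast_one]
      rw [hoz] at hzz
      refine mul_inv_eq_iff_eq_mul.1 ?_
      calc g * z * g⁻¹ = g * (g⁻¹ * z * g) * g⁻¹ := by rw [hzz]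
        _ = z := by group
    -- the Sylow subgroup for `q`
    obtain ⟨R, hR⟩ := (IsPGroup.of_card (p := q) (G := Z) (n := 1)
      (by rw [hZ, Nat.card_zpowers, hzo, pow_one])).exists_le_sylow
    haveI hRc := h q hq hq2 R
    have hzR : z ∈ (R : Subgroup G) := hR (Subgroup.mem_zpowers z)
    obtain ⟨⟨c₀, hc₀⟩, hgen₀⟩ := hRc.exists_generator
    have hRgen : ∀ x ∈ (R : Subgroup G), x ∈ Subgroup.zpowers c₀ := fun x hx => by
      obtain ⟨j, hj⟩ := hgen₀ ⟨x, hx⟩
      exact ⟨j, congrArg Subtype.val hj⟩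
    have hNR : Subgroup.normalizer ((R : Subgroup G) : Set G) ≤
        Subgroup.centralizer ((R : Subgroup G) : Set G) := by
      intro g hg
      have hgz : Commute g z := hM g (DihBlock.mem_zpowers_of_same_order (hRgen z hzR)
        (hRgen _ ((Subgroup.mem_normalizer_iff.1 hg z).1 hzR))
        (by rw [← MulAut.conj_apply, MulEquiv.orderOf_eq]))
      rw [Subgroup.mem_centralizer_iff]
      intro x hx
      obtain ⟨a, b, hab, ha, hb, ⟨n, hn⟩, hbq⟩ := PPrimeAbelian.exists_split hq g
      have hNa : a ∈ Subgroup.normalizer ((R : Subgroup G) : Set G) :=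
        (Subgroup.zpowers_le.2 hg) ha
      have hNb : b ∈ Subgroup.normalizer ((R : Subgroup G) : Set G) :=
        (Subgroup.zpowers_le.2 hg) hb
      have haR : a ∈ (R : Subgroup G) := by
        have hp : IsPGroup q (Subgroup.zpowers a) := IsPGroup.of_card (n := n)
          (by rw [Nat.card_zpowers, hn])
        have hsup : IsPGroup q ↥((R : Subgroup G) ⊔ Subgroup.zpowers a) :=
          R.2.to_sup_of_normal_left' hp (Subgroup.zpowers_le.2 hNa)
        rw [← R.3 hsup le_sup_left]
        exact Subgroup.mem_sup_right (Subgroup.mem_zpowers a)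
      have hbx : b * x * b⁻¹ = x := by
        refine PPrimeAbelian.commute_of_fix_omega R.2 inferInstance hNb hbq ?_ x hx
        · intro y hy hyq
          have hyz : y ∈ Z := by
            by_cases hy1 : y = 1
            · rw [hy1]; exact one_mem Z
            · refine DihBlock.mem_zpowers_of_same_order (hRgen z hzR) (hRgen y hy) ?_
              rw [hzo, orderOf_eq_prime hyq hy1]
          obtain ⟨j, hj⟩ := hb
          exact mul_inv_eq_iff_eq_mul.2 (hcomZ (hj ▸ hgz.zpow_left j : Commute b z) y hyz).eq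
      have hax : Commute a x := by
        obtain ⟨i, hi⟩ := hRgen a haR
        obtain ⟨j, hj⟩ := hRgen x hx
        rw [← hi, ← hj]
        exact Commute.zpow_zpow_self c₀ i j
      rw [hab]
      exact ((hax.mul_left (mul_inv_eq_iff_eq_mul.1 hbx))).eq.symm
    obtain ⟨Q, N, hN, hcN⟩ := Transfer.hasNormalPComplement_of_normalizer_le_centralizer R hNR
    rcases hN.eq_bot_or_eq_top with e | e
    · have hQ : (Q : Subgroup G) = ⊤ := by
        have := hcN.sup_eq_top
        rwa [e, bot_sup_eq] at this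
      obtain ⟨n, hn⟩ := Q.2.exists_card_eq
      rw [hQ, Subgroup.card_top] at hn
      have h2 : 2 ∣ q ^ n := hn ▸ hto ▸ orderOf_dvd_natCard t
      exact hq2 ((Nat.prime_dvd_prime_iff_eq Nat.prime_two hq).1 (Nat.prime_two.dvd_of_dvd_pow h2)).symm
    · have hQ : (Q : Subgroup G) = ⊥ := by
        have := hcN.disjoint.eq_bot
        rwa [e, top_inf_eq] at this
      have hcard : Nat.card (R : Subgroup G) = 1 := by
        rw [R.card_eq_multiplicity, ← Q.card_eq_multiplicity, hQ, Subgroup.card_bot]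
      have : z ∈ (⊥ : Subgroup G) := (Subgroup.eq_bot_of_card_eq _ hcard) ▸ hzR
      exact hz1 (Subgroup.mem_bot.1 this)
  refine ⟨U, hodd, ?_, fun a ha => (hU a ha).2, hUmem, hUn, hdec, hfix⟩
  -- `U` is cyclic
  haveI : IsZGroup U := h.isZGroup hodd
  have hnormP : (P : Subgroup G) ≤ Subgroup.normalizer (U : Set G) := fun s hs =>
    PrimaryParts.mem_normalizer_of_conj_mem (hUn s (hPt s hs))
  have hcop : (Nat.card (P : Subgroup G)).Coprime (Nat.card U) := by
    rw [D.card, hk, show 4 * 2 ^ k = 2 ^ (k + 2) by ring]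
    exact (Nat.coprime_two_left.2 hodd).pow_left _
  have hcom : ⁅U, (P : Subgroup G)⁆ = U := by
    have e := Coprime.commutator_sup_centralizer hnormP hcop (Or.inl (CIT.isSolvable_of_two P.2))
    have hb : U ⊓ Subgroup.centralizer ((P : Subgroup G) : Set G) = ⊥ := by
      rw [eq_bot_iff]
      intro a ha
      exact Subgroup.mem_bot.2 (hfix a ha.1 fun s hs =>
        (Subgroup.mem_centralizer_iff.1 ha.2 s hs).symm)
    rwa [hb, sup_bot_eq] at e
  set U' := (commutator U).map U.subtype with hU'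
  haveI : IsCyclic (commutator U) := IsZGroup.isCyclic_commutator U
  haveI : IsCyclic U' := isCyclic_of_surjective
    ((commutator U).equivMapOfInjective U.subtype U.subtype_injective).toMonoidHom (MulEquiv.surjective _)
  have hU'n : ∀ g : G, g ∈ Subgroup.normalizer (U : Set G) → g ∈ Subgroup.normalizer (U' : Set G) := by
    intro g hg
    refine PrimaryParts.mem_normalizer_of_conj_mem fun w hw => ?_
    have hU'eq : U' = ⁅U, U⁆ := by
      rw [hU', commutator_def, Subgroup.map_commutator, ← MonoidHom.range_eq_map, Subgroup.range_subtype]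
    rw [hU'eq] at hw ⊢
    have hgU : U.map (MulAut.conj g).toMonoidHom ≤ U := by
      rintro _ ⟨a, ha, rfl⟩
      exact (Subgroup.mem_normalizer_iff.1 hg a).1 ha
    have h1 : g * w * g⁻¹ ∈ (⁅U, U⁆).map (MulAut.conj g).toMonoidHom := ⟨w, hw, rfl⟩
    rw [Subgroup.map_commutator] at h1
    exact Subgroup.commutator_mono hgU hgU h1
  have hcenU : ∀ a ∈ U, ∀ x ∈ U', Commute a x := by
    have hle : U ≤ Subgroup.centralizer (U' : Set G) := by
      conv_lhs => rw [← hcom]
      rw [Subgroup.commutator_le]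
      intro a ha s hs
      refine Subgroup.mem_centralizer_iff.2 fun x hx => ?_
      exact (commutator_commute inferInstance (hU'n a (Subgroup.le_normalizer ha))
        (hU'n s (hnormP hs)) hx).eq.symm
    exact fun a ha x hx => (Subgroup.mem_centralizer_iff.1 (hle ha) x hx).symm
  have hker : (Abelianization.of (G := U)).ker ≤ Subgroup.center U := by
    rw [Abelianization.ker_of]
    intro x hx
    refine Subgroup.mem_center_iff.2 fun a => Subtype.ext ?_
    exact (hcenU a a.2 x ⟨x, hx, rfl⟩).eq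
  haveI : IsCyclic (Abelianization U) := IsZGroup.isCyclic_abelianization
  haveI := (Abelianization.of (G := U)).isMulCommutative_of_isCyclic_of_ker_le_center hker
  open scoped IsMulCommutative in exact inferInstance

end CfsgLib.SuzukiCyclic
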