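import Cfsg.Agent.Lib.SuzukiCyclic.DihedralCore
import Cfsg.Agent.Lib.DGroup.Basic

/-!
# The four groups of a dihedral Sylow 2-subgroup when there is one class of involutions

An element `n` permutes `⟨t, τ⟩` cyclically and centralises `C_U(τ)`; the rotations act on `C_U(τ)`
by inversion.
-/

set_option autoImplicit false
set_option linter.unusedSectionVars false
set_option linter.style.haveILetI false

namespace CfsgLib.SuzukiCyclic

open Cfsg CfsgLib.Invol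
open CfsgLib.DihBlock (Data)
open scoped commutatorElement

universe u

variable {G : Type u} [Group G] [Finite G]

theorem one_class_of_simple [IsSimpleGroup G] (hna : ¬ IsMulCommutative G) (P : Sylow 2 G) {k : ℕ}
    (hk : 2 ≤ k) (eP : Nonempty ((P : Subgroup G) ≃* DihedralGroup (2 ^ k))) :
    ∀ x y : G, orderOf x = 2 → orderOf y = 2 → IsConj x y := by
  have hns : ¬ Group.IsSolvable G := fun h => hna ⟨⟨IsSimpleGroup.comm_iff_isSolvable.2 h⟩⟩
  rcases DGroup.classes_of_dihedral hns P hk eP with h | ⟨-, ⟨N, hN, hi⟩, -⟩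
  · exact h
  · exfalso
    rcases hN.eq_bot_or_eq_top with e | e
    · rw [e, Subgroup.index_bot] at hi
      haveI : Fact (Nat.Prime 2) := ⟨Nat.prime_two⟩
      haveI : IsCyclic G := isCyclic_of_prime_card hi
      exact hna inferInstance
    · rw [e, Subgroup.index_top] at hi
      exact absurd hi (by decide)

variable {P : Sylow 2 G} {σ τ : G} {m : ℕ} {U : Subgroup G}

section

variable (D : Data P σ τ m) (c : Core P (σ ^ m) U)
include D c

theorem sylow_comm_t {s : G} (hs : s ∈ (P : Subgroup G)) : Commute s (σ ^ m) :=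
  (DihBlock.z_commute D hs).symm

theorem sylow_norm {s : G} (hs : s ∈ (P : Subgroup G)) {a : G} (ha : a ∈ U) : s * a * s⁻¹ ∈ U :=
  c.normal s (sylow_comm_t D c hs) a ha

theorem norm_of_commute {g : G} (hg : Commute g (σ ^ m)) : g ∈ Subgroup.normalizer (U : Set G) :=
  PrimaryParts.mem_normalizer_of_conj_mem (c.normal g hg)

/-- The squares of rotations centralise `U`. -/
theorem sigma_sq_commute {a : G} (ha : a ∈ U) : Commute (σ * σ) a := by
  have e : ⁅σ, τ⁆ = σ * σ := by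
    have h := D.rel
    rw [commutatorElement_def]
    calc σ * τ * σ⁻¹ * τ⁻¹ = σ * (τ * σ * τ⁻¹)⁻¹ := by group
      _ = σ * σ := by rw [h, inv_inv]
  exact e ▸ commutator_commute c.cyclic (norm_of_commute D c (sylow_comm_t D c D.memσ))
    (norm_of_commute D c (sylow_comm_t D c D.memτ)) ha

/-- An element of `U P` in `U` or `P`: the decomposition is unique. -/
theorem decomp_unique {o o' s s' : G} (ho : o ∈ U) (ho' : o' ∈ U) (hs : s ∈ (P : Subgroup G))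
    (hs' : s' ∈ (P : Subgroup G)) (e : o * s = o' * s') : o = o' ∧ s = s' := by
  have h1 : o'⁻¹ * o = s' * s⁻¹ := by
    rw [show o = o' * s' * s⁻¹ by rw [← e]; group]; group
  have h2 : o'⁻¹ * o = 1 := eq_one_of_odd_of_mem_sylow (c.odd_orderOf (mul_mem (inv_mem ho') ho))
    (h1 ▸ mul_mem hs' (inv_mem hs))
  have h3 : o = o' := (inv_mul_eq_one.1 h2).symm
  exact ⟨h3, mul_left_cancel (h3 ▸ e)⟩

/-- The centraliser of the four group. -/
theorem cent_four {h : G} (h1 : Commute h (σ ^ m)) (h2 : Commute h τ) :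
    ∃ o ∈ U, Commute o τ ∧ ∃ s ∈ (P : Subgroup G),
      (s = 1 ∨ s = σ ^ m ∨ s = τ ∨ s = σ ^ m * τ) ∧ h = o * s := by
  obtain ⟨o, ho, s, hs, e⟩ := c.decomp h h1
  have e' : (τ * o * τ⁻¹) * (τ * s * τ⁻¹) = o * s := by
    rw [← e, show τ * o * τ⁻¹ * (τ * s * τ⁻¹) = τ * (o * s) * τ⁻¹ by group, ← e, ← h2.eq,
      mul_inv_cancel_right]
  obtain ⟨e1, e2⟩ := decomp_unique D c (sylow_norm D c D.memτ ho) ho
    (mul_mem (mul_mem D.memτ hs) (inv_mem D.memτ)) hs e'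
  refine ⟨o, ho, (mul_inv_eq_iff_eq_mul.1 e1).symm, s, hs, ?_, e⟩
  have hsτ : s ∈ Subgroup.centralizer ({σ ^ 0 * τ} : Set G) := by
    rw [pow_zero, one_mul]
    exact Subgroup.mem_centralizer_singleton_iff.2 (mul_inv_eq_iff_eq_mul.1 e2).symm
  have := DihBlock.centralizer_refl D 0 s ⟨hs, hsτ⟩
  simpa using this

/-- A quarter rotation exchanges `r` and `t r` for each reflection `r`. -/
theorem half_conj (i : ℕ) :
    σ ^ (m / 2) * (σ ^ i * τ) * (σ ^ (m / 2))⁻¹ = σ ^ m * (σ ^ i * τ) := by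
  have hτ : τ * (σ ^ (m / 2))⁻¹ = σ ^ (m / 2) * τ := by
    have e := DihBlock.tau_mul_pow D (m / 2)
    calc τ * (σ ^ (m / 2))⁻¹
        = σ ^ (m / 2) * ((σ ^ (m / 2))⁻¹ * τ) * (σ ^ (m / 2))⁻¹ := by group
      _ = σ ^ (m / 2) * τ := by rw [← e]; group
  calc σ ^ (m / 2) * (σ ^ i * τ) * (σ ^ (m / 2))⁻¹
      = σ ^ (m / 2) * σ ^ i * (τ * (σ ^ (m / 2))⁻¹) := by group
    _ = σ ^ (m / 2) * σ ^ i * σ ^ (m / 2) * τ := by rw [hτ]; group
    _ = σ ^ m * (σ ^ i * τ) := by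
        have h2 := DihBlock.even D
        rw [← pow_add, ← pow_add, ← mul_assoc, ← pow_add]
        congr 2
        omega

/-- An element permuting the four group cyclically. -/
theorem exists_cycle (hone : ∀ x y : G, orderOf x = 2 → orderOf y = 2 → IsConj x y) :
    ∃ n : G, n * τ * n⁻¹ = σ ^ m ∧ n * σ ^ m * n⁻¹ = τ * σ ^ m := by
  set t := σ ^ m with htdef
  have hto : orderOf t = 2 := DihBlock.orderOf_z D
  have hτo := DihBlock.orderOf_tau D
  have htt := mul_self_of_orderOf_two hto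
  have hτt : Commute τ t := sylow_comm_t D c D.memτ
  obtain ⟨g₀, hg₀⟩ := isConj_iff.1 (hone τ t hτo hto)
  set r₀ := g₀ * t * g₀⁻¹ with hr₀
  have hr₀o : orderOf r₀ = 2 := conj_orderOf_two hto g₀
  have hr₀t : Commute r₀ t := by
    have e : Commute (g₀ * t * g₀⁻¹) (g₀ * τ * g₀⁻¹) := Commute.conj hτt.symm g₀
    rwa [hg₀] at e
  obtain ⟨o, ho, s, hs, e⟩ := c.decomp r₀ hr₀t
  have h4 : (o * (s * o * s⁻¹)) * (s * s) = 1 := by
    rw [show o * (s * o * s⁻¹) * (s * s) = (o * s) * (o * s) by group, ← e,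
      mul_self_of_orderOf_two hr₀o]
  obtain ⟨h5, h6⟩ := decomp_unique D c (mul_mem ho (sylow_norm D c hs ho)) (one_mem U) (mul_mem hs hs)
    (one_mem _) (h4.trans (one_mul 1).symm)
  -- a square root of `o`
  obtain ⟨l, hl⟩ := c.odd_orderOf ho
  set w := o ^ (l + 1) with hw
  have hwU : w ∈ U := pow_mem ho _
  have hww : w * w = o := by
    rw [hw, ← pow_add, show l + 1 + (l + 1) = orderOf o + 1 by omega, pow_succ, pow_orderOf_eq_one,
      one_mul]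
  have hsw : s * w * s⁻¹ = w⁻¹ := by
    rw [hw, ← conj_pow, show s * o * s⁻¹ = o⁻¹ from eq_inv_of_mul_eq_one_right h5, inv_pow]
  have hr : w⁻¹ * r₀ * w = s := by
    rw [e, show w⁻¹ * (o * s) * w = w⁻¹ * o * (s * w * s⁻¹) * s by group, hsw, ← hww]
    group
  set g := w⁻¹ * g₀ with hg
  have hwt : Commute w t := c.comm_t w hwU
  have hgτ : g * τ * g⁻¹ = t := by
    rw [hg, show w⁻¹ * g₀ * τ * (w⁻¹ * g₀)⁻¹ = w⁻¹ * (g₀ * τ * g₀⁻¹) * w by group, hg₀,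
      hwt.inv_left.eq, inv_mul_cancel_right]
  have hgt : g * t * g⁻¹ = s := by
    rw [hg, show w⁻¹ * g₀ * t * (w⁻¹ * g₀)⁻¹ = w⁻¹ * (g₀ * t * g₀⁻¹) * w by group]
    exact hr
  have hso : orderOf s = 2 := hgt ▸ conj_orderOf_two hto g
  have hst : s ≠ t := fun e' => by
    have : g * t * g⁻¹ = g * τ * g⁻¹ := by rw [hgt, hgτ, e']
    exact DihBlock.refl_not_mem D 0 (by
      rw [pow_zero, one_mul, ← mul_left_cancel (mul_right_cancel this)]
      exact pow_mem (Subgroup.mem_zpowers σ) m)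
  obtain ⟨i, hi | hi⟩ := D.cases s hs
  · exact absurd (DihBlock.eq_z_of_sq D (hi ▸ pow_mem (Subgroup.mem_zpowers σ) i)
      (mul_self_of_orderOf_two hso) (ne_one_of_orderOf_two hso)) hst
  have hst' : Commute s t := sylow_comm_t D c hs
  set α := σ ^ (m / 2) with hα
  set β := g * α * g⁻¹ with hβ
  have hαt : α * t * α⁻¹ = t := by
    rw [(Commute.pow_pow (Commute.refl σ) (m / 2) m).eq, mul_inv_cancel_right]
  have hαs : α * s * α⁻¹ = t * s := hi ▸ half_conj D c i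
  have hατ : α * τ * α⁻¹ = t * τ := by simpa using half_conj D c 0
  have hconj : ∀ a b : G, g * (a * b) * g⁻¹ = (g * a * g⁻¹) * (g * b * g⁻¹) := fun a b => by group
  have hβt : β * t * β⁻¹ = s * t := by
    rw [hβ, show g * α * g⁻¹ * t * (g * α * g⁻¹)⁻¹ = g * (α * (g⁻¹ * t * g) * α⁻¹) * g⁻¹ by group,
      show g⁻¹ * t * g = τ by rw [← hgτ]; group, hατ, hconj, hgt, hgτ]
  have hβs : β * s * β⁻¹ = s := by
    rw [hβ, show g * α * g⁻¹ * s * (g * α * g⁻¹)⁻¹ = g * (α * (g⁻¹ * s * g) * α⁻¹) * g⁻¹ by group,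
      show g⁻¹ * s * g = t by rw [← hgt]; group, hαt, hgt]
  refine ⟨g⁻¹ * (α * β) * g, ?_, ?_⟩
  · rw [show g⁻¹ * (α * β) * g * τ * (g⁻¹ * (α * β) * g)⁻¹ =
        g⁻¹ * (α * (β * (g * τ * g⁻¹) * β⁻¹) * α⁻¹) * g by group, hgτ, hβt,
      show α * (s * t) * α⁻¹ = α * s * α⁻¹ * (α * t * α⁻¹) by group, hαs, hαt, mul_assoc t s t,
      hst'.eq, ← mul_assoc t t s, htt, one_mul, ← hgt]
    group
  · rw [show g⁻¹ * (α * β) * g * t * (g⁻¹ * (α * β) * g)⁻¹ =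
        g⁻¹ * (α * (β * (g * t * g⁻¹) * β⁻¹) * α⁻¹) * g by group, hgt, hβs, hαs]
    calc g⁻¹ * (t * s) * g = g⁻¹ * (g * τ * g⁻¹ * (g * t * g⁻¹)) * g := by rw [hgτ, hgt]
      _ = τ * t := by group

theorem conj_mem_U1 {a : G} (ha : a ∈ U) (haτ : Commute a τ) {n : G}
    (hn1 : n * τ * n⁻¹ = σ ^ m) (hn2 : n * σ ^ m * n⁻¹ = τ * σ ^ m) :
    n * a * n⁻¹ ∈ U ∧ Commute (n * a * n⁻¹) τ := by
  have h1 : Commute (n * a * n⁻¹) (n * τ * n⁻¹) := Commute.conj haτ n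
  have h2 : Commute (n * a * n⁻¹) (n * σ ^ m * n⁻¹) := Commute.conj (c.comm_t a ha) n
  rw [hn1] at h1
  rw [hn2] at h2
  refine ⟨c.mem_of_odd _ (by rw [← MulAut.conj_apply, MulEquiv.orderOf_eq]; exact c.odd_orderOf ha) h1, ?_⟩
  have h3 := h2.mul_right h1
  rwa [mul_assoc τ, DihBlock.z_mul_self D, mul_one] at h3

/-- The cycle centralises `C_U(τ)`. -/
theorem cycle_commute {n : G} (hn1 : n * τ * n⁻¹ = σ ^ m) (hn2 : n * σ ^ m * n⁻¹ = τ * σ ^ m)
    {a : G} (ha : a ∈ U) (haτ : Commute a τ) : Commute n a := by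
  set t := σ ^ m with htdef
  have htt : t * t = 1 := DihBlock.z_mul_self D
  have hττ : τ * τ = 1 := D.sqτ
  have hτt : Commute τ t := sylow_comm_t D c D.memτ
  set U1 := U ⊓ Subgroup.centralizer ({τ} : Set G) with hU1
  have hmem : ∀ {b : G}, b ∈ U1 ↔ b ∈ U ∧ Commute b τ := fun {b} => by
    rw [hU1, Subgroup.mem_inf, Subgroup.mem_centralizer_singleton_iff]
    rfl
  have hUc : IsMulCommutative U := by
    haveI := c.cyclic
    infer_instance
  haveI := c.cyclic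
  haveI : IsCyclic U1 := Subgroup.isCyclic_of_le inf_le_left
  have hUcomm : ∀ {a b : G}, a ∈ U → b ∈ U → Commute a b := fun ha hb =>
    congrArg Subtype.val (hUc.is_comm.comm (⟨_, ha⟩ : U) ⟨_, hb⟩)
  -- elements centralising the four group fix `C_U(τ)`
  have hfix : ∀ {h : G}, Commute h t → Commute h τ → ∀ {b : G}, b ∈ U1 → Commute h b := by
    intro h h1 h2 b hb
    obtain ⟨o, ho, -, s, hs, hs', rfl⟩ := cent_four D c h1 h2
    refine (hUcomm ho (hmem.1 hb).1).mul_left ?_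
    have hbt : Commute t b := (c.comm_t b (hmem.1 hb).1).symm
    have hbτ : Commute τ b := (hmem.1 hb).2.symm
    rcases hs' with rfl | rfl | rfl | rfl
    exacts [Commute.one_left b, hbt, hbτ, hbt.mul_left hbτ]
  have hnn : n ∈ Subgroup.normalizer (U1 : Set G) :=
    PrimaryParts.mem_normalizer_of_conj_mem fun b hb =>
      hmem.2 (conj_mem_U1 D c (hmem.1 hb).1 (hmem.1 hb).2 hn1 hn2)
  set s₀ := σ ^ (m / 2) with hs₀
  have hs₀P : s₀ ∈ (P : Subgroup G) := pow_mem D.memσ _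
  have hs₀t : s₀ * t * s₀⁻¹ = t := by
    rw [(sylow_comm_t D c hs₀P).eq, mul_inv_cancel_right]
  have hs₀τ : s₀ * τ * s₀⁻¹ = t * τ := by simpa using half_conj D c 0
  have hs₀n : s₀ ∈ Subgroup.normalizer (U1 : Set G) :=
    PrimaryParts.mem_normalizer_of_conj_mem fun b hb => by
      refine hmem.2 ⟨sylow_norm D c hs₀P (hmem.1 hb).1, ?_⟩
      have h1 : Commute (s₀ * b * s₀⁻¹) (s₀ * τ * s₀⁻¹) := Commute.conj (hmem.1 hb).2 s₀
      rw [hs₀τ] at h1
      have h2 := (c.comm_t _ (sylow_norm D c hs₀P (hmem.1 hb).1)).mul_right h1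
      rwa [← mul_assoc, htt, one_mul] at h2
  have hnτt : n * (τ * t) * n⁻¹ = τ := by
    rw [show n * (τ * t) * n⁻¹ = n * τ * n⁻¹ * (n * t * n⁻¹) by group, hn1, hn2, ← mul_assoc,
      hτt.symm.eq, mul_assoc, htt, mul_one]
  -- `n ^ 3` and `s₀ n s₀⁻¹ n` centralise the four group
  have h3 : Commute (n * n * n) a := by
    refine hfix ?_ ?_ (hmem.2 ⟨ha, haτ⟩)
    · refine mul_inv_eq_iff_eq_mul.1 ?_
      rw [show n * n * n * t * (n * n * n)⁻¹ = n * (n * (n * t * n⁻¹) * n⁻¹) * n⁻¹ by group, hn2,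
        hnτt, hn1]
    · refine mul_inv_eq_iff_eq_mul.1 ?_
      rw [show n * n * n * τ * (n * n * n)⁻¹ = n * (n * (n * τ * n⁻¹) * n⁻¹) * n⁻¹ by group, hn1,
        hn2, hnτt]
  have hs₀τt : s₀⁻¹ * (τ * t) * s₀ = τ := by
    have : s₀ * τ * s₀⁻¹ = τ * t := by rw [hs₀τ, hτt.eq]
    rw [← this]; group
  have hs₀t' : s₀⁻¹ * t * s₀ = t := by
    conv_lhs => rw [← hs₀t]
    group
  have hx : Commute (s₀ * n * s₀⁻¹ * n) a := by
    refine hfix ?_ ?_ (hmem.2 ⟨ha, haτ⟩)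
    · refine mul_inv_eq_iff_eq_mul.1 ?_
      rw [show s₀ * n * s₀⁻¹ * n * t * (s₀ * n * s₀⁻¹ * n)⁻¹ =
          s₀ * (n * (s₀⁻¹ * (n * t * n⁻¹) * s₀) * n⁻¹) * s₀⁻¹ by group, hn2, hs₀τt, hn1, hs₀t]
    · refine mul_inv_eq_iff_eq_mul.1 ?_
      rw [show s₀ * n * s₀⁻¹ * n * τ * (s₀ * n * s₀⁻¹ * n)⁻¹ =
          s₀ * (n * (s₀⁻¹ * (n * τ * n⁻¹) * s₀) * n⁻¹) * s₀⁻¹ by group, hn1, hs₀t', hn2,
        hτt.eq, show s₀ * (t * τ) * s₀⁻¹ = s₀ * t * s₀⁻¹ * (s₀ * τ * s₀⁻¹) by group, hs₀t, hs₀τ,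
        ← mul_assoc, htt, one_mul]
  have hna1 : n * a * n⁻¹ ∈ U1 := (Subgroup.mem_normalizer_iff.1 hnn a).1 (hmem.2 ⟨ha, haτ⟩)
  have hy : s₀⁻¹ * (n * a * n⁻¹) * s₀ ∈ U1 := by
    have := (Subgroup.mem_normalizer_iff.1 (inv_mem hs₀n) _).1 hna1
    rwa [inv_inv] at this
  have hn2a : n * n * a * (n * n)⁻¹ = a := by
    have e := mul_inv_eq_iff_eq_mul.2 hx.eq
    rw [show s₀ * n * s₀⁻¹ * n * a * (s₀ * n * s₀⁻¹ * n)⁻¹ =
        s₀ * (n * (s₀⁻¹ * (n * a * n⁻¹) * s₀) * n⁻¹) * s₀⁻¹ by group,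
      conj_comm_of_cyclic inferInstance hs₀n hnn hy,
      show s₀ * (s₀⁻¹ * (n * a * n⁻¹) * s₀) * s₀⁻¹ = n * a * n⁻¹ by group] at e
    rw [show n * n * a * (n * n)⁻¹ = n * (n * a * n⁻¹) * n⁻¹ by group, e]
  refine mul_inv_eq_iff_eq_mul.1 ?_
  have e3 := mul_inv_eq_iff_eq_mul.2 h3.eq
  calc n * a * n⁻¹ = n * (n * n * a * (n * n)⁻¹) * n⁻¹ := by rw [hn2a]
    _ = n * n * n * a * (n * n * n)⁻¹ := by group
    _ = a := e3

/-- The rotation inverts `C_U(τ)`. -/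
theorem sigma_inv {a : G} (ha : a ∈ U) (haτ : Commute a τ) : σ * a * σ⁻¹ = a⁻¹ := by
  haveI := c.cyclic
  have hUcomm : ∀ {a b : G}, a ∈ U → b ∈ U → Commute a b := fun {a b} ha hb =>
    congrArg Subtype.val (mul_comm' (⟨_, ha⟩ : U) ⟨_, hb⟩)
  have h2 := mul_inv_eq_iff_eq_mul.2 (sigma_sq_commute D c ha).eq
  have hb : σ * a * σ⁻¹ ∈ U := sylow_norm D c D.memσ ha
  set y := a * (σ * a * σ⁻¹) with hy
  have hτσ : τ * σ = σ⁻¹ * τ := mul_inv_eq_iff_eq_mul.1 D.rel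
  have hσb : σ⁻¹ * a * σ = σ * a * σ⁻¹ := by
    calc σ⁻¹ * a * σ = σ⁻¹ * (σ * σ * a * (σ * σ)⁻¹) * σ := by rw [h2]
      _ = σ * a * σ⁻¹ := by group
  have hbτ : Commute (σ * a * σ⁻¹) τ := by
    refine (mul_inv_eq_iff_eq_mul.1 ?_).symm
    calc τ * (σ * a * σ⁻¹) * τ⁻¹ = (τ * σ) * a * (τ * σ)⁻¹ := by group
      _ = σ⁻¹ * (τ * a * τ⁻¹) * σ := by rw [hτσ]; group
      _ = σ * a * σ⁻¹ := by rw [← haτ.eq, mul_inv_cancel_right, hσb]
  have hyσ : Commute y σ := by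
    refine (mul_inv_eq_iff_eq_mul.1 ?_).symm
    calc σ * y * σ⁻¹ = (σ * a * σ⁻¹) * (σ * σ * a * (σ * σ)⁻¹) := by rw [hy]; group
      _ = y := by rw [h2, hy, (hUcomm ha hb).eq]
  have hy1 : y = 1 := c.fix_sylow y (mul_mem ha hb) fun s hs => by
    have hyτ : Commute y τ := haτ.mul_left hbτ
    obtain ⟨i, rfl | rfl⟩ := D.cases s hs
    · exact hyσ.pow_right i
    · exact (hyσ.pow_right i).mul_right hyτ
  exact eq_inv_of_mul_eq_one_right hy1

end

end CfsgLib.SuzukiCyclic
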