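import Cfsg.Agent.Lib.AutPSL.Structure
import Cfsg.Agent.Lib.SL2.PSL
import Cfsg.Agent.Lib.Classical.Card

/-!
# An odd prime of `PSL₂(p)` centralised by outer involutory automorphisms only

For a prime `p ≥ 5` let `r` be a prime divisor of the odd one of `(p ± 1)/2`.  Elements of order `r`
centralise no involution of `PSL₂(p)`, and every outer coset of `PSL₂(p)` in its automorphism group
contains an involutory automorphism fixing one of them.
-/

set_option autoImplicit false
set_option linter.unusedSectionVars false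
set_option linter.style.haveILetI false

namespace CfsgLib.SuzukiCyclic

open Matrix
open scoped MatrixGroups

variable {p : ℕ} [hp : Fact p.Prime]

theorem two_ne_zero' (hp5 : 5 ≤ p) : (2 : ZMod p) ≠ 0 := by
  intro h
  have : p ∣ 2 := by
    rw [← ZMod.natCast_eq_zero_iff]
    exact_mod_cast h
  have := Nat.le_of_dvd (by norm_num) this
  omega

theorem pow_half_mul (x y : ZMod p) : (x * y) ^ (p / 2) = x ^ (p / 2) * y ^ (p / 2) := mul_pow x y _

theorem not_isSquare_iff {x : ZMod p} (hx : x ≠ 0) (hp5 : 5 ≤ p) :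
    ¬ IsSquare x ↔ x ^ (p / 2) = -1 := by
  rw [ZMod.euler_criterion p hx]
  rcases ZMod.pow_div_two_eq_neg_one_or_one p hx with h | h
  · simp only [h, not_true_eq_false, false_iff]
    intro e
    exact two_ne_zero' hp5 (by linear_combination e)
  · refine ⟨fun _ => h, fun _ e => ?_⟩
    rw [h] at e
    exact two_ne_zero' hp5 (by linear_combination -e)

/-- The discriminant of an element of odd prime order `r` dividing the odd one of `(p ± 1)/2`. -/
theorem neg_disc (hp5 : 5 ≤ p) {r : ℕ} (hr : r.Prime) (hr2 : r ≠ 2) (hrp : r ≠ p)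
    (hrdvd : r ∣ if p % 4 = 1 then p + 1 else p - 1) {A : SL(2, ZMod p)} (hA : orderOf A = r) :
    let δ := (A 0 0 + A 1 1) ^ 2 - 4
    δ ≠ 0 ∧ (-δ) ^ (p / 2) = -1 := by
  intro δ
  have h2 := two_ne_zero' hp5
  have hodd : p % 2 = 1 := Nat.odd_iff.1 (hp.out.odd_of_ne_two (by omega))
  set M := ((A : SL(2, ZMod p)) : Matrix (Fin 2) (Fin 2) (ZMod p)) with hM
  set h := M - M.adjugate with hh
  have hdet : M 0 0 * M 1 1 - M 0 1 * M 1 0 = 1 := by
    rw [← Matrix.det_fin_two]; exact A.det_coe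
  have hsq : h * h = δ • (1 : Matrix (Fin 2) (Fin 2) (ZMod p)) := by
    rw [hh, Matrix.adjugate_fin_two]
    ext i j
    fin_cases i <;> fin_cases j <;>
      simp [Matrix.mul_apply, Fin.sum_univ_two, δ, ← hM] <;>
        first
          | linear_combination -4 * hdet
          | ring1
  have hsum : (2 : ZMod p) • M = (M 0 0 + M 1 1) • (1 : Matrix (Fin 2) (Fin 2) (ZMod p)) + h := by
    rw [hh, Matrix.adjugate_fin_two]
    ext i j
    fin_cases i <;> fin_cases j <;> simp <;> ring
  haveI : CharP (Matrix (Fin 2) (Fin 2) (ZMod p)) p := inferInstance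
  have hpow : (2 : ZMod p) • M ^ p =
      (M 0 0 + M 1 1) • (1 : Matrix (Fin 2) (Fin 2) (ZMod p)) + δ ^ (p / 2) • h := by
    have e := congrArg (fun X : Matrix (Fin 2) (Fin 2) (ZMod p) => X ^ p) hsum
    rw [smul_pow, ZMod.pow_card] at e
    rw [e, add_pow_char_of_commute _ ((Commute.one_left h).smul_left _), smul_pow, one_pow,
      ZMod.pow_card]
    congr 1
    calc h ^ p = h ^ (2 * (p / 2) + 1) := by congr 1; omega
      _ = δ ^ (p / 2) • h := by
        rw [pow_succ, pow_mul, pow_two, hsq, smul_pow, one_pow, smul_mul_assoc, one_mul]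
  have hA1 : A ≠ 1 := fun e => hr.ne_one (by rw [← hA, e, orderOf_one])
  have hkey : ∀ {k : ℕ}, A ^ k = 1 → r ∣ k := fun hk => hA ▸ orderOf_dvd_of_pow_eq_one hk
  have hδ : δ ≠ 0 := by
    intro h0
    rw [h0, zero_pow (by omega), zero_smul, add_zero] at hpow
    have hτ : (M 0 0 + M 1 1) * (M 0 0 + M 1 1) = 4 := by
      have : δ = 0 := h0
      simp only [δ] at this
      linear_combination this
    have h4 : A ^ (2 * p) = 1 := by
      apply Subtype.ext
      rw [Matrix.SpecialLinearGroup.coe_pow, mul_comm, pow_mul, pow_two, ← hM,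
        Matrix.SpecialLinearGroup.coe_one]
      have e := congrArg (fun X : Matrix (Fin 2) (Fin 2) (ZMod p) => X * X) hpow
      simp only [smul_mul_smul_comm, mul_one] at e
      rw [hτ, show (2 : ZMod p) * 2 = 4 by norm_num] at e
      exact (smul_right_injective _ (show (4 : ZMod p) ≠ 0 by
        rw [show (4 : ZMod p) = 2 * 2 by norm_num]; exact mul_ne_zero h2 h2)) e
    rcases hr.dvd_mul.1 (hkey h4) with e | e
    · exact hr2 ((Nat.prime_dvd_prime_iff_eq hr Nat.prime_two).1 e)
    · exact hrp ((Nat.prime_dvd_prime_iff_eq hr hp.out).1 e)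
  refine ⟨hδ, ?_⟩
  have hneg : ((-1 : ZMod p)) ^ (p / 2) = if p % 4 = 1 then 1 else -1 := by
    split_ifs with h4
    · exact Even.neg_one_pow ⟨p / 4, by omega⟩
    · exact Odd.neg_one_pow ⟨p / 4, by omega⟩
  rw [show -δ = (-1) * δ by ring, mul_pow, hneg]
  have hinj := smul_right_injective (Matrix (Fin 2) (Fin 2) (ZMod p)) h2
  rcases ZMod.pow_div_two_eq_neg_one_or_one p hδ with e | e <;> rw [e] at hpow ⊢ <;>
    split_ifs at hrdvd ⊢ with h4
  · exfalso
    rw [one_smul, ← hsum] at hpow
    have : A ^ (p - 1) = 1 := by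
      refine mul_right_cancel (b := A) ?_
      rw [← pow_succ, show p - 1 + 1 = p by omega, one_mul]
      exact Subtype.ext (by rw [Matrix.SpecialLinearGroup.coe_pow]; exact hinj hpow)
    have := Nat.dvd_sub hrdvd (hkey this)
    rw [show p + 1 - (p - 1) = 2 by omega] at this
    exact hr2 ((Nat.prime_dvd_prime_iff_eq hr Nat.prime_two).1 this)
  · ring
  · ring
  · exfalso
    have hadj : (2 : ZMod p) • M.adjugate =
        (M 0 0 + M 1 1) • (1 : Matrix (Fin 2) (Fin 2) (ZMod p)) + (-1 : ZMod p) • h := by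
      rw [hh, Matrix.adjugate_fin_two]
      ext i j
      fin_cases i <;> fin_cases j <;> simp <;> ring
    rw [← hadj] at hpow
    have : A ^ (p + 1) = 1 := by
      apply Subtype.ext
      rw [Matrix.SpecialLinearGroup.coe_pow, pow_succ, ← hM, hinj hpow, Matrix.adjugate_mul, A.det_coe,
        one_smul]
      rfl
    have := Nat.dvd_sub (hkey this) hrdvd
    rw [show p + 1 - (p - 1) = 2 by omega] at this
    exact hr2 ((Nat.prime_dvd_prime_iff_eq hr Nat.prime_two).1 this)

theorem delta_eq_of_smul {g g' : GL (Fin 2) (ZMod p)} {c : ZMod p}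
    (e : (g' : Matrix (Fin 2) (Fin 2) (ZMod p)) = c • (g : Matrix (Fin 2) (Fin 2) (ZMod p))) :
    AutPSL.delta g' = AutPSL.delta g := by
  have hz : AutPSL.delta (g' * g⁻¹) = 1 := by
    refine AutPSL.delta_eq_one_of_mem_center (Subgroup.mem_center_iff.2 fun x => Units.ext ?_)
    simp only [Units.val_mul, e, Matrix.smul_mul, Units.mul_inv, Matrix.one_mul, Matrix.mul_smul,
      Matrix.mul_one]
  rwa [map_mul, map_inv, mul_inv_eq_one] at hz

theorem delta_toGL_eq_conj (S : SL(2, ZMod p)) :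
    AutPSL.delta (Matrix.SpecialLinearGroup.toGL S) = MulAut.conj (SL2.proj S) :=
  AutPSL.mulAut_ext fun X => by
    rw [AutPSL.delta_mkP, AutPSL.conjMat_toGL]
    rfl

/-- The prime, its elements, and the outer involutory automorphisms fixing them. -/
theorem exists_outer_prime (hp5 : 5 ≤ p) :
    ∃ r : ℕ, r.Prime ∧ r ≠ 2 ∧ r ∣ Nat.card PSL(2, ZMod p) ∧
      (∀ a t : PSL(2, ZMod p), orderOf a = r → orderOf t = 2 → ¬ Commute a t) ∧
      ∀ β : MulAut PSL(2, ZMod p), (∀ x, β ≠ MulAut.conj x) →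
        ∃ x a : PSL(2, ZMod p), orderOf a = r ∧ (β * MulAut.conj x) a = a ∧
          (β * MulAut.conj x) * (β * MulAut.conj x) = 1 := by
  classical
  have h2 := two_ne_zero' hp5
  have hodd : p % 2 = 1 := Nat.odd_iff.1 (hp.out.odd_of_ne_two (by omega))
  set m := if p % 4 = 1 then p + 1 else p - 1 with hm
  have hm2 : m = 2 * (m / 2) ∧ m / 2 ≠ 1 ∧ Odd (m / 2) := by
    rw [hm, Nat.odd_iff]; split_ifs <;> omega
  obtain ⟨r, hr, hrd⟩ := Nat.exists_prime_and_dvd hm2.2.1
  have hr2 : r ≠ 2 := fun e => (Nat.not_even_iff_odd.2 hm2.2.2) (even_iff_two_dvd.2 (e ▸ hrd))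
  have hrm : r ∣ m := hm2.1 ▸ hrd.mul_left 2
  have hrp : r ≠ p := by
    intro e
    subst e
    have h1 : r ∣ 1 := by
      rw [hm] at hrm
      split_ifs at hrm with h4
      · exact (Nat.dvd_add_right dvd_rfl).1 hrm
      · have := Nat.dvd_sub (dvd_refl r) hrm
        rwa [show r - (r - 1) = 1 by omega] at this
    exact hr.not_dvd_one h1
  haveI := Fact.mk hr
  have hcard : r ∣ Nat.card PSL(2, ZMod p) := by
    have h := Classical.card_PSL_two (F := ZMod p)
    rw [ZMod.card] at h
    have hd : r ∣ Nat.gcd 2 (p - 1) * Nat.card PSL(2, ZMod p) := by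
      rw [h]
      refine dvd_mul_of_dvd_right (hrm.trans ?_) p
      rw [hm, show p ^ 2 - 1 = (p + 1) * (p - 1) by rw [← Nat.sq_sub_sq, one_pow]]
      split_ifs
      · exact dvd_mul_right _ _
      · exact dvd_mul_left _ _
    rcases hr.dvd_mul.1 hd with e | e
    · exact absurd ((Nat.prime_dvd_prime_iff_eq hr Nat.prime_two).1 (e.trans (Nat.gcd_dvd_left 2 _))) hr2
    · exact e
  -- lifts of elements of order `r`
  have hlift : ∀ a : PSL(2, ZMod p), orderOf a = r →
      ∃ A : SL(2, ZMod p), orderOf A = r ∧ SL2.proj A = a := by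
    intro a ha
    obtain ⟨A, hA⟩ := AutPSL.mkP_surjective a
    have hc : A ^ r ∈ Subgroup.center SL(2, ZMod p) := by
      rw [← SL2.proj_eq_one_iff, map_pow]
      show (AutPSL.mkP A) ^ r = 1
      rw [hA, ← ha, pow_orderOf_eq_one]
    have hfin : ∀ B : SL(2, ZMod p), B ^ r = 1 → SL2.proj B = a → orderOf B = r := by
      intro B hB hBa
      refine orderOf_eq_prime hB fun e => ?_
      rw [e, map_one] at hBa
      exact hr.ne_one (by rw [← ha, ← hBa, orderOf_one])
    rcases SL2.eq_one_or_eq_neg_one_of_mem_center (A ^ r) hc with e | e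
    · exact ⟨A, hfin A e hA, hA⟩
    · have hpr : SL2.proj (-A) = a := by
        rw [← neg_one_mul A, map_mul, show SL2.proj (-1 : SL(2, ZMod p)) = 1 from
          (SL2.proj_eq_one_iff _).2 (Subgroup.mem_center_iff.2 fun g => by simp), one_mul]
        exact hA
      exact ⟨-A, hfin (-A) (by rw [Odd.neg_pow (hr.odd_of_ne_two hr2), e, neg_neg]) hpr, hpr⟩
  refine ⟨r, hr, hr2, hcard, ?_, ?_⟩
  · -- no involution commutes
    intro a t ha ht hc
    obtain ⟨A, hA, hAa⟩ := hlift a ha
    obtain ⟨T, hT⟩ := AutPSL.mkP_surjective t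
    have hT' : SL2.proj T = t := hT
    have ht2 : t * t = 1 := by
      have := pow_orderOf_eq_one t
      rwa [ht, pow_two] at this
    have hTT : T * T = -1 := by
      have hz : T * T ∈ Subgroup.center SL(2, ZMod p) := by rw [← SL2.proj_eq_one_iff, map_mul, hT', ht2]
      rcases SL2.eq_one_or_eq_neg_one_of_mem_center _ hz with e | e
      · exfalso
        have hinv : T⁻¹ = T := inv_eq_of_mul_eq_one_right e
        have hM := congrArg (fun X : SL(2, ZMod p) => (X : Matrix (Fin 2) (Fin 2) (ZMod p))) hinv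
        simp only [Matrix.SpecialLinearGroup.coe_inv, Matrix.adjugate_fin_two] at hM
        have e00 := congrFun (congrFun hM 0) 0
        have e01 := congrFun (congrFun hM 0) 1
        have e10 := congrFun (congrFun hM 1) 0
        simp at e00 e01 e10
        have h01 : (T : Matrix (Fin 2) (Fin 2) (ZMod p)) 0 1 = 0 :=
          (mul_eq_zero.1 (show (2 : ZMod p) * T 0 1 = 0 by linear_combination -e01)).resolve_left h2
        have h10 : (T : Matrix (Fin 2) (Fin 2) (ZMod p)) 1 0 = 0 :=
          (mul_eq_zero.1 (show (2 : ZMod p) * T 1 0 = 0 by linear_combination -e10)).resolve_left h2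
        have hcen : T ∈ Subgroup.center SL(2, ZMod p) := by
          refine Subgroup.mem_center_iff.2 fun g => Subtype.ext ?_
          rw [Matrix.SpecialLinearGroup.coe_mul, Matrix.SpecialLinearGroup.coe_mul]
          ext i j
          fin_cases i <;> fin_cases j <;> simp [Matrix.mul_apply, Fin.sum_univ_two, h01, h10, e00] <;> ring
        exact ne_of_gt one_lt_two (by rw [← ht, ← hT', (SL2.proj_eq_one_iff T).2 hcen, orderOf_one])
      · exact e
    have hcom : A * T = T * A := by
      have hz : A * T * (T * A)⁻¹ ∈ Subgroup.center SL(2, ZMod p) := by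
        rw [← SL2.proj_eq_one_iff, map_mul, map_inv, map_mul, map_mul, hAa, hT', hc.eq, mul_inv_cancel]
      rcases SL2.eq_one_or_eq_neg_one_of_mem_center _ hz with e | e
      · exact mul_inv_eq_one.1 e
      · exfalso
        rw [mul_inv_eq_iff_eq_mul, neg_one_mul] at e
        have hconj : T * A * T⁻¹ = -A := by
          rw [show T * A = -(A * T) by rw [e, neg_neg], neg_mul, mul_inv_cancel_right]
        have := congrArg (fun X => X ^ r) hconj
        have hAr : A ^ r = 1 := hA ▸ pow_orderOf_eq_one A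
        simp only [conj_pow, Odd.neg_pow (hr.odd_of_ne_two hr2), hAr, mul_one,
          mul_inv_cancel] at this
        have e' := congrArg (fun X : SL(2, ZMod p) => (X : Matrix (Fin 2) (Fin 2) (ZMod p)) 0 0) this
        simp at e'
        exact h2 (by linear_combination e')
    obtain ⟨hδ, hnd⟩ := neg_disc hp5 hr hr2 hrp hrm hA
    have hM : ((A : SL(2, ZMod p)) : Matrix (Fin 2) (Fin 2) (ZMod p)) * T =
        (T : Matrix (Fin 2) (Fin 2) (ZMod p)) * A :=
      congrArg (fun X : SL(2, ZMod p) => (X : Matrix (Fin 2) (Fin 2) (ZMod p))) hcom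
    have htr := SL2.trace_eq_zero_of_mul_self h2 hTT
    rw [Matrix.trace_fin_two] at htr
    have e00 := congrFun (congrFun hM 0) 0
    have e01 := congrFun (congrFun hM 0) 1
    have e10 := congrFun (congrFun hM 1) 0
    simp [Matrix.mul_apply, Fin.sum_univ_two] at e00 e01 e10
    have hdT : T 0 0 * T 1 1 - T 0 1 * T 1 0 = 1 := by
      rw [← Matrix.det_fin_two]; exact T.det_coe
    have hdA : A 0 0 * A 1 1 - A 0 1 * A 1 0 = 1 := by
      rw [← Matrix.det_fin_two]; exact A.det_coe
    -- `A - A⁻¹` is a multiple `s` of `T`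
    set s := -((A 0 0 - A 1 1) * T 0 0 + A 0 1 * T 1 0 + A 1 0 * T 0 1) with hs
    have hbz : A 0 1 * T 1 0 - T 0 1 * A 1 0 = 0 := by linear_combination e00
    have hP : T 0 1 * (A 0 0 - A 1 1) - 2 * T 0 0 * A 0 1 = 0 := by
      linear_combination e01 - A 0 1 * htr
    have hQ : T 1 0 * (A 0 0 - A 1 1) - 2 * T 0 0 * A 1 0 = 0 := by
      linear_combination -e10 - A 1 0 * htr
    have hsq : -((A 0 0 + A 1 1) ^ 2 - 4) = s ^ 2 := by
      rw [hs]
      linear_combination -4 * hdA + ((A 0 0 - A 1 1) ^ 2 + 4 * A 0 1 * A 1 0) * hdT -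
        ((A 0 0 - A 1 1) ^ 2 + 4 * A 0 1 * A 1 0) * T 0 0 * htr -
        (A 0 1 * T 1 0 - A 1 0 * T 0 1) * hbz +
        (T 1 0 * (A 0 0 - A 1 1) - 2 * T 0 0 * A 1 0) * hP
    rw [hsq] at hnd
    have hs0 : s ≠ 0 := fun e0 => hδ (by
      have := hsq
      rw [e0] at this
      linear_combination -this)
    rw [← pow_mul, show 2 * (p / 2) = p - 1 by omega, ZMod.pow_card_sub_one_eq_one hs0] at hnd
    exact h2 (by linear_combination hnd)
  · intro β hβ
    obtain ⟨g, σ, hg⟩ := AutPSL.exists_normal_form_two p β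
    have hσ : σ = 1 := RingEquiv.ext fun x =>
      congrFun (congrArg DFunLike.coe (Subsingleton.elim σ.toRingHom (RingHom.id (ZMod p)))) x
    rw [hσ, map_one, mul_one] at hg
    obtain ⟨a, ha⟩ := exists_prime_orderOf_dvd_card' r hcard
    obtain ⟨A, hA, hAa⟩ := hlift a ha
    obtain ⟨hδ, hnd⟩ := neg_disc hp5 hr hr2 hrp hrm hA
    set M := ((A : SL(2, ZMod p)) : Matrix (Fin 2) (Fin 2) (ZMod p)) with hMdef
    set h := M - M.adjugate with hh
    set δ := (A 0 0 + A 1 1) ^ 2 - 4 with hδdef
    have hdA : M 0 0 * M 1 1 - M 0 1 * M 1 0 = 1 := by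
      rw [← Matrix.det_fin_two]; exact A.det_coe
    have hsq : h * h = δ • (1 : Matrix (Fin 2) (Fin 2) (ZMod p)) := by
      rw [hh, Matrix.adjugate_fin_two]
      ext i j
      fin_cases i <;> fin_cases j <;>
        simp [Matrix.mul_apply, Fin.sum_univ_two, δ, ← hMdef] <;>
          first
            | linear_combination -4 * hdA
            | ring1
    have hdet : h.det = -δ := by
      rw [hh, Matrix.adjugate_fin_two, Matrix.det_fin_two, hδdef]
      simp [← hMdef]
      linear_combination 4 * hdA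
    let H : GL (Fin 2) (ZMod p) := Matrix.GeneralLinearGroup.mkOfDetNeZero h (by rw [hdet]; exact neg_ne_zero.2 hδ)
    have hHcoe : (H : Matrix (Fin 2) (Fin 2) (ZMod p)) = h := rfl
    -- `det g` is not a square
    have hgns : ¬ IsSquare ((g : Matrix (Fin 2) (Fin 2) (ZMod p)).det) := by
      rintro ⟨s, hs⟩
      have hdg := (g.isUnit.map Matrix.detMonoidHom).ne_zero
      simp only [Matrix.coe_detMonoidHom] at hdg
      have hs0 : s ≠ 0 := fun e => hdg (by rw [hs, e, zero_mul])
      let S : SL(2, ZMod p) := ⟨s⁻¹ • (g : Matrix (Fin 2) (Fin 2) (ZMod p)), by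
        rw [Matrix.det_smul, hs, Fintype.card_fin]; field_simp⟩
      refine hβ (SL2.proj S) (hg.trans ?_)
      rw [← delta_toGL_eq_conj S]
      exact (delta_eq_of_smul (g' := Matrix.SpecialLinearGroup.toGL S) (c := s⁻¹) rfl).symm
    have hdg : (g : Matrix (Fin 2) (Fin 2) (ZMod p)).det ≠ 0 := fun e => hgns (by rw [e]; exact ⟨0, by simp⟩)
    obtain ⟨s, hs⟩ : IsSquare (-δ / (g : Matrix (Fin 2) (Fin 2) (ZMod p)).det) := by
      rw [ZMod.euler_criterion p (div_ne_zero (neg_ne_zero.2 hδ) hdg), div_pow, hnd,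
        (not_isSquare_iff hdg hp5).1 hgns, div_self (neg_ne_zero.2 one_ne_zero)]
    have hs0 : s ≠ 0 := fun e => hδ (by
      rw [e, mul_zero, div_eq_zero_iff] at hs
      simpa using hs.resolve_right hdg)
    let S : SL(2, ZMod p) := ⟨s⁻¹ • ((g⁻¹ : GL (Fin 2) (ZMod p)) : Matrix (Fin 2) (Fin 2) (ZMod p)) * h, by
      rw [Matrix.det_mul, Matrix.det_smul, Fintype.card_fin, Matrix.coe_units_inv, Matrix.det_nonsing_inv,
        Ring.inverse_eq_inv, hdet, inv_pow, pow_two, ← hs]
      field_simp⟩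
    have hHg : AutPSL.delta H = β * MulAut.conj (SL2.proj S) := by
      rw [hg, ← delta_toGL_eq_conj S, ← map_mul]
      refine (delta_eq_of_smul (c := s⁻¹) ?_).symm
      rw [Units.val_mul, hHcoe]
      show (g : Matrix (Fin 2) (Fin 2) (ZMod p)) * (s⁻¹ • _ * h) = _
      rw [Matrix.smul_mul, Matrix.mul_smul, ← Matrix.mul_assoc, Units.mul_inv, Matrix.one_mul]
    refine ⟨SL2.proj S, a, ha, ?_, ?_⟩
    · rw [← hHg, ← hAa]
      show AutPSL.delta H (A : PSL(2, ZMod p)) = (A : PSL(2, ZMod p))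
      rw [AutPSL.delta_mkP]
      congr 1
      apply Subtype.ext
      rw [AutPSL.conjMat_coe, hHcoe]
      have hcomm : h * M = M * h := by
        rw [hh, Matrix.sub_mul, Matrix.mul_sub, Matrix.adjugate_mul, Matrix.mul_adjugate]
      rw [hcomm, Matrix.mul_assoc, ← hHcoe, Units.mul_inv, Matrix.mul_one]
    · rw [← hHg, ← map_mul]
      refine AutPSL.delta_eq_one_of_mem_center (Subgroup.mem_center_iff.2 fun x => Units.ext ?_)
      simp only [Units.val_mul, hHcoe, hsq, Matrix.mul_smul, Matrix.smul_mul, Matrix.one_mul,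
        Matrix.mul_one]

end CfsgLib.SuzukiCyclic
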