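import Cfsg.Agent.Lib.SuzukiCyclic.DihedralFour
import Cfsg.Agent.Lib.SuzukiCyclic.PSLOuter
import Cfsg.Agent.Lib.Classical.Transvection
import Cfsg.Agent.Lib.Layer.PComponent
import Cfsg.Agent.Lib.ThreeOrders.Odd

/-!
# An element `z` of prime order in the odd core centralised by a reflection

Its centraliser has one class of involutions.  It is solvable, because otherwise an outer involution
of its component `PSL₂(p)` has too large a centraliser; hence the Sylow 2-subgroup has order 8.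
-/

set_option autoImplicit false
set_option linter.unusedSectionVars false
set_option linter.style.haveILetI false

namespace CfsgLib.SuzukiCyclic

open Cfsg CfsgLib.Invol
open CfsgLib.DihBlock (Data)
open scoped commutatorElement

universe u

variable {G : Type u} [Group G] [Finite G]

/-- The standing hypotheses. -/
structure Setting (P : Sylow 2 G) (σ τ : G) (m : ℕ) (U : Subgroup G) (n z : G) : Prop where
  data : Data P σ τ m
  core : Core P (σ ^ m) U
  one : ∀ x y : G, orderOf x = 2 → orderOf y = 2 → IsConj x y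
  n_tau : n * τ * n⁻¹ = σ ^ m
  n_t : n * σ ^ m * n⁻¹ = τ * σ ^ m
  z_mem : z ∈ U
  z_tau : Commute z τ
  z_ne : z ≠ 1

variable {P : Sylow 2 G} {σ τ : G} {m : ℕ} {U : Subgroup G} {n z : G}

theorem Setting.U_commute (T : Setting P σ τ m U n z) {a b : G} (ha : a ∈ U) (hb : b ∈ U) :
    Commute a b := by
  haveI := T.core.cyclic
  exact congrArg Subtype.val (mul_comm' (⟨_, ha⟩ : U) ⟨_, hb⟩)

theorem Setting.n_z (T : Setting P σ τ m U n z) : Commute n z :=
  cycle_commute T.data T.core T.n_tau T.n_t T.z_mem T.z_tau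

theorem Setting.sigma_sq_z (T : Setting P σ τ m U n z) : Commute (σ * σ) z :=
  sigma_sq_commute T.data T.core T.z_mem

theorem Setting.sigma_z (T : Setting P σ τ m U n z) : σ * z * σ⁻¹ = z⁻¹ :=
  sigma_inv T.data T.core T.z_mem T.z_tau

theorem Setting.t_z (T : Setting P σ τ m U n z) : Commute (σ ^ m) z := (T.core.comm_t z T.z_mem).symm

theorem Setting.not_sigma_z (T : Setting P σ τ m U n z) : ¬ Commute σ z := fun h => by
  have e := T.sigma_z
  rw [h.eq, mul_inv_cancel_right] at e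
  exact T.z_ne (DGroup.eq_one_of_odd_sq (T.core.odd_orderOf T.z_mem) (eq_inv_iff_mul_eq_one.mp e))

/-- `σ` normalises the centraliser of `z`. -/
theorem Setting.sigma_conj (T : Setting P σ τ m U n z) {g : G} (hg : Commute g z) :
    Commute (σ * g * σ⁻¹) z := by
  have h : Commute (σ * g * σ⁻¹) (σ * z * σ⁻¹) := Commute.conj hg σ
  rw [T.sigma_z] at h
  exact Commute.inv_right_iff.1 h

theorem Setting.sq_pow_z (T : Setting P σ τ m U n z) (j : ℕ) : Commute (σ ^ (2 * j)) z := by
  rw [pow_mul, pow_two]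
  exact T.sigma_sq_z.pow_left j

/-- The elements of `P` centralising `z`. -/
theorem Setting.mem_cent_sylow (T : Setting P σ τ m U n z) {s : G} (hs : s ∈ (P : Subgroup G))
    (hsz : Commute s z) : ∃ j : ℕ, s = σ ^ (2 * j) ∨ s = σ ^ (2 * j) * τ := by
  obtain ⟨i, hi⟩ := T.data.cases s hs
  rcases Nat.even_or_odd' i with ⟨j, rfl | rfl⟩
  · exact ⟨j, hi⟩
  · exfalso
    refine T.not_sigma_z ?_
    have h1 : Commute (σ ^ (2 * j + 1)) z := by
      rcases hi with rfl | rfl
      · exact hsz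
      · have := hsz.mul_left T.z_tau.symm
        rwa [mul_assoc, T.data.sqτ, mul_one] at this
    have h2 := (T.sq_pow_z j).inv_left.mul_left h1
    rwa [pow_succ, inv_mul_cancel_left] at h2

/-- No conjugate of `P` centralises `z`. -/
theorem Setting.no_sylow (T : Setting P σ τ m U n z) (g : G) :
    ¬ ∀ s ∈ (P : Subgroup G), Commute (g * s * g⁻¹) z := by
  intro hall
  have hall' : ∀ s ∈ (P : Subgroup G), Commute (g⁻¹ * z * g) s := fun s hs => by
    have e : Commute (g⁻¹ * (g * s * g⁻¹) * g⁻¹⁻¹) (g⁻¹ * z * g⁻¹⁻¹) := Commute.conj (hall s hs) g⁻¹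
    rw [inv_inv, show g⁻¹ * (g * s * g⁻¹) * g = s by group] at e
    exact e.symm
  have ho : Odd (orderOf (g⁻¹ * z * g)) := by
    have : g⁻¹ * z * g = MulAut.conj g⁻¹ z := by simp [MulAut.conj_apply]
    rw [this, MulEquiv.orderOf_eq]
    exact T.core.odd_orderOf T.z_mem
  have h1 := T.core.fix_sylow _ (T.core.mem_of_odd _ ho (hall' _ (pow_mem T.data.memσ m))) hall'
  exact T.z_ne (by
    calc z = g * (g⁻¹ * z * g) * g⁻¹ := by group
      _ = 1 := by rw [h1, mul_one, mul_inv_cancel])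

/-- `P ⊓ C(z)` is a Sylow 2-subgroup of `C(z)`. -/
theorem Setting.exists_sylow (T : Setting P σ τ m U n z) :
    ∃ Q : Sylow 2 (Subgroup.centralizer ({z} : Set G)),
      (Q : Subgroup (Subgroup.centralizer ({z} : Set G))) =
        (P : Subgroup G).subgroupOf (Subgroup.centralizer ({z} : Set G)) := by
  classical
  haveI := Fact.mk Nat.prime_two
  set C := Subgroup.centralizer ({z} : Set G) with hC
  obtain ⟨Q, hQ⟩ := (P.2.comap_of_injective C.subtype C.subtype_injective :
    IsPGroup 2 ((P : Subgroup G).subgroupOf C)).exists_le_sylow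
  refine ⟨Q, (Subgroup.eq_of_le_of_card_ge hQ ?_).symm⟩
  have hlow : Nat.card (P : Subgroup G) = 2 * Nat.card ↥((P : Subgroup G) ⊓ C) := by
    refine DGroup.card_two_coset inf_le_left T.data.memσ
      (fun e => T.not_sigma_z (Subgroup.mem_centralizer_singleton_iff.1 e.2)) fun s hs => ?_
    obtain ⟨i, hi⟩ := T.data.cases s hs
    have hτC : τ ∈ C := Subgroup.mem_centralizer_singleton_iff.2 T.z_tau.eq.symm
    have hev : ∀ j, σ ^ (2 * j) ∈ C := fun j =>
      Subgroup.mem_centralizer_singleton_iff.2 (T.sq_pow_z j).eq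
    rcases Nat.even_or_odd' i with ⟨j, rfl | rfl⟩
    · left
      refine ⟨hs, ?_⟩
      rcases hi with rfl | rfl
      · exact hev j
      · exact mul_mem (hev j) hτC
    · right
      refine ⟨mul_mem T.data.memσ hs, ?_⟩
      rcases hi with rfl | rfl
      · rw [← pow_succ']; exact hev (j + 1)
      · rw [← mul_assoc, ← pow_succ']; exact mul_mem (hev (j + 1)) hτC
  have hcard0 : Nat.card ↥((P : Subgroup G).subgroupOf C) = Nat.card ↥((P : Subgroup G) ⊓ C) := by
    rw [← Subgroup.card_map_of_injective C.subtype_injective, Subgroup.subgroupOf_map_subtype]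
  obtain ⟨R, hR⟩ := (Q.2.map C.subtype).exists_le_sylow
  obtain ⟨g, hg⟩ := MulAction.exists_smul_eq G P R
  have hne : (Q : Subgroup C).map C.subtype ≠ (R : Subgroup G) := fun e => T.no_sylow g fun s hs => by
    have : g * s * g⁻¹ ∈ (R : Subgroup G) := by
      rw [← hg, Sylow.coe_subgroup_smul]; exact ⟨s, hs, rfl⟩
    rw [← e] at this
    obtain ⟨q, -, hq⟩ := this
    exact hq ▸ Subgroup.mem_centralizer_singleton_iff.1 q.2
  obtain ⟨b, hb⟩ := (Q.2.map C.subtype).exists_card_eq
  obtain ⟨a, ha⟩ := R.2.exists_card_eq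
  have hRP : Nat.card (R : Subgroup G) = Nat.card (P : Subgroup G) :=
    R.card_eq_multiplicity.trans P.card_eq_multiplicity.symm
  have hlt : Nat.card ↥((Q : Subgroup C).map C.subtype) < Nat.card (R : Subgroup G) :=
    lt_of_le_of_ne (Subgroup.card_le_of_le hR) fun e => hne (Subgroup.eq_of_le_of_card_ge hR e.ge)
  rw [Subgroup.card_map_of_injective C.subtype_injective] at hb hlt
  rw [hb, ha] at hlt
  have hba : b + 1 ≤ a := (Nat.pow_lt_pow_iff_right one_lt_two).1 hlt
  have := Nat.pow_le_pow_right two_pos hba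
  rw [pow_succ, ← ha, hRP, hlow, ← hb, hcard0.symm] at this
  show Nat.card (Q : Subgroup C) ≤ Nat.card ↥((P : Subgroup G).subgroupOf C)
  omega

/-- `C(z)` has one class of involutions. -/
theorem Setting.one_cent (T : Setting P σ τ m U n z) {x : G} (hx : orderOf x = 2) (hxz : Commute x z) :
    ∃ g : G, Commute g z ∧ g * σ ^ m * g⁻¹ = x := by
  classical
  haveI := Fact.mk Nat.prime_two
  set C := Subgroup.centralizer ({z} : Set G) with hC
  obtain ⟨Q, hQ⟩ := T.exists_sylow
  set x' : C := ⟨x, Subgroup.mem_centralizer_singleton_iff.2 hxz.eq⟩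
  obtain ⟨R, hR⟩ := (IsPGroup.of_card (p := 2) (G := Subgroup.zpowers x') (n := 1)
    (by rw [Nat.card_zpowers, ← Subgroup.orderOf_coe, hx, pow_one])).exists_le_sylow
  obtain ⟨r, hr⟩ := MulAction.exists_smul_eq C Q R
  have hmem : x' ∈ ((r • Q : Sylow 2 C) : Subgroup C) := hr ▸ hR (Subgroup.mem_zpowers x')
  rw [Sylow.coe_subgroup_smul] at hmem
  obtain ⟨y, hy, hyx⟩ := hmem
  have hyP : (y : G) ∈ (P : Subgroup G) := by rw [hQ] at hy; exact hy
  have hxy : (r : G) * y * (r : G)⁻¹ = x := congrArg Subtype.val hyx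
  have hrz : Commute (r : G) z := Subgroup.mem_centralizer_singleton_iff.1 r.2
  have hyo : orderOf (y : G) = 2 := by
    rw [← MulEquiv.orderOf_eq (MulAut.conj (r : G)) (y : G), MulAut.conj_apply, hxy, hx]
  suffices ∃ g : G, Commute g z ∧ g * σ ^ m * g⁻¹ = y by
    obtain ⟨g, hg, hgy⟩ := this
    exact ⟨r * g, hrz.mul_left hg, by rw [← hxy, ← hgy]; group⟩
  obtain ⟨j, hj | hj⟩ := T.mem_cent_sylow hyP (Subgroup.mem_centralizer_singleton_iff.1 y.2)
  · refine ⟨1, Commute.one_left z, ?_⟩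
    rw [one_mul, inv_one, mul_one]
    exact (DihBlock.eq_z_of_sq T.data (hj ▸ pow_mem (Subgroup.mem_zpowers σ) _)
      (mul_self_of_orderOf_two hyo) (ne_one_of_orderOf_two hyo)).symm
  · -- `σ ^ (2j) τ = σ ^ j τ σ ^ (-j)`
    have hjy : σ ^ j * τ * (σ ^ j)⁻¹ = y := by
      rw [hj, two_mul, pow_add, mul_assoc (σ ^ j), mul_assoc (σ ^ j)]
      congr 1
      have e := DihBlock.tau_mul_pow T.data j
      calc τ * (σ ^ j)⁻¹ = σ ^ j * ((σ ^ j)⁻¹ * τ) * (σ ^ j)⁻¹ := by group
        _ = σ ^ j * τ := by rw [← e]; group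
    have hn' : Commute (σ * n * σ⁻¹) z := T.sigma_conj T.n_z
    have hnτ : n⁻¹ * σ ^ m * n = τ := by rw [← T.n_tau]; group
    rcases Nat.even_or_odd' j with ⟨i, rfl | rfl⟩
    · refine ⟨σ ^ (2 * i) * n⁻¹, (T.sq_pow_z i).mul_left T.n_z.inv_left, ?_⟩
      rw [← hjy, ← hnτ]; group
    · refine ⟨σ ^ (2 * i) * (σ * n * σ⁻¹)⁻¹, (T.sq_pow_z i).mul_left hn'.inv_left, ?_⟩
      have hσt : σ⁻¹ * σ ^ m * σ = σ ^ m := by
        rw [mul_assoc, ← (Commute.self_pow σ m).eq, inv_mul_cancel_left]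
      calc σ ^ (2 * i) * (σ * n * σ⁻¹)⁻¹ * σ ^ m * (σ ^ (2 * i) * (σ * n * σ⁻¹)⁻¹)⁻¹
          = σ ^ (2 * i) * σ * (n⁻¹ * (σ⁻¹ * σ ^ m * σ) * n) * (σ ^ (2 * i) * σ)⁻¹ := by group
        _ = (y : G) := by rw [hσt, hnτ, ← pow_succ, hjy]

/-- `C(z)` has no subgroup of index two. -/
theorem Setting.no_index_two (T : Setting P σ τ m U n z)
    (N : Subgroup (Subgroup.centralizer ({z} : Set G))) : N.index ≠ 2 := by
  classical
  intro hi
  haveI := Fact.mk Nat.prime_two
  haveI hN : N.Normal := Subgroup.normal_of_index_eq_two hi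
  obtain ⟨Q, hQ⟩ := T.exists_sylow
  let t' : ↥(Subgroup.centralizer ({z} : Set G)) := ⟨σ ^ m, Subgroup.mem_centralizer_singleton_iff.2 T.t_z.eq⟩
  let τ' : ↥(Subgroup.centralizer ({z} : Set G)) := ⟨τ, Subgroup.mem_centralizer_singleton_iff.2 T.z_tau.eq.symm⟩
  have hall : ∀ x : ↥(Subgroup.centralizer ({z} : Set G)), orderOf (x : G) = 2 → (x ∈ N ↔ t' ∈ N) := by
    intro x hx
    obtain ⟨g, hg, hgx⟩ := T.one_cent hx (Subgroup.mem_centralizer_singleton_iff.1 x.2)
    let g' : ↥(Subgroup.centralizer ({z} : Set G)) := ⟨g, Subgroup.mem_centralizer_singleton_iff.2 hg.eq⟩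
    rw [show x = g' * t' * g'⁻¹ from Subtype.ext hgx.symm]
    exact ⟨fun h => by simpa [mul_assoc] using hN.conj_mem _ h g'⁻¹, fun h => hN.conj_mem _ h g'⟩
  have ho1 : orderOf ((τ' * t' : ↥(Subgroup.centralizer ({z} : Set G))) : G) = 2 := by
    show orderOf (τ * σ ^ m) = 2
    rw [← T.n_t]
    exact conj_orderOf_two (DihBlock.orderOf_z T.data) n
  have hτN := hall τ' (DihBlock.orderOf_tau T.data)
  have htN : t' ∈ N := by
    by_contra ht
    exact ht ((hall _ ho1).1 ((Subgroup.mul_mem_iff_of_index_two hi).2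
      (iff_of_false (fun h => ht (hτN.1 h)) ht)))
  have hQN : (Q : Subgroup ↥(Subgroup.centralizer ({z} : Set G))) ≤ N := by
    intro y hy
    rw [hQ] at hy
    have hτN' : τ' ∈ N := hτN.2 htN
    obtain ⟨j, hj | hj⟩ := T.mem_cent_sylow hy (Subgroup.mem_centralizer_singleton_iff.1 y.2)
    · have hy' : y = (y * τ') * τ' := by
        refine Subtype.ext ?_
        show (y : G) = y * τ * τ
        rw [mul_assoc, T.data.sqτ, mul_one]
      rw [hy']
      refine mul_mem ((hall _ ?_).2 htN) hτN'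
      show orderOf ((y : G) * τ) = 2
      rw [show (y : G) = σ ^ (2 * j) from hj]
      exact DihBlock.orderOf_refl T.data (2 * j)
    · refine (hall y ?_).2 htN
      rw [show (y : G) = σ ^ (2 * j) * τ from hj]
      exact DihBlock.orderOf_refl T.data (2 * j)
  have h2 := Subgroup.index_dvd_of_le hQN
  rw [hi] at h2
  exact Q.not_dvd_index h2

/-- `C(z)` is solvable. -/
theorem Setting.solvable [IsSimpleGroup G] (hna : ¬ IsMulCommutative G) (h : OddCyclic G)
    (ih : SmallerShape G) (T : Setting P σ τ m U n z) :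
    Group.IsSolvable ↥(Subgroup.centralizer ({z} : Set G)) := by
  classical
  by_contra hns
  set C := Subgroup.centralizer ({z} : Set G) with hC
  have htop : C ≠ ⊤ := fun e => T.not_sigma_z (Subgroup.mem_centralizer_singleton_iff.1
    (show σ ∈ C by rw [e]; exact Subgroup.mem_top σ))
  obtain ⟨G₀, -, hi, X, L, hXn, hLn, hXL, hsup, hcop, hXodd, -, p, hp, hp5, hL⟩ := ih C htop hns
  have hG₀ : G₀ = ⊤ := by
    rcases (Nat.dvd_prime Nat.prime_two).1 hi with e | e
    · exact Subgroup.index_eq_one.1 e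
    · exact absurd e (T.no_index_two G₀)
  subst hG₀
  let f : ↥(⊤ : Subgroup C) →* G := C.subtype.comp (Subgroup.subtype _)
  have hf : Function.Injective f := C.subtype_injective.comp Subtype.val_injective
  let lift : ∀ g : G, Commute g z → ↥(⊤ : Subgroup C) := fun g hg =>
    ⟨⟨g, Subgroup.mem_centralizer_singleton_iff.2 hg.eq⟩, Subgroup.mem_top _⟩
  have hfz : ∀ w : ↥(⊤ : Subgroup C), Commute (f w) z := fun w =>
    Subgroup.mem_centralizer_singleton_iff.1 (w : C).2
  haveI := hXn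
  haveI := hLn
  have hcommXL : ∀ x ∈ X, ∀ l ∈ L, Commute x l := fun x hx l hl =>
    Subgroup.commute_of_normal_of_disjoint X L hXn hLn (disjoint_iff.2 hXL) x l hx hl
  have hdec : ∀ w : ↥(⊤ : Subgroup C), ∃ x ∈ X, ∃ l ∈ L, x * l = w := fun w =>
    Subgroup.mem_sup_of_normal_left.1 (hsup ▸ Subgroup.mem_top w)
  -- involutions of `C(z)` lie in `L`
  have hinvL : ∀ w : ↥(⊤ : Subgroup C), orderOf (f w) = 2 → w ∈ L := by
    intro w hw
    obtain ⟨x, hx, l, hl, rfl⟩ := hdec w
    have h2 : (x * l) * (x * l) = 1 := hf (by rw [map_mul, map_one]; exact mul_self_of_orderOf_two hw)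
    have hxx : x * x = (l * l)⁻¹ := eq_inv_of_mul_eq_one_left (by
      rw [← h2, (hcommXL x hx l hl).symm.mul_mul_mul_comm])
    have hx1 : x * x ∈ X ⊓ L := ⟨X.mul_mem hx hx, hxx ▸ L.inv_mem (L.mul_mem hl hl)⟩
    rw [hXL, Subgroup.mem_bot] at hx1
    rw [DGroup.eq_one_of_odd_sq (hXodd.of_dvd_nat (X.orderOf_dvd_natCard hx)) hx1, one_mul]
    exact hl
  set t' := lift (σ ^ m) T.t_z
  set τ' := lift τ T.z_tau.symm
  have ht'L : t' ∈ L := hinvL t' (DihBlock.orderOf_z T.data)
  have hτ'L : τ' ∈ L := hinvL τ' (DihBlock.orderOf_tau T.data)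
  have htτ : σ ^ m ≠ τ := fun e =>
    DihBlock.tau_not_mem T.data (e ▸ pow_mem (Subgroup.mem_zpowers σ) m)
  -- `L` is `PSL₂(p)`
  obtain ⟨e⟩ : Nonempty (↥L ≃* Matrix.ProjectiveSpecialLinearGroup (Fin 2) (ZMod p)) := by
    rcases hL with h' | ⟨⟨e⟩⟩
    · exact h'
    exfalso
    set c : Matrix.SpecialLinearGroup (Fin 2) (ZMod p) := -1 with hc
    have hc1 : c ≠ 1 := fun e1 => two_ne_zero' hp5 (by
      have := congrArg (fun A : Matrix.SpecialLinearGroup (Fin 2) (ZMod p) =>
        (A : Matrix (Fin 2) (Fin 2) (ZMod p)) 0 0) e1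
      simp [hc] at this
      linear_combination -this)
    have hcc : c * c = 1 := by rw [hc]; simp
    set cL : ↥L := e.symm c
    have hcL1 : f cL ≠ 1 := fun e1 => hc1 (by
      have h1 : cL = 1 := Subtype.ext (hf (e1.trans (map_one f).symm))
      simpa [cL] using congrArg e h1)
    have hcen : ∀ w : ↥(⊤ : Subgroup C), Commute (cL : ↥(⊤ : Subgroup C)) w := by
      intro w
      obtain ⟨x, hx, l, hl, rfl⟩ := hdec w
      refine ((hcommXL x hx _ cL.2).symm).mul_right ?_
      have : Commute c (e ⟨l, hl⟩) := by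
        show c * _ = _ * c
        rw [hc]; simp
      exact congrArg Subtype.val (e.injective
        (show e (cL * ⟨l, hl⟩) = e (⟨l, hl⟩ * cL) by simp [cL, map_mul, this.eq]))
    have hcLo : orderOf (f cL) = 2 := by
      refine orderOf_two_of_mul_self ?_ hcL1
      rw [← map_mul, show ((cL : ↥(⊤ : Subgroup C)) * cL) = ((cL * cL : ↥L) : ↥(⊤ : Subgroup C)) from rfl,
        show cL * cL = 1 by simp [cL, ← map_mul, hcc], Subgroup.coe_one, map_one]
    obtain ⟨g, hg, hgc⟩ := T.one_cent hcLo (hfz _)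
    have hfix : f cL = σ ^ m := by
      have e1 : Commute g (f cL) := ((hcen (lift g hg)).map f).symm
      calc f cL = g⁻¹ * (g * f cL) := by group
        _ = g⁻¹ * (f cL * g) := by rw [e1.eq]
        _ = σ ^ m := by rw [← hgc]; group
    obtain ⟨g', hg', hgτ⟩ := T.one_cent (DihBlock.orderOf_tau T.data) T.z_tau.symm
    have e2 : Commute g' (σ ^ m) := hfix ▸ ((hcen (lift g' hg')).map f).symm
    exact htτ (by rw [← hgτ, e2.eq, mul_inv_cancel_right])
  haveI := hp
  have hsimple : IsSimpleGroup (Matrix.ProjectiveSpecialLinearGroup (Fin 2) (ZMod p)) := by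
    refine Classical.isSimpleGroup_PSL (Or.inr ⟨2, two_ne_zero' hp5, fun e4 => ?_⟩)
    have : ((3 : ℕ) : ZMod p) = 0 := by
      push_cast
      linear_combination e4
    rw [ZMod.natCast_eq_zero_iff] at this
    have := Nat.le_of_dvd (by norm_num) this
    omega
  -- `σ τ` normalises `L`
  set j := σ * τ with hj
  have hjo : orderOf j = 2 := by simpa [hj] using DihBlock.orderOf_refl T.data 1
  have hjz : ∀ {g : G}, Commute g z → Commute (j * g * j⁻¹) z := fun {g} hg => by
    rw [hj, show σ * τ * g * (σ * τ)⁻¹ = σ * (τ * g * τ⁻¹) * σ⁻¹ by group]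
    exact T.sigma_conj ((T.z_tau.symm.mul_left hg).mul_left T.z_tau.symm.inv_left)
  let jc : ↥(⊤ : Subgroup C) → ↥(⊤ : Subgroup C) := fun w => lift (j * f w * j⁻¹) (hjz (hfz w))
  have hjmul : ∀ a b, jc (a * b) = jc a * jc b := fun a b => hf (by
    rw [map_mul]
    show j * f (a * b) * j⁻¹ = j * f a * j⁻¹ * (j * f b * j⁻¹)
    rw [map_mul]; group)
  have hjinv : ∀ a, jc (jc a) = a := fun a => hf (by
    show j * (j * f a * j⁻¹) * j⁻¹ = f a
    rw [show j * (j * f a * j⁻¹) * j⁻¹ = (j * j) * f a * (j * j)⁻¹ by group,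
      mul_self_of_orderOf_two hjo]
    group)
  have hjL : ∀ l ∈ L, jc l ∈ L := by
    let φ : ↥(⊤ : Subgroup C) →* ↥(⊤ : Subgroup C) := MonoidHom.mk' jc hjmul
    have hM : ((L.comap φ) ⊓ L).subgroupOf L = ⊤ := by
      haveI := e.isSimpleGroup
      haveI : ((L.comap φ) ⊓ L).Normal := inferInstance
      have hn : (((L.comap φ) ⊓ L).subgroupOf L).Normal := inferInstance
      refine hn.eq_bot_or_eq_top.resolve_left fun hb => ?_
      have ht : (⟨t', ht'L⟩ : ↥L) ∈ ((L.comap φ) ⊓ L).subgroupOf L :=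
        ⟨hinvL _ (conj_orderOf_two (DihBlock.orderOf_z T.data) j), ht'L⟩
      rw [hb, Subgroup.mem_bot] at ht
      exact ne_one_of_orderOf_two (DihBlock.orderOf_z T.data)
        (congrArg (fun w : ↥L => f w) ht)
    intro l hl
    exact ((hM.symm ▸ Subgroup.mem_top (⟨l, hl⟩ : ↥L)) :
      (⟨l, hl⟩ : ↥L) ∈ ((L.comap φ) ⊓ L).subgroupOf L).1
  let β₀ : MulAut ↥L :=
    { toFun := fun l => ⟨jc l, hjL l l.2⟩
      invFun := fun l => ⟨jc l, hjL l l.2⟩
      left_inv := fun l => Subtype.ext (hjinv l)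
      right_inv := fun l => Subtype.ext (hjinv l)
      map_mul' := fun a b => Subtype.ext (hjmul a b) }
  let β : MulAut (Matrix.ProjectiveSpecialLinearGroup (Fin 2) (ZMod p)) := (e.symm.trans β₀).trans e
  have hβapp : ∀ l : ↥L, f (e.symm (β (e l))) = j * f l * j⁻¹ := fun l => by
    show f (e.symm (e (β₀ (e.symm (e l))))) = _
    rw [e.symm_apply_apply, e.symm_apply_apply]
    rfl
  -- `β` is outer
  have hout : ∀ x, β ≠ MulAut.conj x := by
    intro x hx
    set X₀ := f (e.symm x) with hX₀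
    set c := X₀⁻¹ * j with hc
    have hcl : ∀ l : ↥L, Commute c (f l) := by
      intro l
      refine mul_inv_eq_iff_eq_mul.1 ?_
      have e1 : f (e.symm (β (e l))) = X₀ * f l * X₀⁻¹ := by
        rw [hx, MulAut.conj_apply, map_mul, map_mul, map_inv, e.symm_apply_apply]
        simp [hX₀]
      rw [hβapp] at e1
      rw [hc, show X₀⁻¹ * j * f l * (X₀⁻¹ * j)⁻¹ = X₀⁻¹ * (j * f l * j⁻¹) * X₀ by group, e1]
      group
    have hXj : Commute X₀ j := by
      have := hcl (e.symm x)
      rw [← hX₀, hc] at this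
      have e2 : X₀⁻¹ * j * X₀ = j := by rw [this.eq]; group
      show X₀ * j = j * X₀
      calc X₀ * j = X₀ * (X₀⁻¹ * j * X₀) := by rw [e2]
        _ = j * X₀ := by group
    have hcc : c * c = ((X₀ * X₀)⁻¹) := by
      rw [hc, show X₀⁻¹ * j * (X₀⁻¹ * j) = X₀⁻¹ * (j * X₀⁻¹) * j by group, ← hXj.inv_left.eq]
      rw [show X₀⁻¹ * (X₀⁻¹ * j) * j = X₀⁻¹ * X₀⁻¹ * (j * j) by group, mul_self_of_orderOf_two hjo,
        mul_one, mul_inv_rev]
    have hx2 : (e.symm x * e.symm x)⁻¹ = (1 : ↥L) := by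
      haveI := e.isSimpleGroup
      set l₀ : ↥L := (e.symm x * e.symm x)⁻¹ with hl₀
      have hfl : f l₀ = c * c := by rw [hcc, hl₀, hX₀]; simp
      have hcenter : l₀ ∈ Subgroup.center ↥L := by
        refine Subgroup.mem_center_iff.2 fun l => Subtype.ext (hf ?_)
        rw [Subgroup.coe_mul, Subgroup.coe_mul, map_mul, map_mul, hfl]
        exact ((hcl l).mul_left (hcl l)).eq.symm
      rcases (inferInstance : (Subgroup.center ↥L).Normal).eq_bot_or_eq_top with e1 | e1
      · rwa [e1, Subgroup.mem_bot] at hcenter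
      · exfalso
        refine hns ?_
        have hcomm : ∀ a b : ↥L, a * b = b * a := fun a b =>
          (Subgroup.mem_center_iff.1 (e1 ▸ Subgroup.mem_top b : b ∈ Subgroup.center ↥L) a)
        haveI : Group.IsSolvable ↥L := Group.isSolvable_of_comm hcomm
        haveI : Group.IsSolvable ↥X := RealClassGraph.solvable_of_odd hXodd
        have hq : Group.IsSolvable (↥(⊤ : Subgroup C) ⧸ L) :=
          Group.isSolvable_of_surjective (f := (QuotientGroup.mk' L).comp X.subtype) (fun q => by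
            obtain ⟨w, rfl⟩ := QuotientGroup.mk'_surjective L q
            obtain ⟨x, hx, l, hl, rfl⟩ := hdec w
            refine ⟨⟨x, hx⟩, ?_⟩
            simp only [MonoidHom.coe_comp, Function.comp_apply, map_mul, Subgroup.coe_subtype]
            rw [show QuotientGroup.mk' L l = 1 from (QuotientGroup.eq_one_iff l).2 hl, mul_one])
        haveI := RealClassGraph.solvable_of_normal L inferInstance hq
        exact Group.isSolvable_of_surjective (f := (Subgroup.topEquiv (G := C)).toMonoidHom)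
          (MulEquiv.surjective _)
    have hc2 : c * c = 1 := by
      rw [hcc, hX₀, ← map_mul, ← map_inv, show ((e.symm x : ↥(⊤ : Subgroup C)) * e.symm x)⁻¹ =
        ((e.symm x * e.symm x)⁻¹ : ↥L) from rfl, hx2, Subgroup.coe_one, map_one]
    have hjC : ¬ Commute j z := fun hjz' => T.not_sigma_z (by
      have := hjz'.mul_left T.z_tau.symm.inv_left
      rwa [hj, mul_inv_cancel_right] at this)
    obtain ⟨o, ho, hoτ, s, hs, hs4, hcs⟩ :=
      cent_four T.data T.core (hcl ⟨t', ht'L⟩) (hcl ⟨τ', hτ'L⟩)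
    refine hjC ?_
    have hcz : Commute c z := by
      rw [hcs]
      refine (T.U_commute ho T.z_mem).mul_left ?_
      rcases hs4 with rfl | rfl | rfl | rfl
      exacts [Commute.one_left z, T.t_z, T.z_tau.symm, T.t_z.mul_left T.z_tau.symm]
    rw [show j = X₀ * c by rw [hc]; group]
    exact (hfz _).mul_left hcz
  obtain ⟨r, hr, hr2, hrL, hno, houter⟩ := exists_outer_prime (p := p) hp5
  haveI := Fact.mk hr
  obtain ⟨x, a, ha, hfa, hsq⟩ := houter β hout
  set a' := f (e.symm a) with ha'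
  set j' := j * f (e.symm x) with hj'
  have hact : ∀ l : ↥L, f (e.symm ((β * MulAut.conj x) (e l))) = j' * f l * j'⁻¹ := fun l => by
    rw [MulAut.mul_apply, show MulAut.conj x (e l) = e (e.symm x * l * (e.symm x)⁻¹) by simp, hβapp,
      hj']
    simp only [Subgroup.coe_mul, Subgroup.coe_inv, map_mul, map_inv]
    group
  have hj'C : ¬ Commute j' z := fun hz' => T.not_sigma_z (by
    have h1 : Commute j z := by
      have := hz'.mul_left (hfz (e.symm x)).inv_left
      rwa [hj', mul_inv_cancel_right] at this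
    have := h1.mul_left T.z_tau.symm.inv_left
    rwa [hj, mul_inv_cancel_right] at this)
  have hj'2 : j' * j' = 1 := by
    set l₀ : ↥L := β₀ (e.symm x) * e.symm x with hl₀
    have hl₀f : f l₀ = j' * j' := by
      rw [hl₀, hj', Subgroup.coe_mul, map_mul]
      show j * f (e.symm x) * j⁻¹ * f (e.symm x) = _
      rw [inv_of_orderOf_two hjo]; group
    have hcenter : l₀ ∈ Subgroup.center ↥L := by
      refine Subgroup.mem_center_iff.2 fun l => Subtype.ext (hf ?_)
      have h1 := hact (e.symm ((β * MulAut.conj x) (e l)))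
      rw [e.apply_symm_apply, hact, ← MulAut.mul_apply, hsq, MulAut.one_apply,
        e.symm_apply_apply] at h1
      change f ((l : ↥(⊤ : Subgroup C)) * (l₀ : ↥(⊤ : Subgroup C))) =
        f ((l₀ : ↥(⊤ : Subgroup C)) * (l : ↥(⊤ : Subgroup C)))
      rw [map_mul f (l : ↥(⊤ : Subgroup C)), map_mul f (l₀ : ↥(⊤ : Subgroup C)), hl₀f]
      calc f l * (j' * j') = j' * (j' * f l * j'⁻¹) * j'⁻¹ * (j' * j') := by rw [← h1]
        _ = j' * j' * f l := by group
    haveI := e.isSimpleGroup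
    rcases (inferInstance : (Subgroup.center ↥L).Normal).eq_bot_or_eq_top with e1 | e1
    · rw [e1, Subgroup.mem_bot] at hcenter
      rw [← hl₀f, hcenter, Subgroup.coe_one, map_one]
    · exfalso
      obtain ⟨b, hb⟩ := exists_prime_orderOf_dvd_card' r hrL
      refine hno b (e ⟨t', ht'L⟩) hb ?_ ?_
      · rw [MulEquiv.orderOf_eq, ← Subgroup.orderOf_coe, ← orderOf_injective f hf]
        exact DihBlock.orderOf_z T.data
      · have := Subgroup.mem_center_iff.1
          (e1 ▸ Subgroup.mem_top (e.symm b) : e.symm b ∈ Subgroup.center ↥L) ⟨t', ht'L⟩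
        have := congrArg e this
        simpa [Commute, SemiconjBy] using this.symm
  have hj'o : orderOf j' = 2 := orderOf_two_of_mul_self hj'2 fun e1 => hj'C (e1 ▸ Commute.one_left z)
  have ha'o : orderOf a' = r := by
    rw [ha', orderOf_injective f hf, Subgroup.orderOf_coe, MulEquiv.orderOf_eq, ha]
  have hja : Commute a' j' := by
    have h1 := hact (e.symm a)
    rw [e.apply_symm_apply, hfa] at h1
    exact (mul_inv_eq_iff_eq_mul.1 h1.symm).symm
  obtain ⟨g, hg⟩ := isConj_iff.1 (T.one j' (σ ^ m) hj'o (DihBlock.orderOf_z T.data))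
  have hwt : Commute (g * a' * g⁻¹) (σ ^ m) := hg ▸ Commute.conj hja g
  have hwo : orderOf (g * a' * g⁻¹) = r := by
    rw [← MulAut.conj_apply, MulEquiv.orderOf_eq, ha'o]
  have hwU : g * a' * g⁻¹ ∈ U := T.core.mem_of_odd _ (hwo ▸ hr.odd_of_ne_two hr2) hwt
  set w := lift (g * a' * g⁻¹) (T.U_commute hwU T.z_mem)
  obtain ⟨x₁, hx₁, l₁, hl₁, hxl⟩ := hdec w
  have hwr : (x₁ * l₁) ^ r = 1 := hf (by
    rw [hxl, map_pow, map_one]; exact hwo ▸ pow_orderOf_eq_one _)
  have hl₁r : l₁ ^ r = 1 := by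
    have hh : l₁ ^ r = (x₁ ^ r)⁻¹ :=
      eq_inv_of_mul_eq_one_right (by rwa [← (hcommXL x₁ hx₁ l₁ hl₁).mul_pow])
    have : l₁ ^ r ∈ X ⊓ L := ⟨hh ▸ X.inv_mem (X.pow_mem hx₁ r), L.pow_mem hl₁ r⟩
    rwa [hXL, Subgroup.mem_bot] at this
  have hl₁t : Commute (⟨l₁, hl₁⟩ : ↥L) ⟨t', ht'L⟩ := by
    refine Subtype.ext ?_
    show l₁ * t' = t' * l₁
    have h1 : Commute (x₁ * l₁) t' := by
      rw [hxl]
      refine hf ?_
      rw [map_mul, map_mul]
      exact hwt.eq
    have h2 := (hcommXL x₁ hx₁ t' ht'L).inv_left.mul_left h1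
    rwa [inv_mul_cancel_left] at h2
  by_cases hl1 : l₁ = 1
  · rw [hl1, mul_one] at hxl
    have hwr' : orderOf w = r := by
      rw [← orderOf_injective f hf]; exact hwo
    have h1 : r ∣ Nat.card X := hwr' ▸ X.orderOf_dvd_natCard (hxl ▸ hx₁)
    have h2 : r ∣ Nat.card L := by rw [Nat.card_congr e.toEquiv]; exact hrL
    exact hr.not_dvd_one (hcop ▸ Nat.dvd_gcd h1 h2)
  · refine hno (e ⟨l₁, hl₁⟩) (e ⟨t', ht'L⟩) ?_ ?_ (hl₁t.map e)
    · rw [MulEquiv.orderOf_eq, ← Subgroup.orderOf_coe]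
      exact orderOf_eq_prime hl₁r hl1
    · rw [MulEquiv.orderOf_eq, ← Subgroup.orderOf_coe, ← orderOf_injective f hf]
      exact DihBlock.orderOf_z T.data

/-- The Sylow 2-subgroup has order 8 and `τ` centralises `U`. -/
theorem Setting.small [IsSimpleGroup G] (hna : ¬ IsMulCommutative G) (h : OddCyclic G)
    (ih : SmallerShape G) (T : Setting P σ τ m U n z) : m = 2 ∧ (∀ a ∈ U, Commute a τ) ∧
      ∀ x : G, orderOf x = 2 → Commute x z → x ∈ (P : Subgroup G) := by
  classical
  haveI := Fact.mk Nat.prime_two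
  haveI hsolC := T.solvable hna h ih
  set C := Subgroup.centralizer ({z} : Set G) with hC
  set O := oddCore ↥C with hO
  haveI : O.Normal := inferInstance
  have hOodd : Odd (Nat.card O) := Nat.coprime_two_right.1 (Transfer.pPrimeCore_coprime 2)
  set π := QuotientGroup.mk' O with hπ
  obtain ⟨Q, hQ⟩ := T.exists_sylow
  let t' : C := ⟨σ ^ m, Subgroup.mem_centralizer_singleton_iff.2 T.t_z.eq⟩
  let τ' : C := ⟨τ, Subgroup.mem_centralizer_singleton_iff.2 T.z_tau.eq.symm⟩
  let n' : C := ⟨n, Subgroup.mem_centralizer_singleton_iff.2 T.n_z.eq⟩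
  have htQ : t' ∈ (Q : Subgroup C) := by rw [hQ]; exact pow_mem T.data.memσ m
  -- an element of `Q` killed by `π` is trivial
  have hker : ∀ y ∈ (Q : Subgroup C), π y = 1 → y = 1 := by
    intro y hy e
    have hyO : y ∈ O := (QuotientGroup.eq_one_iff y).1 e
    rw [hQ] at hy
    refine Subtype.ext (eq_one_of_odd_of_mem_sylow ?_ hy)
    rw [Subgroup.orderOf_coe]
    exact hOodd.of_dvd_nat (Subgroup.orderOf_dvd_natCard _ hyO)
  haveI : Nontrivial (↥C ⧸ O) := ⟨⟨π t', 1, fun e =>
    ne_one_of_orderOf_two (DihBlock.orderOf_z T.data) (congrArg Subtype.val (hker t' htQ e))⟩⟩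
  obtain ⟨r, E, hr, hEn, hE1, -, hEr, hEc⟩ := ThreeOrders.exists_abelian_normal
    (N := (⊤ : Subgroup (↥C ⧸ O))) inferInstance
    (fun e => absurd (show π t' ∈ (⊥ : Subgroup (↥C ⧸ O)) from e ▸ Subgroup.mem_top _) (fun e' =>
      ne_one_of_orderOf_two (DihBlock.orderOf_z T.data)
        (congrArg Subtype.val (hker t' htQ (Subgroup.mem_bot.1 e')))))
  haveI := Fact.mk hr
  haveI := hEn
  obtain ⟨l, hl⟩ := hEr.exists_card_eq
  have hr2 : r = 2 := by
    by_contra hne
    refine hE1 (le_bot_iff.1 ?_)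
    rw [← Layer.pPrimeCore_quotient_eq_bot (X := ↥C) 2]
    exact Transfer.le_pPrimeCore hEn (Nat.coprime_two_right.2 (hl ▸ (hr.odd_of_ne_two hne).pow))
  subst hr2
  haveI : Nontrivial E := (Subgroup.nontrivial_iff_ne_bot E).2 hE1
  have hEQ : E ≤ (Q : Subgroup C).map π := by
    obtain ⟨R, hR⟩ := hEr.exists_le_sylow
    obtain ⟨g, hg⟩ := MulAction.exists_smul_eq (↥C ⧸ O) R
      (Q.mapSurjective (QuotientGroup.mk'_surjective O))
    intro w hw
    have h1 : g⁻¹ * w * g ∈ E := by simpa using hEn.conj_mem w hw g⁻¹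
    have h2 : g * (g⁻¹ * w * g) * g⁻¹ ∈ ((g • R : Sylow 2 (↥C ⧸ O)) : Subgroup (↥C ⧸ O)) := by
      rw [Sylow.coe_subgroup_smul]; exact ⟨_, hR h1, rfl⟩
    rw [hg, show g * (g⁻¹ * w * g) * g⁻¹ = w by group] at h2
    exact h2
  obtain ⟨v, hv⟩ := exists_prime_orderOf_dvd_card' (G := E) 2 (hl ▸ dvd_pow_self 2 (fun e => by
    rw [e, pow_zero] at hl
    exact absurd hl Finite.one_lt_card.ne'))
  obtain ⟨y, hy, hyv⟩ := hEQ v.2
  have hy2 : y * y = 1 := hker _ (mul_mem hy hy) (by
    rw [map_mul, hyv]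
    exact mul_self_of_orderOf_two (by rw [Subgroup.orderOf_coe, hv]))
  have hy1 : y ≠ 1 := fun e => by
    rw [e, map_one] at hyv
    exact ne_one_of_orderOf_two (by rw [Subgroup.orderOf_coe, hv]) hyv.symm
  -- every involution lands in `E`
  have hinvE : ∀ x : C, orderOf (x : G) = 2 → π x ∈ E := by
    intro x hx
    have hyo : orderOf (y : G) = 2 := orderOf_two_of_mul_self (congrArg Subtype.val hy2)
      fun e => hy1 (Subtype.ext e)
    obtain ⟨g, hg, hgx⟩ := T.one_cent hx (Subgroup.mem_centralizer_singleton_iff.1 x.2)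
    obtain ⟨g', hg', hgy⟩ := T.one_cent hyo (Subgroup.mem_centralizer_singleton_iff.1 y.2)
    set c : C := ⟨g * g'⁻¹, Subgroup.mem_centralizer_singleton_iff.2 (hg.mul_left hg'.inv_left).eq⟩
    have hcx : x = c * y * c⁻¹ := Subtype.ext (by
      show (x : G) = g * g'⁻¹ * y * (g * g'⁻¹)⁻¹
      rw [← hgx, ← hgy]; group)
    rw [hcx, map_mul, map_mul, map_inv, hyv]
    exact hEn.conj_mem _ v.2 _
  -- `m = 2`
  have hm : m = 2 := by
    let r' : C := ⟨σ * σ * τ, Subgroup.mem_centralizer_singleton_iff.2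
      (T.sigma_sq_z.mul_left T.z_tau.symm).eq⟩
    have hr' : orderOf (r' : G) = 2 := by
      show orderOf (σ * σ * τ) = 2
      rw [← pow_two]; exact DihBlock.orderOf_refl T.data 2
    have hc : π (r' * τ') = π (τ' * r') := by
      rw [map_mul, map_mul]
      exact congrArg Subtype.val (hEc.is_comm.comm (⟨_, hinvE r' hr'⟩ : E)
        ⟨_, hinvE τ' (DihBlock.orderOf_tau T.data)⟩)
    have hmemQ : (r' * τ') * (τ' * r')⁻¹ ∈ (Q : Subgroup C) := by
      rw [hQ]
      show σ * σ * τ * τ * (τ * (σ * σ * τ))⁻¹ ∈ (P : Subgroup G)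
      exact mul_mem (mul_mem (mul_mem (mul_mem T.data.memσ T.data.memσ) T.data.memτ) T.data.memτ)
        (inv_mem (mul_mem T.data.memτ (mul_mem (mul_mem T.data.memσ T.data.memσ) T.data.memτ)))
    have h1 := congrArg Subtype.val (hker _ hmemQ (by rw [map_mul, map_inv, hc, mul_inv_cancel]))
    change σ * σ * τ * τ * (τ * (σ * σ * τ))⁻¹ = 1 at h1
    have h4 : σ ^ 4 = 1 := by
      have hτ : τ * (σ * σ * τ) = (σ ^ 2)⁻¹ := by
        rw [← pow_two, ← mul_assoc, DihBlock.tau_mul_pow T.data, mul_assoc, T.data.sqτ, mul_one]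
      rw [mul_assoc _ τ τ, T.data.sqτ, mul_one, hτ, inv_inv, ← pow_two, ← pow_add] at h1
      exact h1
    have h5 := Nat.le_of_dvd (by norm_num) ((DihBlock.pow_eq_one_iff T.data).1 h4)
    have := DihBlock.two_le T.data
    omega
  refine ⟨hm, ?_⟩
  -- `O` centralises `τ`
  haveI : IsZGroup O := by
    have h' : IsZGroup ↥(O.map C.subtype) :=
      h.isZGroup (by rw [Subgroup.card_map_of_injective C.subtype_injective]; exact hOodd)
    haveI := h'
    exact IsZGroup.of_injective (f := (O.equivMapOfInjective C.subtype C.subtype_injective).toMonoidHom)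
      (MulEquiv.injective _)
  set O' := (commutator O).map O.subtype with hO'
  haveI : IsCyclic (commutator O) := IsZGroup.isCyclic_commutator O
  haveI : IsCyclic O' := isCyclic_of_surjective
    ((commutator O).equivMapOfInjective O.subtype O.subtype_injective).toMonoidHom (MulEquiv.surjective _)
  haveI : O'.Normal := ConjAct.normal_of_characteristic_of_normal
  have hcomτ : τ' = ⁅n', t'⁆ := Subtype.ext (by
    show τ = ⁅n, σ ^ m⁆
    rw [commutatorElement_def, T.n_t, mul_inv_cancel_right])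
  have hOτ : ∀ x ∈ O, Commute τ' x := by
    intro x hx
    have h1 : ∀ d ∈ O', Commute τ' d := fun d hd => hcomτ ▸ commutator_commute (K := O') inferInstance
      (by rw [Subgroup.normalizer_eq_top]; exact Subgroup.mem_top n') (by rw [Subgroup.normalizer_eq_top]; exact Subgroup.mem_top t') hd
    set π' := QuotientGroup.mk' O' with hπ'
    haveI : IsCyclic (O.map π') := by
      haveI : IsCyclic (↥O ⧸ commutator ↥O) := (IsZGroup.isCyclic_abelianization : IsCyclic (Abelianization O))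
      let φ : O →* ↥(O.map π') := π'.subgroupMap O
      have hφ : commutator O ≤ φ.ker := fun a ha => MonoidHom.mem_ker.2 (Subtype.ext
        ((QuotientGroup.eq_one_iff (a : C)).2 ⟨a, ha, rfl⟩))
      exact isCyclic_of_surjective (QuotientGroup.lift (commutator O) φ hφ) (fun q => by
        obtain ⟨a, rfl⟩ := π'.subgroupMap_surjective O q
        exact ⟨QuotientGroup.mk a, rfl⟩)
    haveI : (O.map π').Normal := (inferInstance : O.Normal).map π' (QuotientGroup.mk'_surjective O')
    have h2 : Commute (π' τ') (π' x) := by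
      rw [hcomτ, map_commutatorElement]
      exact commutator_commute (K := O.map π') inferInstance
        (by rw [Subgroup.normalizer_eq_top]; exact Subgroup.mem_top _)
        (by rw [Subgroup.normalizer_eq_top]; exact Subgroup.mem_top _) ⟨x, hx, rfl⟩
    set d := τ' * x * τ'⁻¹ * x⁻¹ with hd
    have hd' : d ∈ O' := by
      rw [← QuotientGroup.eq_one_iff]
      show π' d = 1
      rw [hd, map_mul, map_mul, map_mul, map_inv, map_inv, h2.eq, mul_inv_cancel_right, mul_inv_cancel]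
    have hτ2 : τ' * τ' = 1 := Subtype.ext T.data.sqτ
    have e1 : τ' * x * τ'⁻¹ = d * x := by rw [hd]; group
    have e3 : (d * d) * x = x := by
      calc (d * d) * x = d * (τ' * x * τ'⁻¹) := by rw [e1, mul_assoc]
        _ = (τ' * d * τ'⁻¹) * (τ' * x * τ'⁻¹) := by rw [(h1 d hd').eq, mul_inv_cancel_right]
        _ = τ' * (d * x) * τ'⁻¹ := by group
        _ = τ' * (τ' * x * τ'⁻¹) * τ'⁻¹ := by rw [e1]
        _ = (τ' * τ') * x * (τ' * τ')⁻¹ := by group
        _ = x := by rw [hτ2]; group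
    have hd1 : d = 1 := DGroup.eq_one_of_odd_sq
      (hOodd.of_dvd_nat ((O.orderOf_dvd_natCard (Subgroup.map_subtype_le _ hd'))))
      (mul_eq_right.1 e3)
    rw [hd1, one_mul] at e1
    exact mul_inv_eq_iff_eq_mul.1 e1
  refine (And.symm ⟨?_, ?_⟩)
  · -- involutions of `C(z)` lie in `P`
    intro x hx hxz
    let x' : C := ⟨x, Subgroup.mem_centralizer_singleton_iff.2 hxz.eq⟩
    obtain ⟨s, hs, hse⟩ := hEQ (hinvE x' hx)
    have hb : s⁻¹ * x' ∈ O := QuotientGroup.eq.1 hse
    set b := s⁻¹ * x' with hbdef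
    have hsP : (s : G) ∈ (P : Subgroup G) := by rw [hQ] at hs; exact hs
    have hbτ : Commute (b : G) τ := congrArg Subtype.val (hOτ b hb).eq.symm
    have hbt : Commute (b : G) (σ ^ m) := by
      have h1 : n'⁻¹ * b * n' ∈ O := by simpa using (inferInstance : O.Normal).conj_mem b hb n'⁻¹
      have h2 : Commute (n⁻¹ * (b : G) * n) τ := congrArg Subtype.val (hOτ _ h1).eq.symm
      have h3 : Commute (n * (n⁻¹ * (b : G) * n) * n⁻¹) (n * τ * n⁻¹) := Commute.conj h2 n
      rwa [T.n_tau, show n * (n⁻¹ * (b : G) * n) * n⁻¹ = b by group] at h3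
    have hbs : Commute (b : G) s := by
      obtain ⟨j, hj⟩ := T.mem_cent_sylow hsP (Subgroup.mem_centralizer_singleton_iff.1 s.2)
      have hσ2 : σ ^ (2 * j) = (σ ^ m) ^ j := by rw [← pow_mul, hm]
      rcases hj with hj | hj <;> rw [show (s : G) = _ from hj, hσ2]
      · exact hbt.pow_right j
      · exact (hbt.pow_right j).mul_right hbτ
    have hss : (s : G) * s = 1 := by
      obtain ⟨j, hj⟩ := T.mem_cent_sylow hsP (Subgroup.mem_centralizer_singleton_iff.1 s.2)
      rcases hj with hj | hj <;> rw [show (s : G) = _ from hj]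
      · rw [pow_mul, show (σ ^ 2) = σ ^ m by rw [hm], ← (Commute.refl (σ ^ m)).mul_pow,
          DihBlock.z_mul_self T.data, one_pow]
      · exact DihBlock.refl_sq T.data _
    have hxe : x = s * b := by
      rw [hbdef]
      show x = (s : G) * ((s : G)⁻¹ * x)
      group
    have hb2 : (b : G) * b = 1 := by
      have := mul_self_of_orderOf_two hx
      rwa [hxe, hbs.mul_mul_mul_comm, hss, one_mul] at this
    have hb1 : (b : G) = 1 := DGroup.eq_one_of_odd_sq (by
      rw [Subgroup.orderOf_coe]; exact hOodd.of_dvd_nat (O.orderOf_dvd_natCard hb)) hb2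
    rw [hxe, hb1, mul_one]
    exact hsP
  -- `U` centralises `τ`
  intro a ha
  let a' : C := ⟨a, Subgroup.mem_centralizer_singleton_iff.2 (T.U_commute ha T.z_mem).eq⟩
  have hmemE : π (a' * τ' * a'⁻¹) ∈ E := hinvE _ (by
    show orderOf (a * τ * a⁻¹) = 2
    exact conj_orderOf_two (DihBlock.orderOf_tau T.data) a)
  obtain ⟨s, hs, hse⟩ := hEQ hmemE
  have hb : s⁻¹ * (a' * τ' * a'⁻¹) ∈ O := QuotientGroup.eq.1 hse
  set b := s⁻¹ * (a' * τ' * a'⁻¹) with hbdef
  have hsP : (s : G) ∈ (P : Subgroup G) := by rw [hQ] at hs; exact hs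
  have hτa : τ * a⁻¹ * τ⁻¹ ∈ U := sylow_norm T.data T.core T.data.memτ (inv_mem ha)
  set o := a * (τ * a⁻¹ * τ⁻¹) with ho
  have ho' : o ∈ U := mul_mem ha hτa
  have hsame : s = τ' := by
    have e4 : (s : G) * b = o * τ := by
      have : s * b = a' * τ' * a'⁻¹ := by rw [hbdef]; group
      have := congrArg Subtype.val this
      rw [ho]
      calc (s : G) * b = a * τ * a⁻¹ := this
        _ = _ := by group
    have hot : Commute ((b : C) : G) (σ ^ m) := by
      have hb' : (b : G) = (s : G)⁻¹ * (o * τ) := by rw [← e4]; group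
      rw [hb']
      exact (sylow_comm_t T.data T.core hsP).inv_left.mul_left
        ((T.core.comm_t o ho').mul_left (sylow_comm_t T.data T.core T.data.memτ))
    have hbU : (b : G) ∈ U := T.core.mem_of_odd _ (by
      rw [Subgroup.orderOf_coe]; exact hOodd.of_dvd_nat (O.orderOf_dvd_natCard hb)) hot
    have e5 : ((s : G) * b * (s : G)⁻¹) * s = o * τ := by rw [← e4]; group
    exact Subtype.ext (decomp_unique T.data T.core (sylow_norm T.data T.core hsP hbU) ho' hsP
      T.data.memτ e5).2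
  have hbo : (b : G) = o := by
    have hτb := congrArg Subtype.val (hOτ b hb).eq
    have e4 : τ * (b : G) = o * τ := by
      rw [hbdef, hsame, ho]
      show τ * (τ⁻¹ * (a * τ * a⁻¹)) = a * (τ * a⁻¹ * τ⁻¹) * τ
      group
    rw [show τ * (b : G) = (b : G) * τ from hτb] at e4
    exact mul_right_cancel e4
  have hoτ : Commute τ o := hbo ▸ congrArg Subtype.val (hOτ b hb).eq
  have e6 : τ * o * τ⁻¹ = o⁻¹ := by
    calc τ * o * τ⁻¹ = (τ * a * τ⁻¹) * (τ * τ * a⁻¹ * (τ * τ)⁻¹) := by rw [ho]; group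
      _ = (τ * a⁻¹ * τ⁻¹)⁻¹ * a⁻¹ := by rw [T.data.sqτ]; group
      _ = o⁻¹ := by rw [ho]; group
  rw [hoτ.eq, mul_inv_cancel_right] at e6
  have ho1 : o = 1 := DGroup.eq_one_of_odd_sq (T.core.odd_orderOf ho') (eq_inv_iff_mul_eq_one.mp e6)
  refine mul_inv_eq_iff_eq_mul.1 ?_
  calc a * τ * a⁻¹ = o * τ := by rw [ho]; group
    _ = τ := by rw [ho1, one_mul]

end CfsgLib.SuzukiCyclic
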