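import Cfsg.Agent.Lib.SuzukiCyclic.TwoFamilies
import Cfsg.Agent.Lib.Char.Counting
import Cfsg.Agent.Lib.Blocks.Idempotent

/-!
# Two trivial intersection families share a linear character

A `Family` has a virtual character `Ind (1 - ω) = 1 + a A + b B`. Two families without common elements
share one nontrivial constituent, with opposite signs, and the class sums of `t, t` weighted by the two
virtual characters give `α₁ (F + 1) = α₂ (F - 1)`. If `α₂ > 2 α₁` this forces a linear character.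
-/

set_option autoImplicit false
set_option linter.unusedSectionVars false
set_option linter.style.haveILetI false

universe u

namespace CfsgLib.SuzukiCyclic

open Cfsg CfsgLib
open scoped ComplexConjugate CfsgLib.Char

namespace Family

variable {G : Type u} [Group G] (F : Family G)

/-- The virtual character `1 - ω`. -/
noncomputable def theta : F.M → ℂ :=
  (fun _ => (1 : ℂ)) - fun y => ((F.om y : ℂˣ) : ℂ)

theorem theta_apply (y : F.M) : F.theta y = 1 - (F.om y : ℂ) := rfl

theorem theta_eq_zero {y : F.M} (hy : F.om y = 1) : F.theta y = 0 := by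
  rw [theta_apply, hy, Units.val_one, sub_self]

theorem r_inv : F.r⁻¹ = F.r := inv_eq_of_mul_eq_one_right F.r_sq

theorem om_conj {x : G} (hx : x ∈ F.M) {y z : F.M} (h : x⁻¹ * y * x = z) : F.om z = F.om y := by
  have e : z = (⟨x, hx⟩ : F.M)⁻¹ * y * ⟨x, hx⟩ := Subtype.ext (by push_cast; exact h.symm)
  rw [e, map_mul, map_mul, map_inv, mul_comm ((F.om ⟨x, hx⟩)⁻¹), mul_assoc, inv_mul_cancel, mul_one]

theorem om_conj' {x : G} (hx : F.r * x ∈ F.M) {y z : F.M} (h : x⁻¹ * y * x = z) :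
    F.om z = (F.om y)⁻¹ := by
  rw [← F.om_r y]
  refine F.om_conj hx ?_
  rw [show ((⟨F.r * y * F.r⁻¹, F.r_mem y y.2⟩ : F.M) : G) = F.r * y * F.r⁻¹ from rfl, ← h, mul_inv_rev]
  group

/-- The induced virtual character. -/
noncomputable def exc [Fintype G] : G → ℂ := indFun F.M F.theta

variable [Fintype G]

theorem isGeneralized_exc : IsGeneralizedCharacter G F.exc :=
  Char.isGeneralized_indFun F.M (Char.isGeneralized_sub Char.isGeneralized_one
    (Char.isGeneralized_of_isCharacter (Char.isCharacter_monoidHom F.om)))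

theorem isClass_exc : IsClassFunction G F.exc :=
  Char.isClassFunction_of_isGeneralized F.isGeneralized_exc

theorem exc_eq_zero_of {g : G}
    (h : ∀ (x : G) (z : F.M), x⁻¹ * g * x = z → F.om z = 1) : F.exc g = 0 := by
  rw [exc, indFun, Finset.sum_eq_zero, mul_zero]
  intro x _
  by_cases hm : x⁻¹ * g * x ∈ F.M
  · rw [Char.extendByZero_mem F.M F.theta hm, F.theta_eq_zero (h x ⟨_, hm⟩ rfl)]
  · exact Char.extendByZero_notMem F.M F.theta hm

theorem exc_invol {g : G} (hg : g * g = 1) : F.exc g = 0 :=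
  F.exc_eq_zero_of fun x z hz => F.om_invol z (by
    rw [← hz, show x⁻¹ * g * x * (x⁻¹ * g * x) = x⁻¹ * (g * g) * x by group, hg]
    group)

theorem exc_apply {y : F.M} (hy : F.om y ≠ 1) :
    F.exc y = (1 - (F.om y : ℂ)) + (1 - ((F.om y : ℂ))⁻¹) := by
  classical
  have hval : ∀ x : G, extendByZero F.M F.theta (x⁻¹ * y * x) =
      (if x ∈ F.M then (1 - (F.om y : ℂ)) else 0) +
        (if F.r * x ∈ F.M then (1 - ((F.om y : ℂ))⁻¹) else 0) := by
    intro x
    by_cases h1 : x ∈ F.M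
    · have h2 : F.r * x ∉ F.M := fun h => F.r_notMem (by simpa using mul_mem h (inv_mem h1))
      have hm : x⁻¹ * y * x ∈ F.M := mul_mem (mul_mem (inv_mem h1) y.2) h1
      rw [if_pos h1, if_neg h2, add_zero, Char.extendByZero_mem F.M F.theta hm, theta_apply,
        F.om_conj h1 (z := ⟨_, hm⟩) rfl]
    rw [if_neg h1, zero_add]
    by_cases h2 : F.r * x ∈ F.M
    · have hm : x⁻¹ * y * x ∈ F.M := by
        have := mul_mem (mul_mem (inv_mem h2) (F.r_mem y y.2)) h2
        rwa [mul_inv_rev, show x⁻¹ * F.r⁻¹ * (F.r * y * F.r⁻¹) * (F.r * x) = x⁻¹ * y * x by group] at this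
      rw [if_pos h2, Char.extendByZero_mem F.M F.theta hm, theta_apply,
        F.om_conj' h2 (z := ⟨_, hm⟩) rfl, Units.val_inv_eq_inv_val]
    rw [if_neg h2]
    by_cases h3 : x⁻¹ * (y : G) * x ∈ F.M
    · rw [Char.extendByZero_mem F.M F.theta h3]
      by_cases h4 : F.om ⟨_, h3⟩ = 1
      · exact F.theta_eq_zero h4
      exfalso
      rcases F.ti x⁻¹ y ⟨_, h3⟩ hy h4 (by rw [inv_inv]) with h | h
      · exact h1 (by simpa using inv_mem h)
      · refine h2 ?_
        have h5 := F.r_mem _ (inv_mem h)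
        rwa [mul_inv_rev, inv_inv, show F.r * (x * F.r⁻¹) * F.r⁻¹ = F.r * x * (F.r * F.r)⁻¹ by group,
          F.r_sq, inv_one, mul_one] at h5
    · exact Char.extendByZero_notMem F.M F.theta h3
  have hcard : (Finset.univ.filter fun x : G => x ∈ F.M).card = Nat.card F.M := by
    rw [Nat.card_eq_fintype_card, Fintype.card_subtype]
  rw [exc, indFun]
  simp only [hval]
  have hB : ∑ x : G, (if F.r * x ∈ F.M then (1 - ((F.om y : ℂ))⁻¹) else 0) =
      ∑ x : G, (if x ∈ F.M then (1 - ((F.om y : ℂ))⁻¹) else 0) :=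
    Equiv.sum_comp (Equiv.mulLeft F.r) (fun x => if x ∈ F.M then (1 - ((F.om y : ℂ))⁻¹) else 0)
  rw [Finset.sum_add_distrib, hB, ← Finset.sum_filter, ← Finset.sum_filter, Finset.sum_const,
    Finset.sum_const, nsmul_eq_mul, nsmul_eq_mul, hcard, ← mul_add,
    inv_mul_cancel_left₀ (Nat.cast_ne_zero.mpr Nat.card_pos.ne')]

theorem classInner_exc [Fintype F.M] {g : G → ℂ} (hg : IsClassFunction G g) :
    classInner F.exc g = (Nat.card F.M : ℂ)⁻¹ * ∑ y : F.M, F.theta y * conj (g y) := by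
  rw [exc, Char.frobenius_reciprocity F.M F.theta hg, classInner]

theorem sum_om [Fintype F.M] :
    (∑ y : F.M, (F.om y : ℂ)) = 0 ∧ (∑ y : F.M, ((F.om y : ℂ))⁻¹) = 0 ∧
      (∑ y : F.M, (F.om y : ℂ) ^ 2) = 0 := by
  obtain ⟨q, hq⟩ := F.exists_sq_ne
  have hq1 : F.om q ≠ 1 := fun e => hq (by rw [e, one_pow])
  have key : ∀ f : F.M →* ℂˣ, f q ≠ 1 → ∑ y : F.M, (f y : ℂ) = 0 := by
    intro f hf
    have hne : (Units.coeHom ℂ).comp f ≠ 1 := fun e => hf (Units.ext (by
      simpa using DFunLike.congr_fun e q))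
    simpa using sum_hom_units_eq_zero _ hne
  refine ⟨key _ hq1, ?_, ?_⟩
  · simpa [Units.val_inv_eq_inv_val] using key F.om⁻¹ (by simpa using hq1)
  · simpa using key ((powMonoidHom 2).comp F.om) (by simpa using hq)

theorem sum_theta [Fintype F.M] : ∑ y : F.M, F.theta y = (Nat.card F.M : ℂ) := by
  simp only [theta_apply]
  rw [Finset.sum_sub_distrib, F.sum_om.1, sub_zero, Finset.sum_const, nsmul_eq_mul, mul_one,
    Finset.card_univ, Nat.card_eq_fintype_card]

theorem exc_triv : classInner F.exc (Blocks.trivIrr G : G → ℂ) = 1 := by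
  classical
  rw [F.classInner_exc (Char.isClassFunction_irr _)]
  simp only [Blocks.trivIrr, map_one, mul_one]
  rw [F.sum_theta, inv_mul_cancel₀ (Nat.cast_ne_zero.mpr Nat.card_pos.ne')]

theorem exc_norm : classInner F.exc F.exc = 3 := by
  classical
  rw [F.classInner_exc F.isClass_exc]
  have e : ∀ y : F.M, F.theta y * conj (F.exc y) =
      3 - 3 * (F.om y : ℂ) - ((F.om y : ℂ))⁻¹ + (F.om y : ℂ) ^ 2 := by
    intro y
    by_cases hy : F.om y = 1
    · rw [F.theta_eq_zero hy, hy, Units.val_one]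
      norm_num
    · have hne : (F.om y : ℂ) ≠ 0 := Units.ne_zero _
      have hpow : (F.om y : ℂ) ^ orderOf y = 1 := by
        rw [← Units.val_pow_eq_pow_val, ← map_pow, pow_orderOf_eq_one, map_one, Units.val_one]
      have hc : conj (F.om y : ℂ) = ((F.om y : ℂ))⁻¹ :=
        (Complex.inv_eq_conj (Complex.norm_eq_one_of_pow_eq_one hpow (orderOf_pos y).ne')).symm
      rw [F.exc_apply hy, map_add, map_sub, map_sub, map_one, map_inv₀, hc, inv_inv, theta_apply]
      field_simp
      ring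
  rw [Finset.sum_congr rfl fun y _ => e y, Finset.sum_add_distrib, Finset.sum_sub_distrib,
    Finset.sum_sub_distrib, ← Finset.mul_sum, F.sum_om.1, F.sum_om.2.1, F.sum_om.2.2, Finset.sum_const,
    nsmul_eq_mul, Finset.card_univ, ← Nat.card_eq_fintype_card, mul_zero, sub_zero, sub_zero, add_zero,
    inv_mul_cancel_left₀ (Nat.cast_ne_zero.mpr Nat.card_pos.ne')]

theorem exc_disjoint {F₁ F₂ : Family G} (h4 : F₁.HasFour) (hno : F₂.NoFour) :
    classInner F₁.exc F₂.exc = 0 := by
  classical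
  rw [F₁.classInner_exc F₂.isClass_exc, Finset.sum_eq_zero, mul_zero]
  intro y _
  by_cases hy : F₁.om y = 1
  · rw [F₁.theta_eq_zero hy, zero_mul]
  rw [F₂.exc_eq_zero_of, map_zero, mul_zero]
  intro x z hz
  exfalso
  obtain ⟨e, he⟩ := h4 y hy
  refine hno ((z : G) ^ e) (pow_mem z.2 e) ?_
  have : (z : G) ^ e = MulAut.conj x⁻¹ ((y : G) ^ e) := by
    rw [map_pow, MulAut.conj_apply, inv_inv, hz]
  rw [this, MulEquiv.orderOf_eq, he]

/-- The class sum weighted by the virtual character counts pairs of involutions of the outer coset. -/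
theorem pairs_sum [Fintype F.M] {t : G} (ht : orderOf t = 2)
    (hone : ∀ x : G, orderOf x = 2 → IsConj t x) :
    ∑ y : F.M, F.theta y *
        (Nat.card {p : G × G // IsConj t p.1 ∧ IsConj t p.2 ∧ p.1 * p.2 = (y : G)} : ℂ) =
      (Nat.card F.invols : ℂ) ^ 2 := by
  classical
  set J : Finset G := Finset.univ.filter fun i => F.r * i ∈ F.M ∧ i * i = 1 with hJ
  have hJmem : ∀ i, i ∈ J ↔ F.r * i ∈ F.M ∧ i * i = 1 := fun i => by simp [hJ]
  have hIJ : Nat.card F.invols = J.card := by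
    rw [Nat.card_eq_fintype_card, ← Set.toFinset_card]
    congr 1
    ext i
    rw [Set.mem_toFinset, hJmem]
    rfl
  have hinv : ∀ {u : G}, IsConj t u → orderOf u = 2 := fun {u} h => by
    obtain ⟨g, rfl⟩ := isConj_iff.mp h
    rw [← MulAut.conj_apply, MulEquiv.orderOf_eq, ht]
  have hsq : ∀ {u : G}, IsConj t u → u * u = 1 := fun {u} h => by
    rw [← pow_two, ← hinv h, pow_orderOf_eq_one]
  have hconj : ∀ {i : G}, i ∈ J → IsConj t i := fun {i} hi => by
    obtain ⟨hi1, hi2⟩ := (hJmem i).1 hi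
    refine hone i (orderOf_eq_prime (by rw [pow_two, hi2]) fun e => F.r_notMem ?_)
    rwa [e, mul_one] at hi1
  have hprod : ∀ p ∈ J ×ˢ J, p.1 * p.2 ∈ F.M := by
    intro p hp
    obtain ⟨h1, h2⟩ := Finset.mem_product.1 hp
    obtain ⟨h1, -⟩ := (hJmem _).1 h1
    obtain ⟨h2, -⟩ := (hJmem _).1 h2
    have := mul_mem (F.r_mem _ h1) h2
    rwa [show F.r * (F.r * p.1) * F.r⁻¹ * (F.r * p.2) = (F.r * F.r) * (p.1 * p.2) by group,
      F.r_sq, one_mul] at this
  have hcount : ∀ y : F.M, F.theta y *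
      (Nat.card {p : G × G // IsConj t p.1 ∧ IsConj t p.2 ∧ p.1 * p.2 = (y : G)} : ℂ) =
      ∑ p ∈ J ×ˢ J, if p.1 * p.2 = (y : G) then F.theta y else 0 := by
    intro y
    by_cases hy : F.om y = 1
    · rw [F.theta_eq_zero hy, zero_mul, Finset.sum_eq_zero]
      exact fun p _ => ite_self 0
    rw [← Finset.sum_filter, Finset.sum_const, nsmul_eq_mul, mul_comm]
    congr 2
    rw [Nat.card_eq_fintype_card, Fintype.card_subtype]
    congr 1
    ext ⟨i, j⟩
    simp only [Finset.mem_filter, Finset.mem_univ, true_and, Finset.mem_product]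
    constructor
    · rintro ⟨hi, hj, hij⟩
      have hinvy : i * (y : G) * i⁻¹ = ((y⁻¹ : F.M) : G) := by
        rw [Subgroup.coe_inv, ← hij, mul_inv_rev, inv_eq_of_mul_eq_one_right (hsq hi),
          inv_eq_of_mul_eq_one_right (hsq hj), show i * (i * j) * i = i * i * (j * i) by group, hsq hi,
          one_mul]
      have hi' : F.r * i ∈ F.M := by
        rcases F.ti i y y⁻¹ hy (by simpa using hy) hinvy with h | h
        · exact absurd (by simpa using hinvy) (F.not_inverted ⟨i, h⟩ y hy (hsq hi))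
        · exact h
      refine ⟨⟨(hJmem i).2 ⟨hi', hsq hi⟩, (hJmem j).2 ⟨?_, hsq hj⟩⟩, hij⟩
      have := mul_mem hi' y.2
      rwa [← hij, show F.r * i * (i * j) = F.r * (i * i) * j by group, hsq hi, mul_one] at this
    · rintro ⟨⟨hi, hj⟩, hij⟩
      exact ⟨hconj hi, hconj hj, hij⟩
  rw [Finset.sum_congr rfl fun y _ => hcount y, Finset.sum_comm]
  have hval : ∀ p ∈ J ×ˢ J, ∑ y : F.M, (if p.1 * p.2 = (y : G) then F.theta y else 0) =
      1 - (extendByZero F.M (fun z => (F.om z : ℂ)) (F.r * p.1))⁻¹ *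
        extendByZero F.M (fun z => (F.om z : ℂ)) (F.r * p.2) := by
    intro p hp
    rw [Finset.sum_eq_single (⟨p.1 * p.2, hprod p hp⟩ : F.M)]
    · rw [if_pos rfl, theta_apply]
      obtain ⟨h1, h2⟩ := Finset.mem_product.1 hp
      obtain ⟨h1, -⟩ := (hJmem _).1 h1
      obtain ⟨h2, -⟩ := (hJmem _).1 h2
      rw [Char.extendByZero_mem F.M _ h1, Char.extendByZero_mem F.M _ h2]
      have e : (⟨p.1 * p.2, hprod p hp⟩ : F.M) =
          ⟨F.r * ((⟨F.r * p.1, h1⟩ : F.M) : G) * F.r⁻¹, F.r_mem _ h1⟩ * ⟨F.r * p.2, h2⟩ :=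
        Subtype.ext (by
          show p.1 * p.2 = F.r * (F.r * p.1) * F.r⁻¹ * (F.r * p.2)
          rw [show F.r * (F.r * p.1) * F.r⁻¹ * (F.r * p.2) = (F.r * F.r) * (p.1 * p.2) by group,
            F.r_sq, one_mul])
      rw [e, map_mul, F.om_r, Units.val_mul, Units.val_inv_eq_inv_val]
    · intro y _ hy
      rw [if_neg fun e => hy (Subtype.ext e.symm)]
    · exact fun h => absurd (Finset.mem_univ _) h
  rw [Finset.sum_congr rfl hval, Finset.sum_sub_distrib, Finset.sum_const, Finset.card_product,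
    nsmul_eq_mul, mul_one, hIJ, Nat.cast_mul, Finset.sum_product]
  set g : G → ℂ := fun i => extendByZero F.M (fun z => (F.om z : ℂ)) (F.r * i) with hg
  suffices hz : ∑ j ∈ J, g j = 0 by
    simp only [hg] at hz
    simp only [← Finset.mul_sum, hz, mul_zero, Finset.sum_const_zero, sub_zero]
    ring
  obtain ⟨q, hq⟩ := F.exists_sq_ne
  set c : ℂ := ((F.om q : ℂ))⁻¹ * ((F.om q : ℂ))⁻¹ with hc
  have hc1 : c ≠ 1 := fun e => hq (Units.ext (by
    rw [Units.val_pow_eq_pow_val, Units.val_one, ← inv_inv ((F.om q : ℂ) ^ 2), ← inv_pow, pow_two]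
    rw [← hc, e, inv_one]))
  have hshift : ∀ i ∈ J, (q : G) * i * (q : G)⁻¹ ∈ J ∧ g ((q : G) * i * (q : G)⁻¹) = c * g i := by
    intro i hi
    obtain ⟨h1, h2⟩ := (hJmem i).1 hi
    have e : F.r * ((q : G) * i * (q : G)⁻¹) = F.r * q * F.r⁻¹ * (F.r * i) * (q : G)⁻¹ := by group
    have hm : F.r * ((q : G) * i * (q : G)⁻¹) ∈ F.M :=
      e ▸ mul_mem (mul_mem (F.r_mem _ q.2) h1) (inv_mem q.2)
    refine ⟨(hJmem _).2 ⟨hm, ?_⟩, ?_⟩
    · rw [show (q : G) * i * (q : G)⁻¹ * ((q : G) * i * (q : G)⁻¹) = q * (i * i) * (q : G)⁻¹ by group, h2]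
      group
    · simp only [hg]
      rw [Char.extendByZero_mem F.M _ hm, Char.extendByZero_mem F.M _ h1]
      have e' : (⟨_, hm⟩ : F.M) =
          ⟨F.r * q * F.r⁻¹, F.r_mem _ q.2⟩ * ⟨F.r * i, h1⟩ * q⁻¹ := Subtype.ext e
      rw [e', map_mul, map_mul, F.om_r, map_inv, Units.val_mul, Units.val_mul, Units.val_inv_eq_inv_val,
        hc]
      ring
  have hsum : ∑ j ∈ J, g j = c * ∑ j ∈ J, g j := by
    rw [Finset.mul_sum]
    refine (Finset.sum_nbij (fun i => (q : G) * i * (q : G)⁻¹) (fun i hi => (hshift i hi).1)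
      (fun a _ b _ h => mul_left_cancel (mul_right_cancel h)) ?_ fun i hi => (hshift i hi).2.symm).symm
    refine Finset.surjOn_of_injOn_of_card_le _ (fun i hi => (hshift i hi).1)
      (fun a _ b _ h => mul_left_cancel (mul_right_cancel h)) le_rfl
  have : (1 - c) * ∑ j ∈ J, g j = 0 := by rw [sub_mul, one_mul, ← hsum, sub_self]
  exact (mul_eq_zero.1 this).resolve_left (sub_ne_zero.2 hc1.symm)

theorem weighted_sum {t : G} (ht : orderOf t = 2) (hone : ∀ x : G, orderOf x = 2 → IsConj t x) :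
    ((Subgroup.centralizer ({t} : Set G)).index : ℂ) ^ 2 / (Nat.card G : ℂ) *
      ((Nat.card F.M : ℂ) * ∑ χ : IrrCharacter G,
        classInner F.exc (χ : G → ℂ) * ((χ : G → ℂ) t * (χ : G → ℂ) t / (χ : G → ℂ) 1)) =
      (Nat.card F.invols : ℂ) ^ 2 := by
  classical
  rw [← F.pairs_sum ht hone]
  have hM : (Nat.card F.M : ℂ) ≠ 0 := Nat.cast_ne_zero.mpr Nat.card_pos.ne'
  simp only [Char.class_mult t t, Finset.mul_sum]
  rw [Finset.sum_comm]
  refine Finset.sum_congr rfl fun χ _ => ?_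
  rw [F.classInner_exc (Char.isClassFunction_irr χ)]
  simp only [Finset.mul_sum, Finset.sum_mul]
  refine Finset.sum_congr rfl fun y _ => ?_
  field_simp

end Family

/-- A vector of squared length three with coefficient one at `i₀`. -/
theorem exists_two_supp {ι : Type*} [Fintype ι] {R : Type*} [CommRing R] (i₀ : ι) {c : ι → ℤ}
    (h0 : c i₀ = 1) (h3 : ∑ i, c i ^ 2 = 3) :
    (∃ A B, A ≠ i₀ ∧ B ≠ i₀ ∧ A ≠ B ∧ (c A = 1 ∨ c A = -1) ∧ (c B = 1 ∨ c B = -1) ∧
      ∀ φ : ι → R, ∑ i, (c i : R) * φ i = φ i₀ + c A * φ A + c B * φ B) ∧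
    ∀ A, A ≠ i₀ → c A ≠ 0 → ∃ C, C ≠ i₀ ∧ C ≠ A ∧ (c C = 1 ∨ c C = -1) ∧
      ∀ φ : ι → R, ∑ i, (c i : R) * φ i = φ i₀ + c A * φ A + c C * φ C := by
  classical
  set s := Finset.univ.erase i₀ with hs
  have hsum : ∑ i ∈ s, c i ^ 2 = 2 := by
    have h := Finset.add_sum_erase Finset.univ (fun i => c i ^ 2) (Finset.mem_univ i₀)
    rw [h3, h0, ← hs, one_pow] at h
    omega
  have hle : ∀ i ∈ s, c i = 0 ∨ c i = 1 ∨ c i = -1 := by
    intro i hi
    have h2 := (Finset.single_le_sum (fun j _ => sq_nonneg (c j)) hi).trans hsum.le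
    have : c i ≤ 1 := by nlinarith
    have : -1 ≤ c i := by nlinarith
    omega
  set N := s.filter fun i => c i ≠ 0 with hN'
  have hsq1 : ∀ i ∈ N, c i ^ 2 = 1 := by
    intro i hi
    obtain ⟨h1, h2⟩ := Finset.mem_filter.1 hi
    rcases hle i h1 with e | e | e
    · exact absurd e h2
    all_goals rw [e]; norm_num
  have hcard : N.card = 2 := by
    have h : ∑ i ∈ N, c i ^ 2 = 2 := by
      rw [← hsum]
      exact Finset.sum_subset (Finset.filter_subset _ _) fun i h1 h2 => by
        rw [hN', Finset.mem_filter, not_and, not_not] at h2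
        rw [h2 h1]; norm_num
    rw [Finset.sum_congr rfl hsq1, Finset.sum_const, nsmul_eq_mul, mul_one] at h
    exact_mod_cast h
  obtain ⟨A, B, hAB, hN⟩ := Finset.card_eq_two.1 hcard
  have hA : A ∈ N := hN ▸ Finset.mem_insert_self _ _
  have hB : B ∈ N := hN ▸ Finset.mem_insert_of_mem (Finset.mem_singleton_self _)
  have hmem : ∀ i, i ∈ N → i ≠ i₀ ∧ (c i = 1 ∨ c i = -1) := fun i hi => by
    obtain ⟨h1, h2⟩ := Finset.mem_filter.1 hi
    exact ⟨(Finset.mem_erase.1 h1).1, (hle i h1).resolve_left h2⟩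
  have hexp : ∀ φ : ι → R, ∑ i, (c i : R) * φ i = φ i₀ + c A * φ A + c B * φ B := by
    intro φ
    rw [← Finset.sum_subset (Finset.subset_univ {i₀, A, B})]
    · rw [Finset.sum_insert (by
        rw [Finset.mem_insert, Finset.mem_singleton, not_or]
        exact ⟨(hmem A hA).1.symm, (hmem B hB).1.symm⟩),
        Finset.sum_pair hAB, h0, Int.cast_one, one_mul, add_assoc]
    · intro i _ hi
      rw [Finset.mem_insert, Finset.mem_insert, Finset.mem_singleton, not_or, not_or] at hi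
      have : c i = 0 := by
        by_contra h
        have hm : i ∈ N := Finset.mem_filter.2 ⟨Finset.mem_erase.2 ⟨hi.1, Finset.mem_univ _⟩, h⟩
        rw [hN, Finset.mem_insert, Finset.mem_singleton] at hm
        exact hm.elim hi.2.1 hi.2.2
      rw [this, Int.cast_zero, zero_mul]
  refine ⟨⟨A, B, (hmem A hA).1, (hmem B hB).1, hAB, (hmem A hA).2, (hmem B hB).2, hexp⟩, ?_⟩
  intro D hD0 hD
  have hDN : D ∈ N := Finset.mem_filter.2 ⟨Finset.mem_erase.2 ⟨hD0, Finset.mem_univ _⟩, hD⟩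
  rw [hN, Finset.mem_insert, Finset.mem_singleton] at hDN
  rcases hDN with rfl | rfl
  · exact ⟨B, (hmem B hB).1, hAB.symm, (hmem B hB).2, hexp⟩
  · exact ⟨A, (hmem A hA).1, hAB, (hmem A hA).2, fun φ => by rw [hexp, add_right_comm]⟩

/-- A linear character of a perfect group is trivial. -/
theorem eq_triv_of_linear {G : Type u} [Group G] (hperf : commutator G = ⊤) {C : IrrCharacter G}
    (h1 : (C : G → ℂ) 1 = 1) : C = Blocks.trivIrr G := by
  obtain ⟨n, ρ, -, hρ⟩ := C.2
  have hn : n = 1 := by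
    rw [← hρ, Representation.char_one, Module.finrank_fin_fun] at h1
    exact_mod_cast h1
  subst hn
  let f : G →* ℂˣ := MonoidHom.toHomUnits ((LinearMap.det).comp ρ)
  have hf : ∀ g, f g = 1 := fun g => by
    have : commutator G ≤ f.ker := Abelianization.commutator_subset_ker f
    rw [hperf] at this
    exact MonoidHom.mem_ker.1 (this (Subgroup.mem_top g))
  refine Subtype.ext (funext fun g => ?_)
  rw [← hρ]
  show LinearMap.trace ℂ _ (ρ g) = 1
  have h : LinearMap.det (ρ g) = 1 := congrArg Units.val (hf g)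
  rw [← LinearMap.det_toMatrix', Matrix.det_fin_one] at h
  rw [LinearMap.trace_eq_matrix_trace ℂ (Pi.basisFun ℂ (Fin 1)), Matrix.trace_fin_one]
  simpa [LinearMap.toMatrix_eq_toMatrix'] using h

/-- `1 + P²/F + Q²/E` for `F + E = -1`, `P + Q = -1`. -/
theorem sq_ratio {F P E Q : ℂ} (hF : F ≠ 0) (hE0 : E ≠ 0) (hE : E = -1 - F) (hQ : Q = -1 - P) :
    (1 + P ^ 2 / F + Q ^ 2 / E) * (F * (F + 1)) = (F - P) ^ 2 := by
  have h1 : (1 + P ^ 2 / F + Q ^ 2 / E) * (F * E) = F * E + P ^ 2 * E + Q ^ 2 * F := by field_simp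
  subst hE hQ
  linear_combination -h1

/-- The arithmetic. -/
theorem ratio_arith {i m n F : ℤ} (hi : 0 < i) (hhalf : 2 * i ≤ m) (hlt : m < 2 * n)
    (h : i ^ 2 * (F + 1) = m * n * (F - 1)) : F = 2 := by
  have hm : 0 < m := by omega
  have key : 2 * i ^ 2 < m * n := by nlinarith
  rcases le_or_gt F 1 with hF | hF
  · exfalso
    rcases le_or_gt F (-1) with h1 | h1
    · nlinarith
    · have : F = 0 ∨ F = 1 := by omega
      rcases this with rfl | rfl
      · nlinarith
      · nlinarith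
  · by_contra hne
    have h3 : 3 ≤ F := by omega
    nlinarith

variable {G : Type u} [Group G] [Finite G]

/-- Two families without common elements are impossible when `α₂ > 2 α₁`. -/
theorem false_of_families [IsSimpleGroup G] (hna : ¬ IsMulCommutative G) {t : G} (ht : orderOf t = 2)
    (hone : ∀ x : G, orderOf x = 2 → IsConj t x) (F₁ F₂ : Family G) (h4 : F₁.HasFour) (hno : F₂.NoFour)
    (hpos : 0 < Nat.card F₁.invols) (hhalf : 2 * Nat.card F₁.invols ≤ Nat.card F₁.M)
    (hall : ∀ y ∈ F₂.M, F₂.r * y * (F₂.r * y) = 1) (hlt : Nat.card F₁.M < 2 * Nat.card F₂.M) : False := by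
  classical
  letI : Fintype G := Fintype.ofFinite G
  have hperf : commutator G = ⊤ := by
    rcases (inferInstance : (commutator G).Normal).eq_bot_or_eq_top with h | h
    · exact absurd ⟨⟨fun a b => commute_iff_eq _ _ |>.1 (by
        have := Subgroup.commutator_mem_commutator (Subgroup.mem_top a) (Subgroup.mem_top b)
        rw [← commutator_def, h, Subgroup.mem_bot, commutatorElement_eq_one_iff_mul_comm] at this
        exact this)⟩⟩ hna
    · exact h
  have hall' : Nat.card F₂.invols = Nat.card F₂.M := by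
    refine Nat.card_congr ⟨fun i => ⟨F₂.r * i.1, i.2.1⟩, fun y => ⟨F₂.r * y.1, ⟨?_, hall y y.2⟩⟩, ?_, ?_⟩
    · rw [← mul_assoc, F₂.r_sq, one_mul]; exact y.2
    · intro i; exact Subtype.ext (by simp [← mul_assoc, F₂.r_sq])
    · intro y; exact Subtype.ext (by simp [← mul_assoc, F₂.r_sq])
  choose c hc using fun χ : IrrCharacter G =>
    Char.exists_int_classInner F₁.isGeneralized_exc (Char.isGeneralized_of_isIrr χ.2)
  choose c' hc' using fun χ : IrrCharacter G =>
    Char.exists_int_classInner F₂.isGeneralized_exc (Char.isGeneralized_of_isIrr χ.2)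
  have hexp : F₁.exc = ∑ χ : IrrCharacter G, (c χ : ℂ) • (χ : G → ℂ) := by
    conv_lhs => rw [Char.classFunction_expansion F₁.isClass_exc]
    exact Finset.sum_congr rfl fun χ _ => by rw [hc]
  have hexp' : F₂.exc = ∑ χ : IrrCharacter G, (c' χ : ℂ) • (χ : G → ℂ) := by
    conv_lhs => rw [Char.classFunction_expansion F₂.isClass_exc]
    exact Finset.sum_congr rfl fun χ _ => by rw [hc']
  set one := Blocks.trivIrr G with hone'
  have h0 : c one = 1 := by
    have h := F₁.exc_triv
    rw [hc] at h; exact_mod_cast h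
  have h0' : c' one = 1 := by
    have h := F₂.exc_triv
    rw [hc'] at h; exact_mod_cast h
  have h3 : ∑ χ, c χ ^ 2 = 3 := by
    have h := F₁.exc_norm
    rw [hexp, Char.sum_sq_coeff] at h; exact_mod_cast h
  have h3' : ∑ χ, c' χ ^ 2 = 3 := by
    have h := F₂.exc_norm
    rw [hexp', Char.sum_sq_coeff] at h; exact_mod_cast h
  have horth : ∑ χ : IrrCharacter G, (c χ : ℂ) * (c' χ : ℂ) = 0 := by
    have h := Family.exc_disjoint h4 hno
    rw [hexp, hexp', Char.classInner_sum_smul_sum_smul] at h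
    simpa using h
  obtain ⟨⟨A₀, B₀, hA0, hB0, hAB0, hcA0, hcB0, hsub0⟩, hrest⟩ :=
    exists_two_supp (R := ℂ) one h0 h3
  obtain ⟨-, hrest'⟩ := exists_two_supp (R := ℂ) one h0' h3'
  have hsmall : ∀ χ, χ ≠ one → c' χ = 0 ∨ c' χ = 1 ∨ c' χ = -1 := by
    intro χ hχ
    by_cases h : c' χ = 0
    · exact Or.inl h
    obtain ⟨C, hC0, hCχ, hcC, hsubC⟩ := hrest' χ hχ h
    have h' := hsubC (fun i => (c' i : ℂ))
    have hz : ((c' χ : ℤ) ^ 2 : ℤ) = 1 := by
      have hsq : ∑ i, (c' i : ℂ) * (c' i : ℂ) = 3 := by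
        have : ((∑ i, c' i ^ 2 : ℤ) : ℂ) = 3 := by rw [h3']; norm_num
        rw [← this]; push_cast
        exact Finset.sum_congr rfl fun i _ => by ring
      rw [hsq, h0'] at h'
      have hcc : (c' C : ℂ) * c' C = 1 := by rcases hcC with e | e <;> rw [e] <;> norm_num
      have h'' : ((c' χ ^ 2 : ℤ) : ℂ) = ((1 : ℤ) : ℂ) := by
        push_cast
        linear_combination -h' - hcc
      exact_mod_cast h''
    exact Or.inr (sq_eq_one_iff.1 hz)
  -- the shared constituent
  obtain ⟨A, hA, hcA, hsh⟩ : ∃ A, A ≠ one ∧ (c A = 1 ∨ c A = -1) ∧ c' A = -c A := by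
    have h := horth
    rw [hsub0, h0', Int.cast_one] at h
    have h2 : (1 : ℤ) + c A₀ * c' A₀ + c B₀ * c' B₀ = 0 := by exact_mod_cast h
    rcases hsmall A₀ hA0 with e | e
    · refine ⟨B₀, hB0, hcB0, ?_⟩
      rw [e, mul_zero, add_zero] at h2
      rcases hcB0 with f | f <;> rw [f] at h2 ⊢ <;> omega
    · by_cases f : c' A₀ = -c A₀
      · exact ⟨A₀, hA0, hcA0, f⟩
      · exfalso
        rcases hsmall B₀ hB0 with g | g | g <;> rcases hcA0 with a | a <;> rcases hcB0 with b | b <;>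
          rcases e with e | e <;> rw [a, b, g, e] at h2 <;> rw [a, e] at f <;> omega
  obtain ⟨B, hB, hBA, hcB, hsub⟩ := hrest A hA (by rcases hcA with e | e <;> omega)
  obtain ⟨C, hC, hCA, hcC, hsub'⟩ := hrest' A hA (by rw [hsh]; rcases hcA with e | e <;> omega)
  have htriv : ∀ g : G, (one : G → ℂ) g = 1 := fun _ => rfl
  have happ : ∀ g : G, F₁.exc g = 1 + c A * (A : G → ℂ) g + c B * (B : G → ℂ) g := by
    intro g
    have h := hsub (fun χ => (χ : G → ℂ) g)
    rw [htriv] at h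
    rw [← h, hexp, Finset.sum_apply]
    simp
  have happ' : ∀ g : G, F₂.exc g = 1 + c' A * (A : G → ℂ) g + c' C * (C : G → ℂ) g := by
    intro g
    have h := hsub' (fun χ => (χ : G → ℂ) g)
    rw [htriv] at h
    rw [← h, hexp', Finset.sum_apply]
    simp
  have htt : t * t = 1 := by rw [← pow_two, ← ht, pow_orderOf_eq_one]
  obtain ⟨a, ha0, ha⟩ := Char.exists_nat_degree_irr A.2
  obtain ⟨b, hb0, hb⟩ := Char.exists_nat_degree_irr B.2
  obtain ⟨d, hd0, hd⟩ := Char.exists_nat_degree_irr C.2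
  have e1 := happ 1
  have et := happ t
  have e1' := happ' 1
  have et' := happ' t
  rw [F₁.exc_invol (one_mul 1), ha, hb] at e1
  rw [F₁.exc_invol htt] at et
  rw [F₂.exc_invol (one_mul 1), ha, hd, hsh] at e1'
  rw [F₂.exc_invol htt, hsh] at et'
  push_cast at e1' et'
  -- the two weighted class sums
  have w := F₁.weighted_sum ht hone
  have w' := F₂.weighted_sum ht hone
  simp only [hc] at w
  simp only [hc'] at w'
  rw [hsub (fun χ => (χ : G → ℂ) t * (χ : G → ℂ) t / (χ : G → ℂ) 1)] at w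
  rw [hsub' (fun χ => (χ : G → ℂ) t * (χ : G → ℂ) t / (χ : G → ℂ) 1), hall', hsh] at w'
  simp only [htriv, ha, hb] at w
  simp only [htriv, ha, hd] at w'
  push_cast at w'
  have ha' : (a : ℂ) ≠ 0 := Nat.cast_ne_zero.2 ha0.ne'
  have hb' : (b : ℂ) ≠ 0 := Nat.cast_ne_zero.2 hb0.ne'
  have hd' : (d : ℂ) ≠ 0 := Nat.cast_ne_zero.2 hd0.ne'
  set X : ℂ := (A : G → ℂ) t
  set Y : ℂ := (B : G → ℂ) t
  set Z : ℂ := (C : G → ℂ) t
  set K : ℂ := ((Subgroup.centralizer ({t} : Set G)).index : ℂ) ^ 2 / (Nat.card G : ℂ)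
  set m : ℂ := (Nat.card F₁.M : ℂ)
  set n : ℂ := (Nat.card F₂.M : ℂ)
  set i : ℂ := (Nat.card F₁.invols : ℂ)
  set α : ℂ := (c A : ℂ)
  set β : ℂ := (c B : ℂ)
  set γ : ℂ := (c' C : ℂ)
  have hβ : β * β = 1 := by
    rcases hcB with e | e <;> simp only [β, e] <;> norm_num
  have hγ : γ * γ = 1 := by
    rcases hcC with e | e <;> simp only [γ, e] <;> norm_num
  have hα : α * α = 1 := by
    rcases hcA with e | e <;> simp only [α, e] <;> norm_num
  have key : i ^ 2 * (α * a + 1) = m * n * (α * a - 1) := by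
    have hn : n ≠ 0 := Nat.cast_ne_zero.mpr Nat.card_pos.ne'
    have hβ' : β ≠ 0 := left_ne_zero_of_mul_eq_one hβ
    have hγ' : γ ≠ 0 := left_ne_zero_of_mul_eq_one hγ
    -- both sums are `(F - Y)²` up to the factor `F (F ± 1)`
    have hα' : α ≠ 0 := left_ne_zero_of_mul_eq_one hα
    have hX : α * (X * X / a) = (α * X) ^ 2 / (α * a) := by field_simp
    have s1 : (1 + α * (X * X / a) + β * (Y * Y / b)) * ((α * a) * (α * a + 1)) =
        (α * a - α * X) ^ 2 := by
      have hY : β * (Y * Y / b) = (β * Y) ^ 2 / (β * b) := by field_simp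
      have h := sq_ratio (F := α * a) (P := α * X) (mul_ne_zero hα' ha') (E := β * b) (Q := β * Y)
        (mul_ne_zero hβ' hb') (by linear_combination -e1) (by linear_combination -et)
      rw [hX, hY]; exact h
    have s2 : (1 + -α * (X * X / a) + γ * (Z * Z / d)) * ((α * a) * (α * a - 1)) =
        (α * a - α * X) ^ 2 := by
      have hZ : γ * (Z * Z / d) = (γ * Z) ^ 2 / (γ * d) := by field_simp
      have h := sq_ratio (F := -(α * a)) (P := -(α * X)) (neg_ne_zero.2 (mul_ne_zero hα' ha')) (E := γ * d)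
        (Q := γ * Z) (mul_ne_zero hγ' hd') (by linear_combination -e1') (by linear_combination -et')
      rw [neg_mul, hX, hZ]
      rw [neg_sq, div_neg] at h
      linear_combination h
    have hfac : (α * a : ℂ) ≠ 0 := mul_ne_zero (left_ne_zero_of_mul_eq_one hα) ha'
    refine mul_left_cancel₀ hfac ?_
    refine mul_left_cancel₀ hn ?_
    linear_combination (-(n * (α * a) * (α * a + 1))) * w + (m * (α * a) * (α * a - 1)) * w'
      + (K * m * n) * (s1 - s2)
  have key' : (Nat.card F₁.invols : ℤ) ^ 2 * (c A * a + 1) =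
      (Nat.card F₁.M : ℤ) * Nat.card F₂.M * (c A * a - 1) := by
    apply Int.cast_injective (α := ℂ)
    push_cast
    exact key
  have hF := ratio_arith (by exact_mod_cast hpos) (by exact_mod_cast hhalf) (by exact_mod_cast hlt) key'
  -- a linear character
  have hd1 : c' C * (d : ℤ) = 1 := by
    have : ((c' C * d : ℤ) : ℂ) = ((c A * a - 1 : ℤ) : ℂ) := by push_cast; linear_combination -e1'
    have := Int.cast_injective this
    omega
  have : (d : ℤ) = 1 := by
    rcases hcC with e | e <;> rw [e] at hd1 <;> omega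
  exact hC (eq_triv_of_linear hperf (by rw [hd]; exact_mod_cast this))

end CfsgLib.SuzukiCyclic
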