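import Cfsg.Agent.Lib.SuzukiCyclic.Defs
import Cfsg.Agent.Lib.SuzukiCyclic.PSLPrime
import Cfsg.Agent.Lib.MinNonCA.KleinThree
import Cfsg.Agent.Lib.Invol.KleinSylow
import Cfsg.Agent.Lib.SylowNumber.Coprime
import Cfsg.Agent.Lib.DGroup.Setup
import Cfsg.Agent.Lib.DGroup.HcOne
import Cfsg.Agent.Lib.DGroup.Tools
import Cfsg.Agent.S0508

/-!
# The Klein four case: a simple group with Klein Sylow 2-subgroups and cyclic odd Sylow subgroups

The odd part of the centralizer of the four group is trivial (a least prime of it would give the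
configuration refuted by `MinNonCA.no_three_automizer`), so involution centralizers are generalised
dihedral and Brauer-Suzuki-Wall identifies the group.
-/

set_option autoImplicit false
set_option linter.unusedSectionVars false
set_option linter.style.haveILetI false

namespace CfsgLib.SuzukiCyclic

open Cfsg CfsgLib
open scoped Pointwise

universe u

variable {G : Type u} [Group G] [Finite G]

/-- A simple group has no non-trivial Sylow subgroup centralised by its normalizer. -/
theorem not_normalizer_le_centralizer [IsSimpleGroup G] (hna : ¬ IsMulCommutative G) {p : ℕ}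
    [Fact p.Prime] (P : Sylow p G) (hP : (P : Subgroup G) ≠ ⊥) :
    ¬ Subgroup.normalizer ((P : Subgroup G) : Set G) ≤
      Subgroup.centralizer ((P : Subgroup G) : Set G) := by
  intro hle
  obtain ⟨Q, N, hN, hc⟩ := Transfer.hasNormalPComplement_of_normalizer_le_centralizer P hle
  rcases hN.eq_bot_or_eq_top with e | e
  · rw [e, Subgroup.isComplement'_bot_left] at hc
    have hp : IsPGroup p G := by
      intro g
      obtain ⟨k, hk⟩ := Q.2 ⟨g, hc ▸ Subgroup.mem_top g⟩
      exact ⟨k, by simpa using congrArg Subtype.val hk⟩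
    haveI := hp.isNilpotent
    exact hna ⟨⟨fun a b => IsSimpleGroup.comm_iff_isSolvable.mpr inferInstance a b⟩⟩
  · rw [e, Subgroup.isComplement'_top_left] at hc
    refine hP (Subgroup.card_eq_one.1 ?_)
    rw [P.card_eq_multiplicity, ← Q.card_eq_multiplicity, hc, Subgroup.card_bot]

/-- If `g • S` lies in `D ⊇ S`, then `g` can be corrected by `D` into the normalizer of `S`. -/
theorem adjust {p : ℕ} [Fact p.Prime] (S : Sylow p G) {D : Subgroup G} (hSD : (S : Subgroup G) ≤ D)
    {g : G} (hgD : ∀ s ∈ (S : Subgroup G), g * s * g⁻¹ ∈ D) :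
    ∃ c ∈ D, c * g ∈ Subgroup.normalizer ((S : Subgroup G) : Set G) := by
  have hT : ((g • S : Sylow p G) : Subgroup G) ≤ D := by
    rintro _ ⟨s, hs, rfl⟩
    exact hgD s hs
  obtain ⟨c, hc⟩ := MulAction.exists_smul_eq ↥D ((g • S).subtype hT) (S.subtype hSD)
  rw [Sylow.smul_subtype] at hc
  refine ⟨c, c.2, Sylow.smul_eq_iff_mem_normalizer.1 ?_⟩
  rw [mul_smul]
  exact Sylow.subtype_injective hc

/-- In a cyclic Sylow subgroup the elements of prime order generate one subgroup. -/
theorem mem_zpowers_of_cyclic {p : ℕ} [hp : Fact p.Prime] (P : Sylow p G) (hcyc : IsCyclic P) {w x : G}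
    (hwP : w ∈ (P : Subgroup G)) (hw : orderOf w = p) (hxP : x ∈ (P : Subgroup G)) (hx : x ^ p = 1) :
    x ∈ Subgroup.zpowers w := by
  obtain ⟨t, ht⟩ := Transfer.exists_zpowers_eq_of_isCyclic (P : Subgroup G) hcyc
  have hn : p ∣ orderOf t := by
    rw [← hw, ← Nat.card_zpowers t]
    exact Subgroup.orderOf_dvd_natCard _ (ht ▸ hwP)
  obtain ⟨m, hm⟩ := hn
  have hroot : ∀ y ∈ (P : Subgroup G), y ^ p = 1 → y ∈ Subgroup.zpowers (t ^ m) := by
    intro y hy hyp
    obtain ⟨a, rfl⟩ := (ht ▸ hy : y ∈ Subgroup.zpowers t)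
    change (t ^ a) ^ p = 1 at hyp
    rw [← zpow_natCast, ← zpow_mul, ← orderOf_dvd_iff_zpow_eq_one, hm, Nat.cast_mul,
      mul_comm (p : ℤ)] at hyp
    obtain ⟨b, hb⟩ := Int.dvd_of_mul_dvd_mul_right (by exact_mod_cast hp.out.ne_zero) hyp
    refine ⟨b, ?_⟩
    show (t ^ m) ^ b = t ^ a
    rw [hb, zpow_mul, zpow_natCast]
  have hm0 : m ≠ 0 := fun e => (orderOf_pos t).ne' (by rw [hm, e, mul_zero])
  have hmo : orderOf (t ^ m) = p := by
    rw [orderOf_pow' t hm0, hm, Nat.gcd_mul_left_left, Nat.mul_div_cancel _ (Nat.pos_of_ne_zero hm0)]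
  have hwm := hroot w hwP (hw ▸ pow_orderOf_eq_one w)
  have e : Subgroup.zpowers w = Subgroup.zpowers (t ^ m) :=
    Subgroup.eq_of_le_of_card_ge (Subgroup.zpowers_le.2 hwm)
      (by rw [Nat.card_zpowers, Nat.card_zpowers, hw, hmo])
  exact e ▸ hroot x hxP hx

/-- An element normalising a cyclic Sylow subgroup and fixing an element of order `p` of it
centralises it. -/
theorem cent_of_fix {p : ℕ} [hp : Fact p.Prime] (P : Sylow p G) (hcyc : IsCyclic P) {w g : G}
    (hwP : w ∈ (P : Subgroup G)) (hw : orderOf w = p)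
    (hg : g ∈ Subgroup.normalizer ((P : Subgroup G) : Set G)) (hgw : Commute g w) :
    g ∈ Subgroup.centralizer ((P : Subgroup G) : Set G) := by
  obtain ⟨t, ht⟩ := Transfer.exists_zpowers_eq_of_isCyclic (P : Subgroup G) hcyc
  have hle : (P : Subgroup G) ≤ Subgroup.centralizer ({w} : Set G) := by
    intro y hy
    haveI : IsMulCommutative P := IsCyclic.isMulCommutative
    exact Subgroup.mem_centralizer_singleton_iff.2
      (congrArg Subtype.val (mul_comm' (⟨y, hy⟩ : P) ⟨w, hwP⟩))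
  obtain ⟨t', ht'P, hP'⟩ : ∃ t' : ↥(Subgroup.centralizer ({w} : Set G)), (t' : G) = t ∧
      ((P.subtype hle : Sylow p _) : Subgroup _) = Subgroup.zpowers t' := by
    refine ⟨⟨t, hle (ht ▸ Subgroup.mem_zpowers t)⟩, rfl, ?_⟩
    apply Subgroup.map_injective (Subgroup.centralizer ({w} : Set G)).subtype_injective
    rw [Sylow.coe_subtype, Subgroup.map_subgroupOf_eq_of_le hle, MonoidHom.map_zpowers]
    exact ht
  obtain ⟨j, hj⟩ := (ht ▸ hwP : w ∈ Subgroup.zpowers t)
  have key := Transfer.normalizer_le_centralizer_of_zpow (P.subtype hle) hP' ?_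
  · have hg' : (⟨g, Subgroup.mem_centralizer_singleton_iff.2 hgw.eq⟩ :
        ↥(Subgroup.centralizer ({w} : Set G))) ∈
        Subgroup.normalizer ((P.subtype hle :
          Set ↥(Subgroup.centralizer ({w} : Set G)))) := by
      rw [← Sylow.coe_coe, Sylow.coe_subtype]
      exact (SetLike.ext_iff.mp (Subgroup.subgroupOf_normalizer_eq hle) _).mp hg
    rw [Subgroup.mem_centralizer_iff]
    intro y hy
    exact congrArg Subtype.val (Subgroup.mem_centralizer_iff.1 (key hg') ⟨y, hle hy⟩ hy)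
  · intro n _ _ ρ hρ
    have e1 : (n : G) * t * (n : G)⁻¹ = t ^ ρ := by
      simpa [ht'P] using congrArg Subtype.val hρ
    have hnw : (n : G) * w * (n : G)⁻¹ = w := by
      rw [Subgroup.mem_centralizer_singleton_iff.1 n.2, mul_inv_cancel_right]
    have hj' : t ^ j = w := hj
    have e3 : (n : G) * t ^ j * (n : G)⁻¹ = (t ^ j) ^ ρ := by
      rw [← conj_zpow, e1, ← zpow_mul, ← zpow_mul, mul_comm]
    have e2 : w ^ ρ = w ^ (1 : ℤ) :=
      ((congrArg (· ^ ρ) hj').symm.trans (e3.symm.trans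
        ((congrArg (fun z => (n : G) * z * (n : G)⁻¹) hj').trans hnw))).trans (zpow_one w).symm
    rw [← orderOf_dvd_sub_iff_zpow_eq_zpow, hw] at e2
    exact e2

/-- `N(S)/C(S)` has order dividing three for a Klein Sylow 2-subgroup. -/
theorem klein_relIndex (S : Sylow 2 G) (hS : IsKleinFour ↥(S : Subgroup G)) :
    (Subgroup.centralizer ((S : Subgroup G) : Set G)).relIndex
      (Subgroup.normalizer ((S : Subgroup G) : Set G)) ∣ 3 := by
  classical
  haveI := hS
  haveI := Fact.mk Nat.prime_two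
  letI := Fintype.ofFinite ↥(S : Subgroup G)
  let Φ : MulAut ↥(S : Subgroup G) →* Equiv.Perm {x : ↥(S : Subgroup G) // x ≠ 1} :=
    { toFun := fun a => a.toEquiv.subtypeEquiv fun x => (map_ne_one_iff a a.injective).symm
      map_one' := by ext x; rfl
      map_mul' := fun a b => by ext x; rfl }
  have hΦ : Function.Injective Φ := by
    intro a b hab
    refine MulEquiv.ext fun x => ?_
    by_cases hx : x = 1
    · rw [hx, map_one, map_one]
    · exact congrArg Subtype.val (Equiv.congr_fun hab ⟨x, hx⟩)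
  set k := (Subgroup.centralizer ((S : Subgroup G) : Set G)).relIndex
      (Subgroup.normalizer ((S : Subgroup G) : Set G)) with hk
  have hk6 : k ∣ 6 := by
    have h1 : k = Nat.card (Φ.comp (S : Subgroup G).normalizerMonoidHom).range := by
      rw [← Subgroup.index_ker, ← MonoidHom.comap_ker, (MonoidHom.ker_eq_bot_iff Φ).2 hΦ,
        MonoidHom.comap_bot, Subgroup.normalizerMonoidHom_ker]
      rfl
    have h2 : Nat.card (Equiv.Perm {x : ↥(S : Subgroup G) // x ≠ 1}) = 6 := by
      rw [Nat.card_eq_fintype_card, Fintype.card_perm, Fintype.card_subtype_compl,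
        Fintype.card_subtype_eq, ← Nat.card_eq_fintype_card, IsKleinFour.card_four]
      rfl
    rw [h1, ← h2]
    exact Subgroup.card_subgroup_dvd_card _
  have hSC : (S : Subgroup G) ≤ Subgroup.centralizer ((S : Subgroup G) : Set G) := fun s hs =>
    Subgroup.mem_centralizer_iff.2 fun y hy =>
      congrArg Subtype.val (IsKleinFour.isMulCommutative.is_comm.comm
        (⟨y, hy⟩ : ↥(S : Subgroup G)) ⟨s, hs⟩)
  have hk2 : ¬ 2 ∣ k := fun h2 => S.not_dvd_index ((h2.trans
    (Subgroup.relIndex_dvd_of_le_left _ hSC)).trans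
    (Subgroup.relIndex_dvd_index_of_le Subgroup.le_normalizer))
  exact ((Nat.prime_two.coprime_iff_not_dvd.2 hk2).symm).dvd_of_dvd_mul_left
    (show k ∣ 2 * 3 by simpa using hk6)

section Klein

variable (S : Sylow 2 G) (hS : IsKleinFour ↥(S : Subgroup G))
include hS

theorem klein_comm {a b : G} (ha : a ∈ (S : Subgroup G)) (hb : b ∈ (S : Subgroup G)) : Commute a b :=
  haveI := hS
  congrArg Subtype.val (IsKleinFour.isMulCommutative.is_comm.comm
    (⟨a, ha⟩ : ↥(S : Subgroup G)) ⟨b, hb⟩)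

theorem klein_cube {n : G} (hn : n ∈ Subgroup.normalizer ((S : Subgroup G) : Set G)) :
    n ^ 3 ∈ Subgroup.centralizer ((S : Subgroup G) : Set G) := by
  set K := (Subgroup.centralizer ((S : Subgroup G) : Set G)).subgroupOf
    (Subgroup.normalizer ((S : Subgroup G) : Set G)) with hK
  haveI : K.Normal := by
    rw [hK, ← Subgroup.normalizerMonoidHom_ker]
    infer_instance
  obtain ⟨c, hc⟩ := klein_relIndex S hS
  have h := K.pow_index_mem ⟨n, hn⟩
  have h3 := pow_mem h c
  rw [← pow_mul, show K.index * c = 3 from hc.symm] at h3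
  exact h3

theorem klein_gen {n₀ n : G} (hn₀ : n₀ ∈ Subgroup.normalizer ((S : Subgroup G) : Set G))
    (h₀ : n₀ ∉ Subgroup.centralizer ((S : Subgroup G) : Set G))
    (hn : n ∈ Subgroup.normalizer ((S : Subgroup G) : Set G)) :
    ∃ i : ℤ, n * (n₀ ^ i)⁻¹ ∈ Subgroup.centralizer ((S : Subgroup G) : Set G) := by
  set K := (Subgroup.centralizer ((S : Subgroup G) : Set G)).subgroupOf
    (Subgroup.normalizer ((S : Subgroup G) : Set G)) with hK
  haveI : K.Normal := by
    rw [hK, ← Subgroup.normalizerMonoidHom_ker]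
    infer_instance
  haveI := Fact.mk Nat.prime_three
  have hcard : Nat.card (↥(Subgroup.normalizer ((S : Subgroup G) : Set G)) ⧸ K) = 3 := by
    rcases (Nat.dvd_prime Nat.prime_three).1 (klein_relIndex S hS) with e | e
    · exact absurd (Subgroup.relIndex_eq_one.1 e hn₀) h₀
    · exact e
  have hne : (QuotientGroup.mk ⟨n₀, hn₀⟩ : ↥(Subgroup.normalizer ((S : Subgroup G) : Set G)) ⧸ K) ≠ 1 :=
    fun e => h₀ ((QuotientGroup.eq_one_iff (N := K) _).1 e)
  have hmem : (QuotientGroup.mk ⟨n, hn⟩ : ↥(Subgroup.normalizer ((S : Subgroup G) : Set G)) ⧸ K) ∈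
      Subgroup.zpowers (QuotientGroup.mk ⟨n₀, hn₀⟩) := by
    rw [zpowers_eq_top_of_prime_card hcard hne]
    exact Subgroup.mem_top _
  obtain ⟨i, hi⟩ := hmem
  replace hi : (QuotientGroup.mk ⟨n₀, hn₀⟩ : ↥(Subgroup.normalizer ((S : Subgroup G) : Set G)) ⧸ K) ^ i =
      QuotientGroup.mk ⟨n, hn⟩ := hi
  refine ⟨i, ?_⟩
  have e : ((⟨n, hn⟩ * ((⟨n₀, hn₀⟩ : ↥(Subgroup.normalizer ((S : Subgroup G) : Set G))) ^ i)⁻¹ :
      ↥(Subgroup.normalizer ((S : Subgroup G) : Set G))) :
      ↥(Subgroup.normalizer ((S : Subgroup G) : Set G)) ⧸ K) = 1 := by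
    rw [QuotientGroup.mk_mul, QuotientGroup.mk_inv, QuotientGroup.mk_zpow, hi, mul_inv_cancel]
  simpa [hK, Subgroup.mem_subgroupOf] using (QuotientGroup.eq_one_iff (N := K) _).1 e

theorem klein_fix {n J : G} (hn : n ∈ Subgroup.normalizer ((S : Subgroup G) : Set G))
    (hJS : J ∈ (S : Subgroup G)) (hJ : J ≠ 1) (hnJ : Commute n J) :
    n ∈ Subgroup.centralizer ((S : Subgroup G) : Set G) := by
  haveI := hS
  rw [Subgroup.mem_centralizer_iff]
  intro y hy
  have hy' : y ∈ (S : Subgroup G) := hy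
  by_cases hy1 : y = 1
  · rw [hy1, one_mul, mul_one]
  by_cases hyJ : y = J
  · rw [hyJ]; exact hnJ.eq.symm
  by_contra hne
  have hzS : n * y * n⁻¹ ∈ (S : Subgroup G) := (Subgroup.mem_normalizer_iff.1 hn y).1 hy'
  have hJfix : n * J * n⁻¹ = J := by rw [hnJ.eq, mul_inv_cancel_right]
  have hz : n * y * n⁻¹ = J * y := by
    refine congrArg Subtype.val (IsKleinFour.eq_mul_of_ne_all (x := (⟨J, hJS⟩ : ↥(S : Subgroup G)))
      (y := ⟨y, hy'⟩) (z := ⟨n * y * n⁻¹, hzS⟩) ?_ ?_ ?_ ?_ ?_ ?_)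
    · exact fun e => hJ (congrArg Subtype.val e)
    · exact fun e => hy1 (congrArg Subtype.val e)
    · exact fun e => hyJ (congrArg Subtype.val e).symm
    · exact fun e => hy1 (conj_eq_one_iff.1 (congrArg Subtype.val e))
    · intro e
      exact hyJ (mul_left_cancel (mul_right_cancel ((congrArg Subtype.val e).trans hJfix.symm)))
    · intro e
      exact hne (mul_inv_eq_iff_eq_mul.1 (congrArg Subtype.val e)).symm
  have h3 : n ^ 3 * y * (n ^ 3)⁻¹ = y := by
    rw [← Subgroup.mem_centralizer_iff.1 (klein_cube S hS hn) y hy', mul_inv_cancel_right]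
  have hJJ : J * J = 1 := congrArg Subtype.val
    (IsKleinFour.mul_self (⟨J, hJS⟩ : ↥(S : Subgroup G)))
  have e3 : n ^ 3 * y * (n ^ 3)⁻¹ = J * y := by
    calc n ^ 3 * y * (n ^ 3)⁻¹ = n * (n * (n * y * n⁻¹) * n⁻¹) * n⁻¹ := by
          rw [pow_succ, pow_two]; group
      _ = n * (n * (J * y) * n⁻¹) * n⁻¹ := by rw [hz]
      _ = n * ((n * J * n⁻¹) * (n * y * n⁻¹)) * n⁻¹ := by group
      _ = J * y := by rw [hJfix, hz, ← mul_assoc J J, hJJ, one_mul, hz]
  rw [h3] at e3
  exact hJ (by simpa using e3.symm)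

theorem klein_two_elt {c : G} (hc : c ∈ Subgroup.centralizer ((S : Subgroup G) : Set G))
    (h2 : ∃ k : ℕ, orderOf c = 2 ^ k) : c ∈ (S : Subgroup G) := by
  haveI := Fact.mk Nat.prime_two
  have hQ : IsPGroup 2 ↥((S : Subgroup G) ⊔ Subgroup.zpowers c) :=
    S.2.to_sup_of_normal_left' (Transfer.isPGroup_zpowers h2)
      (Subgroup.zpowers_le.mpr (Subgroup.centralizer_le_normalizer _ hc))
  rw [← S.is_maximal' hQ le_sup_left]
  exact Subgroup.mem_sup_right (Subgroup.mem_zpowers _)

/-- No element of odd prime order centralises a Klein Sylow 2-subgroup. -/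
theorem klein_cent_prime [IsSimpleGroup G] (hna : ¬ IsMulCommutative G) (h : OddCyclic G)
    (hone : ∀ a b : G, orderOf a = 2 → orderOf b = 2 → IsConj a b) :
    ∀ r : ℕ, r.Prime → r ≠ 2 → ∀ w ∈ Subgroup.centralizer ((S : Subgroup G) : Set G),
      orderOf w ≠ r := by
  classical
  haveI := hS
  haveI := Fact.mk Nat.prime_two
  intro r
  induction r using Nat.strong_induction_on with
  | _ r ih =>
  intro hr hr2 w hwS hw
  haveI := Fact.mk hr
  have hw1 : w ≠ 1 := fun e => hr.ne_one (by rw [← hw, e, orderOf_one])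
  set W := Subgroup.zpowers w with hW
  set M := Subgroup.normalizer (W : Set G) with hM
  have hSw : ∀ s ∈ (S : Subgroup G), Commute s w := fun s hs => Subgroup.mem_centralizer_iff.1 hwS s hs
  -- a non-trivial element of `W` generates it
  have hgen : ∀ x ∈ W, x ≠ 1 → ∀ y : G, Commute y x → Commute y w := by
    intro x hx hx1 y hy
    have hwx : w ∈ Subgroup.zpowers x := by
      have e : Subgroup.zpowers x = W := Subgroup.eq_of_le_of_card_ge (Subgroup.zpowers_le.2 hx) (by
        rw [hW, Nat.card_zpowers, hw, Nat.card_zpowers]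
        have hd : orderOf x ∣ r := hw ▸ (Nat.card_zpowers w ▸ Subgroup.orderOf_dvd_natCard _ hx)
        rcases (Nat.dvd_prime hr).1 hd with e | e
        · exact absurd (orderOf_eq_one_iff.1 e) hx1
        · exact e.ge)
      exact e ▸ Subgroup.mem_zpowers w
    obtain ⟨i, hi⟩ := hwx
    exact hi ▸ hy.zpow_right i
  have hMW : ∀ g : G, g * w * g⁻¹ ∈ W → g ∈ M := by
    intro g hg
    refine Subgroup.mem_normalizer_iff_map_conj_eq.2 (Subgroup.eq_of_le_of_card_ge ?_ ?_)
    · rintro _ ⟨y, ⟨i, rfl⟩, rfl⟩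
      show g * w ^ i * g⁻¹ ∈ W
      rw [← conj_zpow]
      exact zpow_mem hg i
    · rw [Subgroup.card_map_of_injective (MulAut.conj g).injective]
  have hWM : ∀ g ∈ M, g * w * g⁻¹ ∈ W := fun g hg =>
    (Subgroup.mem_normalizer_iff.1 hg w).1 (Subgroup.mem_zpowers w)
  -- the centralizer of `S` acts trivially on `W`
  have hfix : ∀ c ∈ Subgroup.centralizer ((S : Subgroup G) : Set G), c ∈ M → Commute c w := by
    intro c hc hcM
    obtain ⟨a, m, hm, -, hq, hpart⟩ := Transfer.exists_pow_coprime_part (p := 2) c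
    have h2 : Commute (c ^ m) w := hSw _ (klein_two_elt S hS (pow_mem hc m) ⟨a, hpart⟩)
    have h1 : Commute (c ^ 2 ^ a) w := by
      set q := c ^ 2 ^ a with hqdef
      obtain ⟨k, hk⟩ := hWM q (pow_mem hcM _)
      replace hk : q * w * q⁻¹ = w ^ k := hk.symm
      have hkr : IsCoprime k (r : ℤ) := by
        refine ((Nat.prime_iff_prime_int.1 hr).coprime_iff_not_dvd.2 fun hd => ?_).symm
        have h0 : w ^ k = 1 := orderOf_dvd_iff_zpow_eq_one.1 (by rw [hw]; exact hd)
        exact hw1 (conj_eq_one_iff.1 (hk.trans h0))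
      have e : q ^ (r - 1) * w * (q ^ (r - 1))⁻¹ = w := by
        rw [Transfer.conj_pow_eq_zpow hk]
        refine ((orderOf_dvd_sub_iff_zpow_eq_zpow (b := 1)).1 ?_).trans (zpow_one w)
        rw [hw]
        exact ((Int.ModEq.pow_card_sub_one_eq_one hr hkr).symm).dvd
      have hco : (r - 1).Coprime (orderOf q) := by
        refine Nat.coprime_of_dvd fun l hl hl1 hl2 => ?_
        have hl2' : l ≠ 2 := by
          intro e2
          rw [e2] at hl2
          exact Nat.not_coprime_of_dvd_of_dvd (by norm_num) hl2 dvd_rfl hq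
        have hlr : l < r := by
          have := Nat.le_of_dvd (by have := hr.two_le; omega) hl1
          have := hr.two_le
          omega
        refine ih l hlr hl hl2' (q ^ (orderOf q / l)) (pow_mem (pow_mem hc _) _) ?_
        exact orderOf_pow_orderOf_div (orderOf_pos q).ne' hl2
      obtain ⟨i, hi⟩ := exists_pow_eq_self_of_coprime hco
      rw [← hi]
      exact (show Commute (q ^ (r - 1)) w from mul_inv_eq_iff_eq_mul.mp e).pow_left i
    have hgcd : m.Coprime (2 ^ a) :=
      ((Nat.prime_two.coprime_iff_not_dvd).mpr hm).symm.pow_right a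
    have hb := Nat.gcd_eq_gcd_ab m (2 ^ a)
    rw [hgcd.gcd_eq_one] at hb
    have h3 : c = (c ^ m) ^ m.gcdA (2 ^ a) * (c ^ 2 ^ a) ^ m.gcdB (2 ^ a) := by
      rw [← zpow_natCast, ← zpow_natCast, ← zpow_mul, ← zpow_mul, ← zpow_add, ← hb]
      simp
    rw [h3]
    exact (h2.zpow_left _).mul_left (h1.zpow_left _)
  -- the action of `M` on `W` is realised in `N(S)`
  have hSC : (S : Subgroup G) ≤ Subgroup.centralizer ({w} : Set G) := fun s hs =>
    Subgroup.mem_centralizer_singleton_iff.2 (hSw s hs).eq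
  have hCM : Subgroup.centralizer ({w} : Set G) ≤ M := fun c hc => hMW c (by
    rw [Subgroup.mem_centralizer_singleton_iff.1 hc, mul_inv_cancel_right]
    exact Subgroup.mem_zpowers w)
  have hconjC : ∀ g ∈ M, ∀ s ∈ (S : Subgroup G), Commute (g * s * g⁻¹) w := by
    intro g hg s hs
    exact hgen _ (hWM g hg) (fun e => hw1 (conj_eq_one_iff.1 e)) _ ((hSw s hs).conj g)
  let ψ : ↥M →* MulAut ↥W := W.normalizerMonoidHom
  have hψ : ∀ a b : ↥M, ψ a = ψ b ↔ (a : G) * w * (a : G)⁻¹ = (b : G) * w * (b : G)⁻¹ := by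
    intro a b
    refine ⟨fun e => congrArg (fun f : MulAut ↥W => ((f ⟨w, Subgroup.mem_zpowers w⟩ : ↥W) : G)) e,
      fun e => MulEquiv.ext fun x => Subtype.ext ?_⟩
    obtain ⟨i, hi⟩ := x.2
    show (a : G) * (x : G) * (a : G)⁻¹ = (b : G) * (x : G) * (b : G)⁻¹
    have hi' : w ^ i = (x : G) := hi
    rw [← hi', ← conj_zpow, ← conj_zpow, e]
  have hψ1 : ∀ a : ↥M, ψ a = 1 ↔ Commute (a : G) w := by
    intro a
    rw [← map_one ψ, hψ, Subgroup.coe_one, inv_one, mul_one, one_mul]
    exact ⟨fun e => mul_inv_eq_iff_eq_mul.1 e, fun e => by rw [e.eq, mul_inv_cancel_right]⟩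
  have hreal : ∀ a : ↥M, ∃ b : ↥M,
      (b : G) ∈ Subgroup.normalizer ((S : Subgroup G) : Set G) ∧ ψ a = ψ b := by
    intro a
    obtain ⟨c, hc, hn⟩ := adjust S hSC (g := (a : G)) fun s hs =>
      Subgroup.mem_centralizer_singleton_iff.2 (hconjC a a.2 s hs).eq
    refine ⟨⟨c * a, mul_mem (hCM hc) a.2⟩, hn, ?_⟩
    rw [show (⟨c * a, mul_mem (hCM hc) a.2⟩ : ↥M) = ⟨c, hCM hc⟩ * a from rfl, map_mul,
      (hψ1 ⟨c, hCM hc⟩).2 (Subgroup.mem_centralizer_singleton_iff.1 hc), one_mul]
  have hcube : ∀ a : ↥M, ψ a ^ 3 = 1 := by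
    intro a
    obtain ⟨b, hb, e⟩ := hreal a
    rw [e, ← map_pow, hψ1, SubmonoidClass.coe_pow]
    exact hfix _ (klein_cube S hS hb) (pow_mem b.2 3)
  -- a Sylow subgroup of the odd normal complement of `C(w)`
  obtain ⟨P, hwP⟩ := (Transfer.isPGroup_zpowers (p := r) (x := w)
    ⟨1, by rw [pow_one, hw]⟩).exists_le_sylow
  have hwP' : w ∈ (P : Subgroup G) := hwP (Subgroup.mem_zpowers w)
  have hNM : ∀ (Q : Sylow r G), w ∈ (Q : Subgroup G) →
      Subgroup.normalizer ((Q : Subgroup G) : Set G) ≤ M := by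
    intro Q hQ g hg
    refine hMW g (mem_zpowers_of_cyclic Q (h r hr hr2 Q) hQ hw
      ((Subgroup.mem_normalizer_iff.1 hg w).1 hQ) ?_)
    rw [conj_pow, ← hw, pow_orderOf_eq_one, mul_one, mul_inv_cancel]
  have hmove : ∀ (Q : Sylow r G), w ∈ (Q : Subgroup G) →
      ∃ g ∈ Subgroup.normalizer ((Q : Subgroup G) : Set G), ¬ Commute g w := by
    intro Q hQ
    by_contra hall
    push Not at hall
    refine not_normalizer_le_centralizer hna Q (fun e => hw1 (Subgroup.mem_bot.1 (e ▸ hQ))) ?_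
    exact fun g hg => cent_of_fix Q (h r hr hr2 Q) hQ hw hg (hall g hg)
  obtain ⟨g₀, hg₀, hg₀w⟩ := hmove P hwP'
  obtain ⟨n₀, hn₀, en₀⟩ := hreal ⟨g₀, hNM P hwP' hg₀⟩
  have hn₀w : ¬ Commute (n₀ : G) w := fun e =>
    hg₀w ((hψ1 ⟨g₀, hNM P hwP' hg₀⟩).1 (en₀.trans ((hψ1 n₀).2 e)))
  have hn₀C : (n₀ : G) ∉ Subgroup.centralizer ((S : Subgroup G) : Set G) := fun e =>
    hn₀w (hfix _ e n₀.2)
  have hrange : ∀ a : ↥M, ∃ i : ℤ, ψ a = ψ n₀ ^ i := by
    intro a
    obtain ⟨b, hb, e⟩ := hreal a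
    obtain ⟨i, hi⟩ := klein_gen S hS hn₀ hn₀C hb
    refine ⟨i, ?_⟩
    have h1 : ψ (b * (n₀ ^ i)⁻¹) = 1 := (hψ1 _).2 (hfix _ (by simpa using hi) (b * (n₀ ^ i)⁻¹).2)
    rw [map_mul, map_inv, map_zpow, mul_inv_eq_one] at h1
    rw [e, h1]
  have hord : orderOf (ψ n₀) = 3 := by
    haveI := Fact.mk Nat.prime_three
    exact orderOf_eq_prime (hcube n₀) fun e => hn₀w ((hψ1 n₀).1 e)
  have hNC : ∀ n ∈ Subgroup.normalizer ((S : Subgroup G) : Set G), Commute n w →
      n ∈ Subgroup.centralizer ((S : Subgroup G) : Set G) := by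
    intro n hn hnw
    obtain ⟨i, hi⟩ := klein_gen S hS hn₀ hn₀C hn
    have hnM : n ∈ M := hCM (Subgroup.mem_centralizer_singleton_iff.2 hnw.eq)
    have h1 : ψ (⟨n, hnM⟩ * (n₀ ^ i)⁻¹) = 1 :=
      (hψ1 _).2 (hfix _ (by simpa using hi) (⟨n, hnM⟩ * (n₀ ^ i)⁻¹).2)
    rw [map_mul, map_inv, map_zpow, mul_inv_eq_one, (hψ1 ⟨n, hnM⟩).2 hnw] at h1
    have hi3 : (3 : ℤ) ∣ i := by
      have := orderOf_dvd_iff_zpow_eq_one.2 h1.symm
      rwa [hord] at this
    obtain ⟨j, rfl⟩ := hi3
    have hmem := mul_mem hi (zpow_mem (klein_cube S hS hn₀) j)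
    rw [zpow_mul, show ((n₀ : G) ^ (3 : ℤ)) = (n₀ : G) ^ 3 from zpow_natCast _ 3,
      inv_mul_cancel_right] at hmem
    exact hmem
  -- the normal 2-complement of `C(w)`
  set C := Subgroup.centralizer ({w} : Set G) with hC
  obtain ⟨Q, Y, hY, hYc⟩ := Transfer.hasNormalPComplement_of_normalizer_le_centralizer
    (S.subtype hSC) (by
      intro n hn
      rw [← Sylow.coe_coe, Sylow.coe_subtype] at hn
      have hn' : (n : G) ∈ Subgroup.normalizer ((S : Subgroup G) : Set G) :=
        (SetLike.ext_iff.mp (Subgroup.subgroupOf_normalizer_eq hSC) n).mpr hn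
      have hn'' := hNC _ hn' (Subgroup.mem_centralizer_singleton_iff.1 n.2)
      rw [Subgroup.mem_centralizer_iff]
      intro y hy
      rw [← Sylow.coe_coe, SetLike.mem_coe, Sylow.coe_subtype, Subgroup.mem_subgroupOf] at hy
      exact Subtype.ext (Subgroup.mem_centralizer_iff.1 hn'' y hy))
  haveI := hY
  have hQ4 : Nat.card (Q : Subgroup ↥C) = 4 := by
    rw [Q.card_eq_multiplicity, ← (S.subtype hSC).card_eq_multiplicity, Sylow.coe_subtype,
      Nat.card_congr (Subgroup.subgroupOfEquivOfLe hSC).toEquiv, IsKleinFour.card_four]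
  have hYodd : ¬ 2 ∣ Nat.card ↥(Y.map C.subtype) := by
    rw [Subgroup.card_map_of_injective C.subtype_injective]
    intro h2
    have : 2 * 4 ∣ Nat.card ↥C := by
      rw [← hYc.card_mul_card, hQ4]
      exact Nat.mul_dvd_mul_right h2 4
    have h8 : 8 ∣ Nat.card G := this.trans (Subgroup.card_subgroup_dvd_card C)
    have hv := (Nat.prime_two.pow_dvd_iff_le_factorization Nat.card_pos.ne').1
      (show 2 ^ 3 ∣ Nat.card G by simpa using h8)
    have h4 : (2 : ℕ) ^ (Nat.card G).factorization 2 = 2 ^ 2 := by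
      rw [← S.card_eq_multiplicity, IsKleinFour.card_four]; norm_num
    have := Nat.pow_right_injective le_rfl h4
    omega
  have hSY : (S : Subgroup G) ≤ Subgroup.normalizer ((Y.map C.subtype : Subgroup G) : Set G) := by
    intro s hs
    have h' := Subgroup.le_normalizer_map (H := Y) C.subtype
    refine h' ⟨⟨s, hSC hs⟩, ?_, rfl⟩
    rw [Y.normalizer_eq_top]
    exact Subgroup.mem_top _
  obtain ⟨R₀, hR₀⟩ := SylowNumber.exists_invariant_sylow (r := r) S.2 hSY hYodd
  set RS : Subgroup G := (R₀ : Subgroup ↥(Y.map C.subtype)).map (Y.map C.subtype).subtype with hRS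
  have hRSC : RS ≤ C := (Subgroup.map_subtype_le _).trans (Subgroup.map_subtype_le _)
  have hRScard : Nat.card RS = r ^ (Nat.card G).factorization r := by
    have hPC : (P : Subgroup G) ≤ C := by
      intro y hy
      haveI : IsCyclic P := h r hr hr2 P
      haveI : IsMulCommutative P := IsCyclic.isMulCommutative
      exact Subgroup.mem_centralizer_singleton_iff.2
        (congrArg Subtype.val (mul_comm' (⟨y, hy⟩ : P) ⟨w, hwP'⟩))
    rw [hRS, Subgroup.card_map_of_injective (Subgroup.subtype_injective _),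
      R₀.card_eq_multiplicity, Subgroup.card_map_of_injective C.subtype_injective]
    congr 1
    refine le_antisymm (Nat.factorization_le_iff_dvd Nat.card_pos.ne' Nat.card_pos.ne' |>.2
      ((Subgroup.card_subgroup_dvd_card Y).trans (Subgroup.card_subgroup_dvd_card C)) r) ?_
    rw [← hr.pow_dvd_iff_le_factorization Nat.card_pos.ne', ← P.card_eq_multiplicity]
    have hd := Subgroup.card_dvd_of_le hPC
    rw [← hYc.card_mul_card, hQ4] at hd
    refine Nat.Coprime.dvd_of_dvd_mul_right ?_ hd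
    rw [P.card_eq_multiplicity, show 4 = 2 ^ 2 from rfl]
    exact ((Nat.coprime_primes hr Nat.prime_two).2 hr2).pow _ _
  set R : Sylow r G := Sylow.ofCard RS hRScard with hR
  have hRS' : (R : Subgroup G) = RS := Sylow.coe_ofCard _ _
  have hwR : w ∈ (R : Subgroup G) := by
    have hQ' : IsPGroup r ↥((R : Subgroup G) ⊔ W) := by
      refine R.2.to_sup_of_normal_left' (Transfer.isPGroup_zpowers
        ⟨1, by rw [pow_one, hw]⟩) (Subgroup.zpowers_le.mpr
          (Subgroup.centralizer_le_normalizer _ ?_))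
      rw [hRS']
      exact Subgroup.mem_centralizer_iff.2 fun y hy =>
        Subgroup.mem_centralizer_singleton_iff.1 (hRSC hy)
    rw [← R.is_maximal' hQ' le_sup_left]
    exact Subgroup.mem_sup_right (Subgroup.mem_zpowers _)
  have hRc : IsCyclic R := h r hr hr2 R
  have hfixR : ∀ g ∈ Subgroup.normalizer ((R : Subgroup G) : Set G), Commute g w →
      g ∈ Subgroup.centralizer ((R : Subgroup G) : Set G) := fun g hg e =>
    cent_of_fix R hRc hwR hw hg e
  have hSR : ∀ s ∈ (S : Subgroup G), ∀ y ∈ (R : Subgroup G), Commute s y := by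
    intro s hs y hy
    exact (Subgroup.mem_centralizer_iff.1
      (hfixR s (by rw [hRS']; exact hR₀ hs) (hSw s hs)) y hy).symm
  obtain ⟨J, hJS, hJ1⟩ : ∃ J ∈ (S : Subgroup G), J ≠ 1 := by
    refine (Subgroup.bot_or_exists_ne_one _).resolve_left fun e => ?_
    have := IsKleinFour.card_four (G := ↥(S : Subgroup G))
    rw [e, Subgroup.card_bot] at this
    norm_num at this
  have hJ : orderOf J = 2 := orderOf_eq_prime
    (by rw [pow_two]; exact congrArg Subtype.val (IsKleinFour.mul_self (⟨J, hJS⟩ : ↥(S : Subgroup G))))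
    hJ1
  have hperf : commutator G = ⊤ :=
    ((Subgroup.commutator_normal (⊤ : Subgroup G) ⊤).eq_bot_or_eq_top).resolve_left fun e =>
      hna ⟨⟨fun a b => commutatorElement_eq_one_iff_mul_comm.1 (Subgroup.mem_bot.1
        (e ▸ Subgroup.commutator_mem_commutator (Subgroup.mem_top a) (Subgroup.mem_top b)))⟩⟩
  have hab : IsMulCommutative (R : Subgroup G) := by
    haveI := hRc
    exact IsCyclic.isMulCommutative
  have huw : ∀ u ∈ (R : Subgroup G), u ≠ 1 → ∀ g : G, Commute g u → Commute g w := by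
    intro u hu hu1 g hg
    obtain ⟨k, hk⟩ := IsPGroup.iff_orderOf.1 R.2 ⟨u, hu⟩
    rw [Subgroup.orderOf_mk] at hk
    have hr' : r ∣ orderOf u := by
      rcases Nat.eq_zero_or_pos k with rfl | hk0
      · exact absurd (orderOf_eq_one_iff.1 (by rw [hk, pow_zero])) hu1
      · exact hk ▸ dvd_pow_self r hk0.ne'
    set x := u ^ (orderOf u / r) with hx
    have hxo : orderOf x = r := orderOf_pow_orderOf_div (orderOf_pos u).ne' hr'
    refine hgen x (mem_zpowers_of_cyclic R hRc hwR hw (pow_mem hu _) (hxo ▸ pow_orderOf_eq_one x))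
      (fun e => hr.ne_one (by rw [← hxo, e, orderOf_one])) g (hg.pow_right _)
  refine MinNonCA.no_three_automizer hperf S hS hone hJS hJ hr2 R
    (fun e => hw1 (Subgroup.mem_bot.1 (e ▸ hwR))) hab ?_ ?_ ?_ ?_ ?_
  · exact fun y hy => Subgroup.mem_centralizer_singleton_iff.2 (hSR J hJS y hy).symm.eq
  · intro g hg
    obtain ⟨hgN, hgJ⟩ := Subgroup.mem_inf.1 hg
    have hgJ' : Commute g J := Subgroup.mem_centralizer_singleton_iff.1 hgJ
    have hgM : g ∈ M := hNM R hwR hgN
    obtain ⟨c, hc, hn⟩ := adjust S (D := C ⊓ Subgroup.centralizer ({J} : Set G))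
      (le_inf hSC fun s hs => Subgroup.mem_centralizer_singleton_iff.2 (klein_comm S hS hs hJS).eq)
      (g := g) fun s hs => ⟨Subgroup.mem_centralizer_singleton_iff.2 (hconjC g hgM s hs).eq, by
        refine Subgroup.mem_centralizer_singleton_iff.2 ?_
        have := (klein_comm S hS hs hJS).conj g
        rwa [hgJ'.eq, mul_inv_cancel_right] at this⟩
    have hcJ : Commute c J := Subgroup.mem_centralizer_singleton_iff.1 hc.2
    have hcw : Commute c w := Subgroup.mem_centralizer_singleton_iff.1 hc.1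
    have h1 := hfix _ (klein_fix S hS hn hJS hJ1 (hcJ.mul_left hgJ')) (mul_mem (hCM hc.1) hgM)
    refine hfixR g hgN ?_
    have h2 := hcw.inv_left.mul_left h1
    rwa [inv_mul_cancel_left] at h2
  · intro u hu hu1
    have hle : (R : Subgroup G) ≤ Subgroup.centralizer ({u} : Set G) := fun y hy =>
      Subgroup.mem_centralizer_singleton_iff.2 (congrArg Subtype.val
        (hab.is_comm.comm (⟨y, hy⟩ : ↥(R : Subgroup G)) ⟨u, hu⟩))
    refine Transfer.hasNormalPComplement_of_normalizer_le_centralizer (R.subtype hle) ?_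
    intro n hn
    rw [← Sylow.coe_coe, Sylow.coe_subtype] at hn
    have hn' : (n : G) ∈ Subgroup.normalizer ((R : Subgroup G) : Set G) :=
      (SetLike.ext_iff.mp (Subgroup.subgroupOf_normalizer_eq hle) n).mpr hn
    have hn'' := hfixR _ hn' (huw u hu hu1 _ (Subgroup.mem_centralizer_singleton_iff.1 n.2))
    rw [Subgroup.mem_centralizer_iff]
    intro y hy
    rw [← Sylow.coe_coe, SetLike.mem_coe, Sylow.coe_subtype, Subgroup.mem_subgroupOf] at hy
    exact Subtype.ext (Subgroup.mem_centralizer_iff.1 hn'' y hy)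
  · have hker : ((ψ.comp (Subgroup.inclusion (hNM R hwR)))).ker =
        (Subgroup.centralizer ((R : Subgroup G) : Set G)).subgroupOf
          (Subgroup.normalizer ((R : Subgroup G) : Set G)) := by
      ext ⟨g, hg⟩
      rw [MonoidHom.mem_ker, MonoidHom.comp_apply, hψ1, Subgroup.mem_subgroupOf]
      exact ⟨hfixR g hg, fun e => (Subgroup.mem_centralizer_iff.1 e w hwR).symm⟩
    rw [Subgroup.relIndex, ← hker, Subgroup.index_ker]
    have hle : (ψ.comp (Subgroup.inclusion (hNM R hwR))).range ≤ Subgroup.zpowers (ψ n₀) := by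
      rintro _ ⟨a, rfl⟩
      obtain ⟨i, hi⟩ := hrange (Subgroup.inclusion (hNM R hwR) a)
      exact ⟨i, hi.symm⟩
    have hd := Subgroup.card_dvd_of_le hle
    rw [Nat.card_zpowers, hord] at hd
    refine ((Nat.dvd_prime Nat.prime_three).1 hd).resolve_left fun e => ?_
    obtain ⟨g, hg, hgw⟩ := hmove R hwR
    refine hgw ((hψ1 ⟨g, hNM R hwR hg⟩).1 (Subgroup.mem_bot.1 ?_))
    rw [← Subgroup.card_eq_one.1 e]
    exact ⟨⟨g, hg⟩, rfl⟩
  · intro u hu hu1 g hg
    exact hfixR g hg.2 (huw u hu hu1 g (Subgroup.mem_centralizer_singleton_iff.1 hg.1))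

end Klein

/-- A finite simple group with cyclic odd Sylow subgroups and Klein four Sylow 2-subgroups is
`PSL₂(p)`. -/
theorem simple_klein [IsSimpleGroup G] (hna : ¬ IsMulCommutative G) (h : OddCyclic G)
    (_ih : SmallerShape G) (S : Sylow 2 G) (hS : IsKleinFour ↥(S : Subgroup G)) : SimpleConcl G := by
  classical
  haveI := hS
  haveI := Fact.mk Nat.prime_two
  have hScard : Nat.card ↥(S : Subgroup G) = 4 := IsKleinFour.card_four
  have hS1 : (S : Subgroup G) ≠ ⊥ := fun e => by rw [e, Subgroup.card_bot] at hScard; norm_num at hScard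
  have hone : ∀ a b : G, orderOf a = 2 → orderOf b = 2 → IsConj a b := by
    refine (Invol.klein_complement_or_one_class S hS).resolve_left ?_
    rintro ⟨N, hN, hc⟩
    rcases hN.eq_bot_or_eq_top with e | e
    · rw [e, Subgroup.isComplement'_bot_left] at hc
      exact hna ⟨⟨fun a b => klein_comm S hS (hc ▸ Subgroup.mem_top a) (hc ▸ Subgroup.mem_top b)⟩⟩
    · rw [e, Subgroup.isComplement'_top_left] at hc
      exact hS1 hc
  have hcS : ∀ a : G, a ∈ Subgroup.centralizer ((S : Subgroup G) : Set G) → Odd (orderOf a) → a = 1 := by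
    intro a ha hodd
    by_contra ha1
    obtain ⟨l, hl, hld⟩ := Nat.exists_prime_and_dvd (n := orderOf a) fun e => ha1 (orderOf_eq_one_iff.1 e)
    refine klein_cent_prime S hS hna h hone l hl (fun e2 => ?_) (a ^ (orderOf a / l)) (pow_mem ha _)
      (orderOf_pow_orderOf_div (orderOf_pos a).ne' hld)
    rw [e2] at hld
    exact Nat.not_even_iff_odd.2 hodd (even_iff_two_dvd.2 hld)
  -- the four group
  obtain ⟨eS⟩ : Nonempty (↥(S : Subgroup G) ≃* DihedralGroup 2) := IsKleinFour.nonempty_mulEquiv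
  obtain ⟨t, htS, ht1⟩ := (Subgroup.bot_or_exists_ne_one _).resolve_left hS1
  obtain ⟨u, huS, hu1, hut⟩ : ∃ u ∈ (S : Subgroup G), u ≠ 1 ∧ u ≠ t := by
    by_contra hall
    push Not at hall
    have hle : (S : Subgroup G) ≤ Subgroup.zpowers t := fun y hy => by
      by_cases hy1 : y = 1
      · rw [hy1]; exact one_mem _
      · rw [hall y hy hy1]; exact Subgroup.mem_zpowers t
    have hd := Subgroup.card_dvd_of_le hle
    rw [hScard, Nat.card_zpowers] at hd
    have h2 : orderOf t ∣ 2 := orderOf_dvd_of_pow_eq_one (by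
      rw [pow_two]; exact congrArg Subtype.val (IsKleinFour.mul_self (⟨t, htS⟩ : ↥(S : Subgroup G))))
    have := Nat.le_of_dvd two_pos (hd.trans h2)
    omega
  have hsq : ∀ y ∈ (S : Subgroup G), y * y = 1 := fun y hy =>
    congrArg Subtype.val (IsKleinFour.mul_self (⟨y, hy⟩ : ↥(S : Subgroup G)))
  have ht : orderOf t = 2 := orderOf_eq_prime (by rw [pow_two]; exact hsq t htS) ht1
  have hfour : ∀ y ∈ (S : Subgroup G), y = 1 ∨ y = t ∨ y = u ∨ y = t * u := by
    intro y hy
    by_cases h1 : y = 1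
    · exact Or.inl h1
    by_cases h2 : y = t
    · exact Or.inr (Or.inl h2)
    by_cases h3 : y = u
    · exact Or.inr (Or.inr (Or.inl h3))
    refine Or.inr (Or.inr (Or.inr (congrArg Subtype.val (IsKleinFour.eq_mul_of_ne_all
      (x := (⟨t, htS⟩ : ↥(S : Subgroup G))) (y := ⟨u, huS⟩) (z := ⟨y, hy⟩) ?_ ?_ ?_ ?_ ?_ ?_))))
    exacts [fun e => ht1 (congrArg Subtype.val e), fun e => hu1 (congrArg Subtype.val e),
      fun e => hut (congrArg Subtype.val e).symm, fun e => h1 (congrArg Subtype.val e),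
      fun e => h2 (congrArg Subtype.val e), fun e => h3 (congrArg Subtype.val e)]
  have hcomt : ∀ y ∈ (S : Subgroup G), Commute y t := fun y hy => klein_comm S hS hy htS
  obtain ⟨O, hO, hOmax, hOnorm, hOdec⟩ := DGroup.exists_odd_core S le_rfl ⟨eS⟩ ht
  have hfpf : ∀ v ∈ (S : Subgroup G), v ≠ 1 → v ≠ t → ∀ n ∈ O, Commute n v → n = 1 := by
    intro v hv hv1 hvt n hn hnv
    refine hcS n (Subgroup.mem_centralizer_iff.2 fun y hy => ?_) (hO n hn).1
    have hnt : Commute n t := (hO n hn).2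
    have hnu : Commute n u := by
      rcases hfour v hv with e | e | e | e
      · exact absurd e hv1
      · exact absurd e hvt
      · exact e ▸ hnv
      · have h2 := hnt.mul_right (e ▸ hnv : Commute n (t * u))
        rwa [← mul_assoc, hsq t htS, one_mul] at h2
    rcases hfour y hy with e | e | e | e <;> subst e
    · rw [one_mul, mul_one]
    · exact hnt.eq.symm
    · exact hnu.eq.symm
    · exact (hnt.mul_right hnu).eq.symm
  have hinv : ∀ v ∈ (S : Subgroup G), v ≠ 1 → v ≠ t → ∀ n ∈ O, v * n * v⁻¹ = n⁻¹ := fun v hv hv1 hvt =>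
    DGroup.inverts_fpf (orderOf_eq_prime (by rw [pow_two]; exact hsq v hv) hv1)
      (hOnorm v (hcomt v hv)) (hfpf v hv hv1 hvt)
  have hmax : ∀ R : Subgroup G, R ≤ Subgroup.centralizer ({t} : Set G) → IsPGroup 2 R →
      Nat.card R ≤ Nat.card (S : Subgroup G) := by
    intro R _ hR
    obtain ⟨T, hT⟩ := hR.exists_le_sylow
    exact (Nat.card_le_card_of_injective _ (Subgroup.inclusion_injective hT)).trans_eq
      (by rw [T.card_eq_multiplicity, S.card_eq_multiplicity])
  have hcore : oddCore G = ⊥ := by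
    haveI : (oddCore G).Characteristic := PSolvable.pPrimeCore_characteristic 2
    refine ((inferInstance : (oddCore G).Normal).eq_bot_or_eq_top).resolve_right fun e => ?_
    have hco : (Nat.card ↥(oddCore G)).Coprime 2 := Transfer.pPrimeCore_coprime 2
    rw [show oddCore G = ⊤ from e, Subgroup.card_top] at hco
    have h4 : 4 ∣ Nat.card G := hScard ▸ Subgroup.card_subgroup_dvd_card _
    exact (Nat.prime_two.coprime_iff_not_dvd.1 hco.symm) ((by norm_num : (2 : ℕ) ∣ 4).trans h4)
  obtain ⟨A, d⟩ := DGroup.dihData_mk (v := t) (r := t) (x := u) (O := O)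
    (Subgroup.mem_zpowers t) (Commute.refl t) (hcomt u huS) hO
    (DGroup.comm_of_inverted (hinv u huS hu1 hut)) (fun a ha => (hO a ha).2)
    (hinv u huS hu1 hut)
    (by rw [(hcomt u huS).eq, mul_inv_cancel_right]; exact (inv_eq_of_mul_eq_one_right (hsq t htS)).symm)
    (hsq u huS) hu1 hut (l := 1) (by rw [ht, pow_one])
    (by
      intro y hy _
      have hc2 : ∀ z ∈ Subgroup.zpowers t, z = 1 ∨ z = t := by
        rintro _ ⟨i, rfl⟩
        show t ^ i = 1 ∨ t ^ i = t
        rw [← zpow_mod_orderOf, ht]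
        rcases Int.emod_two_eq_zero_or_one i with e | e <;> simp [e]
      exact hc2 y hy)
    (by
      intro g hg
      obtain ⟨o, ho, s, hs, rfl⟩ := hOdec (S : Subgroup G)
        (fun y hy => Subgroup.mem_centralizer_singleton_iff.2 (hcomt y hy).eq) S.2 hmax g hg
      refine ⟨o, ho, ?_⟩
      rcases hfour s hs with e | e | e | e <;> subst e
      · exact ⟨0, Or.inl (by simp)⟩
      · exact ⟨1, Or.inl (by simp)⟩
      · exact ⟨0, Or.inr (by simp)⟩
      · exact ⟨1, Or.inr (by rw [zpow_one, mul_assoc])⟩)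
  have hOC : DGroup.OneClass G := DGroup.oneClass_of hcore S le_rfl ⟨eS⟩ hone ht d
  have hOeq : O = (oddCore ↥(Subgroup.centralizer ({t} : Set G))).map
      (Subgroup.centralizer ({t} : Set G)).subtype := by
    set C := Subgroup.centralizer ({t} : Set G) with hC
    have hOC' : O ≤ C := fun a ha => Subgroup.mem_centralizer_singleton_iff.2 (hO a ha).2.eq
    refine le_antisymm ?_ ?_
    · haveI : (O.subgroupOf C).Normal := ⟨fun a ha g =>
        hOnorm g (Subgroup.mem_centralizer_singleton_iff.1 g.2) a ha⟩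
      have hle : O.subgroupOf C ≤ oddCore ↥C := by
        refine Transfer.le_pPrimeCore inferInstance
          ((Nat.prime_two.coprime_iff_not_dvd.2 fun h2 => ?_).symm)
        obtain ⟨a, ha⟩ := exists_prime_orderOf_dvd_card' 2 h2
        have := (hO ((a : ↥C) : G) a.2).1
        rw [Subgroup.orderOf_coe, Subgroup.orderOf_coe, ha] at this
        exact absurd this (by decide)
      intro a ha
      exact ⟨⟨a, hOC' ha⟩, hle ha, rfl⟩
    · rintro _ ⟨a, ha, rfl⟩
      refine hOmax _ ?_ (Subgroup.mem_centralizer_singleton_iff.1 a.2)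
      rw [Subgroup.coe_subtype, Subgroup.orderOf_coe]
      exact (Nat.coprime_two_right.1 (Transfer.pPrimeCore_coprime 2)).of_dvd_nat
        (Subgroup.orderOf_dvd_natCard _ ha)
  have hA : O ≠ ⊥ → IsCyclic ((S : Subgroup G) ⊓ Subgroup.centralizer (O : Set G) : Subgroup G) ∧
      ((S : Subgroup G) ⊓ Subgroup.centralizer (O : Set G)).relIndex (S : Subgroup G) = 2 := by
    intro hO1
    obtain ⟨⟨a, ha⟩, hne⟩ := Subgroup.ne_bot_iff_exists_ne_one.1 hO1
    have ha1 : a ≠ 1 := fun e => hne (Subtype.ext e)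
    have heq : (S : Subgroup G) ⊓ Subgroup.centralizer (O : Set G) = Subgroup.zpowers t := by
      refine le_antisymm (fun y hy => ?_) (Subgroup.zpowers_le.2 ⟨htS,
        Subgroup.mem_centralizer_iff.2 fun b hb => (hO b hb).2.eq⟩)
      by_cases hy1 : y = 1
      · rw [hy1]; exact one_mem _
      by_cases hyt : y = t
      · rw [hyt]; exact Subgroup.mem_zpowers t
      exact absurd (hfpf y hy.1 hy1 hyt a ha (Subgroup.mem_centralizer_iff.1 hy.2 a ha)) ha1
    rw [heq]
    refine ⟨inferInstance, ?_⟩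
    have h1 := Subgroup.card_mul_index ((Subgroup.zpowers t).subgroupOf (S : Subgroup G))
    rw [Nat.card_congr (Subgroup.subgroupOfEquivOfLe (Subgroup.zpowers_le.2 htS)).toEquiv,
      Nat.card_zpowers, ht, hScard] at h1
    show ((Subgroup.zpowers t).subgroupOf (S : Subgroup G)).index = 2
    omega
  have hB : ∀ s ∈ (S : Subgroup G), s ∉ Subgroup.centralizer (O : Set G) → ∀ y ∈ O, s * y * s⁻¹ = y⁻¹ := by
    intro s hs hsO y hy
    refine hinv s hs ?_ ?_ y hy
    · rintro rfl; exact hsO (one_mem _)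
    · rintro rfl; exact hsO (Subgroup.mem_centralizer_iff.2 fun b hb => (hO b hb).2.eq)
  have hC : ∀ Y : Subgroup G, Y ≤ O → Y ≠ ⊥ →
      Subgroup.normalizer (Y : Set G) ≤ Subgroup.centralizer ({t} : Set G) := by
    intro Y hY hY1
    exact DGroup.OneClass.normalizer_le hOC ht hY1 fun y hy => hO y (hY hy)
  obtain ⟨F, iF, iF2, hodd, ⟨e⟩⟩ := Cfsg.Agent.S0508.result S 2 le_rfl ⟨eS⟩ t ht htS
    (fun s hs => (hcomt s hs).eq) O hOeq hA hB hC
  exact simpleConcl_of_psl hna h hodd e

end CfsgLib.SuzukiCyclic
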