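import Cfsg.Agent.Lib.SuzukiCyclic.Defs
import Cfsg.Agent.Lib.Layer.Basic
import Cfsg.Agent.Lib.PByCyclic.Basic
import Cfsg.Agent.S4337

/-!
Groups with cyclic odd Sylow subgroups and a cyclic subgroup of index at most two in a Sylow
2-subgroup: both properties pass to subgroups and quotients, and a perfect such group has central
solvable radical.
-/

set_option autoImplicit false
set_option linter.style.haveILetI false

universe u

open scoped commutatorElement

namespace CfsgLib.SuzukiCyclic

variable {G : Type u} [Group G]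

theorem OddCyclic.of_injective [Finite G] {H : Type*} [Group H] (f : H →* G)
    (hf : Function.Injective f) (h : OddCyclic G) :
    ∀ p : ℕ, p.Prime → p ≠ 2 → ∀ P : Sylow p H, IsCyclic P := by
  intro p hp hp2 P
  haveI := Fact.mk hp
  obtain ⟨Q, hQ⟩ := (P.2.map f).exists_le_sylow
  haveI := h p hp hp2 Q
  exact isCyclic_of_injective
    ((Subgroup.inclusion hQ).comp ((P : Subgroup H).equivMapOfInjective f hf).toMonoidHom)
    ((Subgroup.inclusion_injective hQ).comp (MulEquiv.injective _))

theorem OddCyclic.subgroup [Finite G] (h : OddCyclic G) (H : Subgroup G) : OddCyclic ↥H :=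
  h.of_injective H.subtype H.subtype_injective

theorem OddCyclic.of_surjective [Finite G] {H : Type u} [Group H] (f : G →* H)
    (hf : Function.Surjective f) (h : OddCyclic G) : OddCyclic H := by
  intro p hp hp2 Q
  haveI := Fact.mk hp
  obtain ⟨P, rfl⟩ := Sylow.mapSurjective_surjective hf p Q
  haveI := h p hp hp2 P
  exact isCyclic_of_surjective (f.subgroupMap (P : Subgroup G)) (f.subgroupMap_surjective _)

theorem TwoCyclicIndex.of_injective [Finite G] {H : Type u} [Group H] (f : H →* G)
    (hf : Function.Injective f) (h : TwoCyclicIndex G) : TwoCyclicIndex H := by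
  intro S
  obtain ⟨T, hT⟩ := (S.2.map f).exists_le_sylow
  obtain ⟨C, hC, hCi⟩ := h T
  haveI : C.Normal := by
    rcases (Nat.dvd_prime Nat.prime_two).1 hCi with h1 | h2
    · rw [Subgroup.index_eq_one] at h1
      subst h1
      infer_instance
    · exact Subgroup.normal_of_index_eq_two h2
  let g : ↥(S : Subgroup H) →* ↥(T : Subgroup G) :=
    (Subgroup.inclusion hT).comp ((S : Subgroup H).equivMapOfInjective f hf).toMonoidHom
  have hg : Function.Injective g := (Subgroup.inclusion_injective hT).comp (MulEquiv.injective _)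
  refine ⟨C.comap g, ?_, ?_⟩
  · haveI := hC
    exact isCyclic_of_injective (g.subgroupComap C) fun a b hab =>
      Subtype.ext (hg (congrArg Subtype.val hab))
  · rw [Subgroup.index_comap]
    exact (Subgroup.relIndex_dvd_index_of_normal C g.range).trans hCi

theorem TwoCyclicIndex.subgroup [Finite G] (h : TwoCyclicIndex G) (H : Subgroup G) :
    TwoCyclicIndex ↥H :=
  h.of_injective H.subtype H.subtype_injective

theorem TwoCyclicIndex.of_surjective [Finite G] {H : Type u} [Group H] (f : G →* H)
    (hf : Function.Surjective f) (h : TwoCyclicIndex G) : TwoCyclicIndex H := by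
  intro Q
  haveI : Fact (Nat.Prime 2) := ⟨Nat.prime_two⟩
  obtain ⟨P, rfl⟩ := Sylow.mapSurjective_surjective hf 2 Q
  obtain ⟨C, hC, hCi⟩ := h P
  refine ⟨C.map (f.subgroupMap (P : Subgroup G)), ?_, ?_⟩
  · haveI := hC
    exact isCyclic_of_surjective ((f.subgroupMap (P : Subgroup G)).subgroupMap C)
      (MonoidHom.subgroupMap_surjective _ _)
  · exact (Subgroup.index_map_dvd C (f.subgroupMap_surjective (P : Subgroup G))).trans hCi

/-- Two commuting elements of the same odd prime order generate the same subgroup. -/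
theorem mem_zpowers_of_commute [Finite G] (h : OddCyclic G) {p : ℕ} (hp : p.Prime) (hp2 : p ≠ 2)
    {x y : G} (hx : orderOf x = p) (hy : orderOf y = p) (hxy : Commute x y) :
    y ∈ Subgroup.zpowers x := by
  haveI := Fact.mk hp
  have hpg : ∀ z : G, orderOf z = p → IsPGroup p ↥(Subgroup.zpowers z) := fun z hz =>
    IsPGroup.of_card (n := 1) (by rw [Nat.card_zpowers, hz, pow_one])
  have hle : Subgroup.zpowers y ≤ Subgroup.normalizer (Subgroup.zpowers x : Set G) := by
    refine le_trans ?_ (Subgroup.centralizer_le_normalizer _)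
    rw [Subgroup.zpowers_le, Subgroup.mem_centralizer_iff]
    rintro _ ⟨n, rfl⟩
    exact (hxy.zpow_left n).eq
  obtain ⟨P, hP⟩ := ((hpg x hx).to_sup_of_normal_left' (hpg y hy) hle).exists_le_sylow
  haveI := h p hp hp2 P
  have he : Subgroup.zpowers x = Subgroup.zpowers y :=
    PByCyclic.eq_of_card_eq_in_cyclic (le_sup_left.trans hP) (le_sup_right.trans hP)
      (by rw [Nat.card_zpowers, Nat.card_zpowers, hx, hy])
  exact he ▸ Subgroup.mem_zpowers y

/-- Such a group has no elementary abelian 2-subgroup of order eight. -/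
theorem card_le_four_of_sq [Finite G] (h : TwoCyclicIndex G) (E : Subgroup G)
    (hE : ∀ x ∈ E, x ^ 2 = 1) : Nat.card E ≤ 4 := by
  haveI : Fact (Nat.Prime 2) := ⟨Nat.prime_two⟩
  have hp : IsPGroup 2 ↥E := fun x => ⟨1, Subtype.ext (by simpa using hE x x.2)⟩
  obtain ⟨S, hS⟩ := hp.exists_le_sylow
  obtain ⟨C, hC, hCi⟩ := h S
  haveI := hC
  haveI : C.Normal := by
    rcases (Nat.dvd_prime Nat.prime_two).1 hCi with h1 | h2
    · rw [Subgroup.index_eq_one] at h1
      subst h1
      infer_instance
    · exact Subgroup.normal_of_index_eq_two h2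
  set D : Subgroup ↥E := C.comap (Subgroup.inclusion hS) with hD
  have hDi : D.index ∣ 2 := by
    rw [hD, Subgroup.index_comap]
    exact (Subgroup.relIndex_dvd_index_of_normal C _).trans hCi
  haveI : IsCyclic ↥D := isCyclic_of_injective ((Subgroup.inclusion hS).subgroupComap C)
    fun a b hab => Subtype.ext (Subgroup.inclusion_injective hS (congrArg Subtype.val hab))
  obtain ⟨d, hd⟩ := IsCyclic.exists_generator (α := ↥D)
  have hd2 : Nat.card D ∣ 2 := by
    rw [← orderOf_eq_card_of_forall_mem_zpowers hd]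
    exact orderOf_dvd_of_pow_eq_one (Subtype.ext (Subtype.ext (by simpa using hE _ d.1.2)))
  have h1 := Nat.mul_le_mul (Nat.le_of_dvd two_pos hd2) (Nat.le_of_dvd two_pos hDi)
  rwa [Subgroup.card_mul_index] at h1

/-- A homomorphism from a perfect group to a solvable group is trivial. -/
theorem eq_one_of_perfect {A : Type*} [Group A] (hA : Group.IsSolvable A)
    (hperf : commutator G = ⊤) (φ : G →* A) : φ = 1 := by
  have hr : φ.range = ⊥ := by
    by_contra hne
    haveI := hA
    haveI : Nontrivial ↥φ.range := (Subgroup.nontrivial_iff_ne_bot _).2 hne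
    refine (Group.IsSolvable.commutator_lt_top_of_nontrivial ↥φ.range).ne ?_
    rw [commutator_def, ← Subgroup.map_top_of_surjective φ.rangeRestrict
      φ.rangeRestrict_surjective, ← Subgroup.map_commutator, ← commutator_def, hperf]
  exact MonoidHom.range_eq_bot_iff.1 hr

/-- A perfect group centralises its solvable normal subgroups. -/
theorem solvable_le_center [Finite G] (hperf : commutator G = ⊤) (h : OddCyclic G)
    (h2 : TwoCyclicIndex G) (R : Subgroup G) [R.Normal] (hR : Group.IsSolvable ↥R) :
    R ≤ Subgroup.center G := by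
  obtain ⟨n, hn⟩ : ∃ n, Nat.card G = n := ⟨_, rfl⟩
  induction n using Nat.strong_induction_on generalizing G with
  | _ n IH =>
  rcases eq_or_ne R ⊥ with rfl | hne
  · exact bot_le
  -- a nontrivial abelian normal subgroup inside `R`
  haveI : Finite (Subgroup G) := Finite.of_injective (fun H => (H : Set G)) SetLike.coe_injective
  obtain ⟨A, ⟨hAn, hA0, hAR⟩, hAmin⟩ := (Set.toFinite {A : Subgroup G | A.Normal ∧ A ≠ ⊥ ∧ A ≤ R}
    ).exists_minimal ⟨R, inferInstance, hne, le_rfl⟩
  haveI := hAn
  haveI := hR
  haveI : Group.IsSolvable ↥A :=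
    Group.isSolvable_of_isSolvable_injective (Subgroup.inclusion_injective hAR)
  have hAA : ⁅A, A⁆ = ⊥ := by
    by_contra hb
    have hle : A ≤ ⁅A, A⁆ :=
      hAmin ⟨inferInstance, hb, (Subgroup.commutator_le_self A).trans hAR⟩
        (Subgroup.commutator_le_self A)
    haveI : Nontrivial ↥A := (Subgroup.nontrivial_iff_ne_bot A).2 hA0
    refine (Group.IsSolvable.commutator_lt_top_of_nontrivial ↥A).ne
      (Subgroup.map_injective A.subtype_injective ?_)
    rw [Subgroup.map_subtype_commutator, ← MonoidHom.range_eq_map, Subgroup.range_subtype]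
    exact le_antisymm (Subgroup.commutator_le_self A) hle
  have hAc : ∀ a ∈ A, ∀ b ∈ A, a * b = b * a := fun a ha b hb =>
    commutatorElement_eq_one_iff_mul_comm.1
      (Subgroup.mem_bot.1 (hAA ▸ Subgroup.commutator_mem_commutator ha hb))
  -- the elements of prime order in it
  obtain ⟨q, hq, hqd⟩ := Nat.exists_prime_and_dvd (n := Nat.card ↥A)
    (by rw [Ne, Subgroup.card_eq_one]; exact hA0)
  haveI := Fact.mk hq
  let N : Subgroup G :=
    { carrier := {x | x ∈ A ∧ x ^ q = 1}
      one_mem' := ⟨one_mem _, one_pow _⟩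
      mul_mem' := fun {a b} ha hb => ⟨mul_mem ha.1 hb.1, by
        rw [Commute.mul_pow (hAc a ha.1 b hb.1), ha.2, hb.2, one_mul]⟩
      inv_mem' := fun {a} ha => ⟨inv_mem ha.1, by rw [inv_pow, ha.2, inv_one]⟩ }
  haveI hNn : N.Normal := ⟨fun x hx g => ⟨hAn.conj_mem x hx.1 g, by rw [conj_pow, hx.2]; group⟩⟩
  have hN0 : N ≠ ⊥ := by
    obtain ⟨⟨a, ha⟩, ho⟩ := exists_prime_orderOf_dvd_card' (G := ↥A) q hqd
    rw [Subgroup.orderOf_mk] at ho
    intro he
    have : a ∈ N := ⟨ha, ho ▸ pow_orderOf_eq_one a⟩
    rw [he, Subgroup.mem_bot] at this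
    rw [this, orderOf_one] at ho
    exact hq.one_lt.ne ho
  have hNp : IsPGroup q ↥N := fun x => ⟨1, Subtype.ext (by simpa using x.2.2)⟩
  have hsolv : Group.IsSolvable (MulAut ↥N) := by
    rcases eq_or_ne q 2 with rfl | hq2
    · classical
      haveI := Fintype.ofFinite ↥N
      have h4 : Fintype.card ↥N ≤ 4 := by
        rw [← Nat.card_eq_fintype_card]
        exact card_le_four_of_sq h2 N fun x hx => hx.2
      haveI := CfsgLib.SmallPerm.isSolvable_perm_card_le_four h4
      exact Group.isSolvable_of_isSolvable_injective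
        (f := ({ toFun := fun φ => φ.toEquiv, map_one' := rfl, map_mul' := fun _ _ => rfl } :
          MulAut ↥N →* Equiv.Perm ↥N)) fun a b hab => MulEquiv.ext fun x => Equiv.congr_fun hab x
    · obtain ⟨P, hP⟩ := hNp.exists_le_sylow
      haveI := h q hq hq2 P
      haveI : IsCyclic ↥N := Subgroup.isCyclic_of_le hP
      refine Group.isSolvable_of_comm fun a b => ?_
      let e := IsCyclic.mulAutMulEquiv ↥N
      exact e.injective ((map_mul e a b).trans ((mul_comm _ _).trans (map_mul e b a).symm))
  have hNc : N ≤ Subgroup.center G := by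
    intro x hx
    rw [Subgroup.mem_center_iff]
    intro g
    have := congrArg Subtype.val (MulEquiv.congr_fun
      (DFunLike.congr_fun (eq_one_of_perfect hsolv hperf (MulAut.conjNormal (H := N))) g)
      ⟨x, hx⟩)
    rw [MulAut.conjNormal_apply] at this
    exact mul_inv_eq_iff_eq_mul.1 (by simpa using this)
  -- pass to the quotient
  let π : G →* G ⧸ N := QuotientGroup.mk' N
  have hπ : Function.Surjective π := QuotientGroup.mk'_surjective N
  have hlt : Nat.card (G ⧸ N) < n := by
    rw [← hn, Subgroup.card_eq_card_quotient_mul_card_subgroup N]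
    have h1 : 1 < Nat.card N := N.one_lt_card_iff_ne_bot.2 hN0
    have h0 : 0 < Nat.card (G ⧸ N) := Nat.card_pos
    exact lt_mul_of_one_lt_right h0 h1
  haveI : (R.map π).Normal := Subgroup.Normal.map inferInstance π hπ
  have hq' := IH _ hlt (G := G ⧸ N)
    (by rw [commutator_def, ← Subgroup.map_top_of_surjective π hπ, ← Subgroup.map_commutator,
      ← commutator_def, hperf])
    (h.of_surjective π hπ) (h2.of_surjective π hπ) (R.map π)
    (CfsgLib.Coprime.isSolvable_map π hR) rfl
  have hRN : ⁅(⊤ : Subgroup G), R⁆ ≤ N := by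
    rw [Subgroup.commutator_le]
    intro g _ r hr
    have hc := Subgroup.mem_center_iff.1 (hq' (Subgroup.mem_map_of_mem π hr)) (π g)
    rw [← QuotientGroup.eq_one_iff (N := N)]
    show π ⁅g, r⁆ = 1
    rw [map_commutatorElement, commutatorElement_eq_one_iff_mul_comm]
    exact hc
  have h3 : ⁅(⊤ : Subgroup G), R⁆ = ⊥ := by
    refine CfsgLib.Layer.commutator_eq_bot_of_perfect
      (by rw [← commutator_def, hperf]) (eq_bot_iff.2 ?_)
    rw [Subgroup.commutator_le]
    intro a ha g _
    rw [Subgroup.mem_bot, commutatorElement_eq_one_iff_mul_comm]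
    exact (Subgroup.mem_center_iff.1 (hNc (hRN ha)) g).symm
  intro r hr
  rw [Subgroup.mem_center_iff]
  intro g
  exact commutatorElement_eq_one_iff_mul_comm.1
    (Subgroup.mem_bot.1 (h3 ▸ Subgroup.commutator_mem_commutator (Subgroup.mem_top g) hr))

end CfsgLib.SuzukiCyclic
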