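import Cfsg.Agent.Lib.SuzukiCyclic.Defs
import Cfsg.Agent.Lib.OddConseq.MetacyclicSylow
import Cfsg.Agent.S0201
import Mathlib.GroupTheory.SpecificGroups.ZGroup

/-!
The Sylow 2-subgroup of a simple group whose odd Sylow subgroups are cyclic and whose Sylow
2-subgroup has a cyclic subgroup of index at most two: Klein, dihedral or quasi-dihedral.
-/

set_option autoImplicit false
set_option linter.style.haveILetI false

universe u

namespace CfsgLib.SuzukiCyclic

open Cfsg Cfsg.FusionSystem CfsgLib.Fusion CfsgLib.OddConseq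

variable {G : Type u} [Group G] [Finite G]

/-- A non-abelian simple group is not solvable. -/
theorem not_solvable_of_simple [IsSimpleGroup G] (hna : ¬ IsMulCommutative G) :
    ¬ Group.IsSolvable G := fun h =>
  hna ⟨⟨fun a b => (IsSimpleGroup.comm_iff_isSolvable.mpr h) a b⟩⟩

theorem not_hasNormalPComplement [IsSimpleGroup G] (hna : ¬ IsMulCommutative G) (h : OddCyclic G)
    (S : Sylow 2 G) (K : Subgroup G) (hK : K.Normal) (hc : K.IsComplement' (S : Subgroup G)) :
    False := by
  haveI : Fact (Nat.Prime 2) := ⟨Nat.prime_two⟩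
  rcases hK.eq_bot_or_eq_top with rfl | rfl
  · have hS : (S : Subgroup G) = ⊤ := Subgroup.isComplement'_bot_left.mp hc
    haveI : IsPGroup 2 G := (hS ▸ S.isPGroup').of_equiv Subgroup.topEquiv
    haveI := ‹IsPGroup 2 G›.isNilpotent
    exact not_solvable_of_simple hna inferInstance
  · have hS : (S : Subgroup G) = ⊥ := Subgroup.isComplement'_top_left.mp hc
    haveI : IsZGroup G := ⟨fun p hp P => by
      rcases eq_or_ne p 2 with rfl | h2
      · haveI : Subsingleton (P : Subgroup G) := by
          have e : Nat.card (P : Subgroup G) = Nat.card (S : Subgroup G) := by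
            rw [P.card_eq_multiplicity, S.card_eq_multiplicity]
          rw [hS, Subgroup.card_bot] at e
          exact (Nat.card_eq_one_iff_unique.mp e).1
        exact isCyclic_of_subsingleton
      · exact h p hp h2 P⟩
    exact not_solvable_of_simple hna inferInstance

/-- The Sylow 2-subgroups: Klein, dihedral of order at least 8 or quasi-dihedral. -/
theorem two_shape [IsSimpleGroup G] (hna : ¬ IsMulCommutative G) (h : OddCyclic G)
    (h2 : TwoCyclicIndex G) (S : Sylow 2 G) :
    IsKleinFour ↥(S : Subgroup G) ∨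
      (∃ m, 4 ≤ m ∧ Nonempty (↥(S : Subgroup G) ≃* DihedralGroup m)) ∨
      Cfsg.IsQuasiDihedral ↥(S : Subgroup G) := by
  haveI : Fact (Nat.Prime 2) := ⟨Nat.prime_two⟩
  obtain ⟨N, hNc, hNi⟩ := h2 S
  by_cases hcyc : IsCyclic ↥(S : Subgroup G)
  · obtain ⟨K, hK, hc⟩ := (Transfer.hasNormalPComplement_iff_forall_sylow S).mp
      (ZStar.hasNormalPComplement_of_cyclic S hcyc)
    exact (not_hasNormalPComplement hna h S K hK hc).elim
  have hNi2 : N.index = 2 := by
    rcases (Nat.dvd_prime Nat.prime_two).mp hNi with e | e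
    · rw [Subgroup.index_eq_one] at e
      subst e
      exact absurd ((Subgroup.topEquiv : (⊤ : Subgroup ↥(S : Subgroup G)) ≃* _).isCyclic.mp hNc) hcyc
    · exact e
  haveI hN : N.Normal := Subgroup.normal_of_index_eq_two hNi2
  have hQ : IsCyclic (↥(S : Subgroup G) ⧸ N) := isCyclic_of_prime_card (p := 2) (by
    rw [← Subgroup.index_eq_card, hNi2])
  have hm : Cfsg.IsMetacyclic ↥(S : Subgroup G) := ⟨N, hN, hNc, hQ⟩
  obtain ⟨a, ha⟩ := (IsPGroup.iff_card.mp S.isPGroup')
  by_cases hd : ∃ m : ℕ, Nonempty (↥(S : Subgroup G) ≃* DihedralGroup m)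
  · obtain ⟨m, ⟨e⟩⟩ := hd
    have hcard := Nat.card_congr e.toEquiv
    rw [DihedralGroup.nat_card, ha] at hcard
    obtain ⟨j, -, rfl⟩ := (Nat.dvd_prime_pow Nat.prime_two).mp (Dvd.intro_left 2 hcard.symm)
    rcases j with _ | _ | j
    · exact absurd (isCyclic_of_prime_card (p := 2) (by
        rw [Nat.card_congr e.toEquiv, DihedralGroup.nat_card]; rfl)) hcyc
    · haveI : IsKleinFour (DihedralGroup (2 ^ (0 + 1))) := inferInstanceAs (IsKleinFour (DihedralGroup 2))
      exact Or.inl ⟨(Nat.card_congr e.toEquiv).trans IsKleinFour.card_four,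
        (Monoid.exponent_eq_of_mulEquiv e).trans IsKleinFour.exponent_two⟩
    · refine Or.inr (Or.inl ⟨_, ?_, ⟨e⟩⟩)
      calc 4 = 2 ^ 2 := rfl
        _ ≤ 2 ^ (j + 1 + 1) := Nat.pow_le_pow_right (by norm_num) (by omega)
  by_cases hsd : Cfsg.IsQuasiDihedral ↥(S : Subgroup G)
  · exact Or.inr (Or.inr hsd)
  have hq : ¬ ∃ m : ℕ, Nonempty (↥(S : Subgroup G) ≃* QuaternionGroup m) := by
    rintro ⟨m, ⟨e⟩⟩
    rcases Nat.eq_zero_or_pos m with rfl | hpos
    · haveI : Infinite (QuaternionGroup 0) :=
        Infinite.of_injective (fun i : ℤ => (QuaternionGroup.a i : QuaternionGroup 0))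
          fun i j hij => QuaternionGroup.a.inj hij
      exact (Infinite.not_finite (α := QuaternionGroup 0)) (Finite.of_equiv _ e.toEquiv)
    haveI : NeZero m := ⟨hpos.ne'⟩
    have hcard := Nat.card_congr e.toEquiv
    rw [ha, Nat.card_eq_fintype_card (α := QuaternionGroup m), QuaternionGroup.card] at hcard
    obtain ⟨j, -, rfl⟩ := (Nat.dvd_prime_pow Nat.prime_two).mp (Dvd.intro_left 4 hcard.symm)
    rcases j with _ | j
    · haveI := QuaternionGroup.quaternionGroup_one_isCyclic
      exact hcyc (e.isCyclic.mpr (inferInstanceAs (IsCyclic (QuaternionGroup 1))))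
    have hO : ∀ K : Subgroup G, K.Normal → Odd (Nat.card K) → K = ⊥ := by
      intro K hK hodd
      rcases hK.eq_bot_or_eq_top with hKb | rfl
      · exact hKb
      exfalso
      have hdvd : 2 ∣ Nat.card G := by
        refine dvd_trans ?_ (Subgroup.card_subgroup_dvd_card (S : Subgroup G))
        rw [ha, hcard]; exact ⟨2 * 2 ^ (j + 1), by ring⟩
      rw [Subgroup.card_top] at hodd
      exact (Nat.not_even_iff_odd.mpr hodd) (even_iff_two_dvd.mpr hdvd)
    have hz := Cfsg.Agent.S0201.result S j e hO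
    rcases (inferInstance : (Subgroup.center G).Normal).eq_bot_or_eq_top with hc | hc
    · rw [hc, Subgroup.card_bot] at hz
      omega
    · exact hna ⟨⟨fun a b => Subgroup.mem_center_iff.mp (hc ▸ Subgroup.mem_top b) a⟩⟩
  have hclosed : (groupFusionSystem (S : Subgroup G)).StronglyClosed (S : Subgroup G) :=
    ⟨le_rfl, fun P _ φ hφ x => hφ.2.1 x⟩
  have hnorm := isNormal_of_metacyclic_two S.2 (isSaturated_group S) hclosed hm hd hq hsd
  by_cases hA : IsPGroup 2 (MulAut ↥(S : Subgroup G))
  · obtain ⟨K, hK, hc⟩ := exists_complement_of_isNormal_self S hnorm hA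
    exact (not_hasNormalPComplement hna h S K hK hc).elim
  rcases homocyclic_or_quaternion_of_not_isPGroup S.2 hm hA with ⟨n, hn, ⟨e⟩⟩ | he
  · obtain ⟨g, hg⟩ := IsCyclic.exists_ofOrder_eq_natCard (α := N)
    have hgo : orderOf g ∣ 2 ^ n := by
      rw [← Subgroup.orderOf_coe, ← MulEquiv.orderOf_eq e]
      refine orderOf_dvd_of_pow_eq_one (Multiplicative.toAdd.injective ?_)
      funext i
      rw [toAdd_pow, Pi.smul_apply, nsmul_eq_mul, toAdd_one, Pi.zero_apply]
      simp
    have hle := Nat.le_of_dvd (by positivity) hgo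
    have hS := N.card_mul_index
    rw [hNi2, ← hg] at hS
    have hcard : Nat.card ↥(S : Subgroup G) = 2 ^ n * 2 ^ n := by
      rw [Nat.card_congr e.toEquiv, Nat.card_congr Multiplicative.toAdd, Nat.card_fun, Nat.card_zmod,
        Nat.card_fin, pow_two]
    have h3 : 2 ^ n ≤ 2 := Nat.le_of_mul_le_mul_left (a := 2 ^ n)
      (by rw [← hcard, ← hS]; exact Nat.mul_le_mul_right 2 hle) (by positivity)
    obtain rfl : n = 1 := by
      by_contra hne
      have := Nat.pow_le_pow_right (show 1 ≤ 2 by norm_num) (show 2 ≤ n by omega)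
      omega
    refine Or.inl ⟨by rw [hcard]; norm_num, ?_⟩
    refine (Nat.dvd_prime Nat.prime_two).mp (Monoid.exponent_dvd_of_forall_pow_eq_one fun x => ?_)
      |>.resolve_left fun he1 => ?_
    · apply e.injective
      apply Multiplicative.toAdd.injective
      funext i
      have h2' : ∀ z : ZMod (2 ^ 1), z + z = 0 := by decide +revert
      simp [pow_two, h2']
    · have he1 : Subsingleton ↥(S : Subgroup G) := Monoid.exp_eq_one_iff.mp he1
      have := Nat.card_eq_one_iff_unique.mpr ⟨he1, ⟨(1 : ↥(S : Subgroup G))⟩⟩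
      rw [hcard] at this
      norm_num at this
  · exact absurd ⟨2, he⟩ hq

end CfsgLib.SuzukiCyclic
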