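import Cfsg.Agent.Lib.SuzukiCyclic.Split
import Cfsg.Agent.Lib.SuzukiCyclic.TwoShape
import Cfsg.Agent.Lib.SuzukiCyclic.Klein

/-!
Induction: the shape of a nonsolvable group with cyclic odd Sylow subgroups and a cyclic subgroup of
index at most two in a Sylow 2-subgroup, given the dihedral and semidihedral simple cases.
-/

set_option autoImplicit false
set_option linter.style.haveILetI false

universe u

namespace CfsgLib.SuzukiCyclic

/-- The dihedral simple case, as a hypothesis. -/
def DihedralCase : Prop :=
  ∀ (T : Type u) [Group T] [Finite T] [IsSimpleGroup T], ¬ IsMulCommutative T → OddCyclic T →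
    SmallerShape T → ∀ (S : Sylow 2 T) (m : ℕ), 4 ≤ m →
      Nonempty (↥(S : Subgroup T) ≃* DihedralGroup m) → SimpleConcl T

/-- The semidihedral simple case, as a hypothesis. -/
def SemidihedralCase : Prop :=
  ∀ (T : Type u) [Group T] [Finite T] [IsSimpleGroup T], ¬ IsMulCommutative T → OddCyclic T →
    SmallerShape T → ∀ S : Sylow 2 T, Cfsg.IsQuasiDihedral ↥(S : Subgroup T) → False

variable {G : Type u} [Group G] [Finite G]

/-- The shape, given the two simple cases. -/
theorem shape_of_cases (hC : DihedralCase.{u}) (hE : SemidihedralCase.{u})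
    (hns : ¬ Group.IsSolvable G) (h : OddCyclic G) (h2 : TwoCyclicIndex G) : Shape G := by
  obtain ⟨n, hn⟩ : ∃ n, Nat.card G = n := ⟨_, rfl⟩
  induction n using Nat.strong_induction_on generalizing G with
  | _ n IH =>
  refine shape_of_simpleSections hns h h2 ?_
  intro T _ _ _ hna hT hT2 hle
  haveI : Fact (Nat.Prime 2) := ⟨Nat.prime_two⟩
  have ih : SmallerShape T := fun H hH hHns => IH (Nat.card H)
    (lt_of_lt_of_le (lt_of_le_of_ne (Subgroup.card_le_card_group H)
      fun e => hH (Subgroup.eq_top_of_card_eq H e)) (hn ▸ hle))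
    hHns (hT.subgroup H) (hT2.subgroup H) rfl
  obtain ⟨S⟩ : Nonempty (Sylow 2 T) := inferInstance
  rcases two_shape hna hT hT2 S with hk | ⟨m, hm, hd⟩ | hq
  · exact simple_klein hna hT ih S hk
  · exact hC T hna hT ih S m hm hd
  · exact (hE T hna hT ih S hq).elim

end CfsgLib.SuzukiCyclic
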