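import Mathlib.Tactic
import Mathlib.RingTheory.Coprime.Lemmas

/-!
# The residual configuration: arithmetic

`F`, `E` are the signed degrees of the two exceptional characters, `|G| = 24 o n`.
-/

set_option autoImplicit false

namespace CfsgLib.SuzukiCyclic

/-- Exactly one exceptional character lies in the principal block. -/
theorem false_of_one_block {o n : ℕ} (ho : 3 ≤ o) (hn : 0 < n) (hn2 : Odd n) (hno : n.Coprime o)
    {F E : ℤ} (hFE : 1 + F + E = 0) (heq : (n : ℤ) * (F + 1) = 8 * (o : ℤ) ^ 2 * F)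
    (hdeg : F ^ 2 + E ^ 2 < ((24 * o * n : ℕ) : ℤ)) : False := by
  have hcop : IsCoprime (n : ℤ) (8 * (o : ℤ) ^ 2) := by
    have h : n.Coprime (8 * o ^ 2) :=
      Nat.Coprime.mul_right ((Nat.coprime_two_right.2 hn2).pow_right 3) (hno.pow_right 2)
    have h' : IsCoprime ((n : ℕ) : ℤ) ((8 * o ^ 2 : ℕ) : ℤ) := Nat.isCoprime_iff_coprime.2 h
    simpa using h'
  obtain ⟨p, hp⟩ : (n : ℤ) ∣ F := hcop.dvd_of_dvd_mul_left ⟨F + 1, heq.symm⟩
  have h1 : F + 1 = 8 * (o : ℤ) ^ 2 * p := by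
    refine mul_left_cancel₀ (a := (n : ℤ)) (by exact_mod_cast hn.ne') ?_
    rw [heq, hp]; ring
  have h2 : p * (8 * (o : ℤ) ^ 2 - n) = 1 := by rw [hp] at h1; linear_combination -h1
  have hp2 : p ^ 2 = 1 := by
    rcases Int.eq_one_or_neg_one_of_mul_eq_one h2 with e | e <;> rw [e] <;> norm_num
  have hF2 : F ^ 2 = (n : ℤ) ^ 2 := by rw [hp, mul_pow, hp2, mul_one]
  have hE2 : E ^ 2 = (8 * (o : ℤ) ^ 2) ^ 2 := by
    rw [show E = -(F + 1) by omega, neg_sq, h1, mul_pow, hp2, mul_one]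
  rw [hF2, hE2] at hdeg
  push_cast at hdeg
  nlinarith [sq_nonneg ((n : ℤ) - 8 * (o : ℤ) ^ 2), mul_le_mul_of_nonneg_right
    (show (24 : ℤ) * o ≤ 16 * (o : ℤ) ^ 2 by nlinarith [(show (3 : ℤ) ≤ o by exact_mod_cast ho)])
    (show (0 : ℤ) ≤ n by positivity)]

/-- Both exceptional characters lie in the principal block. -/
theorem false_of_two_block {o n : ℕ} (ho : 3 ≤ o) (hodd : Odd o) (hn : 0 < n) (hn2 : Odd n)
    (hno : n.Coprime o) {F : ℤ}
    (heq : (n : ℤ) * (F - 1) ^ 2 = 8 * (o : ℤ) ^ 2 * (F * (F + 1)))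
    (h1 : (F + 2).natAbs ∣ 24 * o * n) (h2 : (2 * F + 1).natAbs ∣ 24 * o * n) : False := by
  have ho3 : (3 : ℤ) ≤ o := by exact_mod_cast ho
  have hn0 : (n : ℤ) ≠ 0 := by exact_mod_cast hn.ne'
  have ho0 : (o : ℤ) ≠ 0 := by omega
  have hco : IsCoprime (8 * (o : ℤ) ^ 2) (n : ℤ) := by
    have h : n.Coprime (8 * o ^ 2) :=
      Nat.Coprime.mul_right ((Nat.coprime_two_right.2 hn2).pow_right 3) (hno.pow_right 2)
    have h' : IsCoprime ((8 * o ^ 2 : ℕ) : ℤ) ((n : ℕ) : ℤ) := Nat.isCoprime_iff_coprime.2 h.symm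
    simpa using h'
  -- `8 o²` divides `(F - 1)²`
  obtain ⟨q, hq⟩ : 8 * (o : ℤ) ^ 2 ∣ (F - 1) ^ 2 := hco.dvd_of_dvd_mul_left ⟨F * (F + 1), heq⟩
  obtain ⟨r, hr⟩ : (o : ℤ) ∣ F - 1 :=
    (Int.pow_dvd_pow_iff two_ne_zero).1 ⟨8 * q, by rw [hq]; ring⟩
  have hr8 : r ^ 2 = 8 * q := by
    refine mul_left_cancel₀ (a := (o : ℤ) ^ 2) (pow_ne_zero 2 ho0) ?_
    linear_combination hq - congrArg (· ^ 2) hr
  obtain ⟨r', hr'⟩ : 2 ∣ r := Int.prime_two.dvd_of_dvd_pow (n := 2) ⟨4 * q, by rw [hr8]; ring⟩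
  obtain ⟨j, hj⟩ : 2 ∣ r' := Int.prime_two.dvd_of_dvd_pow (n := 2) ⟨q, by
    subst hr'
    linarith [show (2 * r') ^ 2 = 4 * r' ^ 2 by ring]⟩
  subst hr'; subst hj
  -- `F = 1 + 4 o j`
  have hF : F = 1 + 4 * (o : ℤ) * j := by linarith [show (o : ℤ) * (2 * (2 * j)) = 4 * o * j by ring]
  subst hF
  have heq2 : (n : ℤ) * j ^ 2 = (4 * (o : ℤ) * j + 1) * (2 * (o : ℤ) * j + 1) := by
    refine mul_left_cancel₀ (a := 16 * (o : ℤ) ^ 2) (by positivity) ?_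
    linear_combination heq
  have hj1 : j ∣ 1 :=
    ⟨(n : ℤ) * j - 8 * (o : ℤ) ^ 2 * j - 6 * o, by linear_combination -heq2⟩
  rcases Int.isUnit_iff.1 (isUnit_of_dvd_one hj1) with rfl | rfl
  · -- `j = 1`
    have hn' : n = (4 * o + 1) * (2 * o + 1) := by
      have : (n : ℤ) = ((4 * o + 1) * (2 * o + 1) : ℕ) := by push_cast; linear_combination heq2
      exact_mod_cast this
    have ha : (1 + 4 * (o : ℤ) * 1 + 2).natAbs = 4 * o + 3 := by omega
    rw [ha, hn'] at h1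
    have c8 : (4 * o + 3).Coprime 8 := Nat.Coprime.pow_right 3 (Nat.coprime_two_right.2 ⟨2 * o + 1, by ring⟩)
    have cA : (4 * o + 3).Coprime (4 * o + 1) :=
      Nat.isCoprime_iff_coprime.1 ⟨-(2 * (o : ℤ)), 2 * (o : ℤ) + 1, by push_cast; ring⟩
    have cB : (4 * o + 3).Coprime (2 * o + 1) :=
      Nat.isCoprime_iff_coprime.1 ⟨1, -2, by push_cast; ring⟩
    have h3 : 4 * o + 3 ∣ 3 * o := by
      refine c8.dvd_of_dvd_mul_left ((cA.mul_right cB).dvd_of_dvd_mul_right ?_)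
      rwa [show 8 * (3 * o) * ((4 * o + 1) * (2 * o + 1)) = 24 * o * ((4 * o + 1) * (2 * o + 1)) by ring]
    have := Nat.le_of_dvd (by omega) h3
    omega
  · -- `j = -1`
    have ha : (1 + 4 * (o : ℤ) * (-1) + 2).natAbs = 4 * o - 3 := by omega
    have hb : (2 * (1 + 4 * (o : ℤ) * (-1)) + 1).natAbs = 8 * o - 3 := by omega
    obtain ⟨m, rfl⟩ : ∃ m, o = m + 1 := ⟨o - 1, by omega⟩
    have hn' : n = (4 * m + 3) * (2 * m + 1) := by
      have : (n : ℤ) = ((4 * m + 3) * (2 * m + 1) : ℕ) := by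
        push_cast at heq2 ⊢
        linear_combination heq2
      exact_mod_cast this
    rw [ha, show 4 * (m + 1) - 3 = 4 * m + 1 by omega, hn'] at h1
    rw [hb, show 8 * (m + 1) - 3 = 8 * m + 5 by omega, hn'] at h2
    have c8 : (4 * m + 1).Coprime 8 := Nat.Coprime.pow_right 3 (Nat.coprime_two_right.2 ⟨2 * m, by ring⟩)
    have cA : (4 * m + 1).Coprime (4 * m + 3) :=
      Nat.isCoprime_iff_coprime.1 ⟨2 * (m : ℤ) + 1, -(2 * (m : ℤ)), by push_cast; ring⟩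
    have cB : (4 * m + 1).Coprime (2 * m + 1) :=
      Nat.isCoprime_iff_coprime.1 ⟨-1, 2, by push_cast; ring⟩
    have h3 : 4 * m + 1 ∣ 3 * (m + 1) := by
      refine c8.dvd_of_dvd_mul_left ((cA.mul_right cB).dvd_of_dvd_mul_right ?_)
      rwa [show 8 * (3 * (m + 1)) * ((4 * m + 3) * (2 * m + 1)) =
        24 * (m + 1) * ((4 * m + 3) * (2 * m + 1)) by ring]
    have hle := Nat.le_of_dvd (by omega) h3
    obtain ⟨r, hr⟩ := hodd
    obtain rfl : m = 2 := by omega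
    norm_num at h2

end CfsgLib.SuzukiCyclic
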