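import Cfsg.Agent.Lib.SuzukiCyclic.ResidualLocal
import Cfsg.Agent.Lib.Char.Counting
import Cfsg.Agent.Lib.Blocks.Idempotent
import Mathlib.RingTheory.RootsOfUnity.Basic

/-!
# The residual configuration: the two exceptional characters

For `λ : K → ℂˣ` with kernel `U`, `f = Ind_K^G (1 - λ)` is `3` on `D = K \ U`, vanishes at every element
with centraliser of even order, and has norm `3`. Hence `f = 1 + cA A + cB B`.
-/

set_option autoImplicit false
set_option linter.style.haveILetI false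
set_option linter.unusedSectionVars false

universe u

namespace CfsgLib.SuzukiCyclic

open Cfsg CfsgLib CfsgLib.Invol
open scoped ComplexConjugate CfsgLib.Char

namespace ResidualData

variable {G : Type u} [Group G] [Fintype G] (d : ResidualData G)

/-- A linear character of `K` with kernel `U`. -/
theorem exists_hom : ∃ lam : d.K →* ℂˣ, ∀ y : d.K, lam y = 1 ↔ (y : G) ∈ d.U := by
  classical
  haveI hN : (d.U.subgroupOf d.K).Normal := ⟨fun a ha g => by
    rw [show g * a * g⁻¹ = a from Subtype.ext (by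
      rw [Subgroup.coe_mul, Subgroup.coe_mul, (d.K_comm g.2 a.2).eq, Subgroup.coe_inv, mul_inv_cancel_right])]
    exact ha⟩
  have hcard : Nat.card (d.K ⧸ d.U.subgroupOf d.K) = 3 := by
    rw [← Subgroup.index_eq_card]
    have h1 := (d.U.subgroupOf d.K).card_mul_index
    rw [Nat.card_congr (Subgroup.subgroupOfEquivOfLe d.U_le_K).toEquiv, d.card_K, mul_comm 3] at h1
    exact Nat.eq_of_mul_eq_mul_left Nat.card_pos h1
  haveI : Fact (Nat.Prime 3) := ⟨Nat.prime_three⟩
  haveI : IsCyclic (d.K ⧸ d.U.subgroupOf d.K) := isCyclic_of_prime_card hcard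
  letI : CommGroup (d.K ⧸ d.U.subgroupOf d.K) := IsCyclic.commGroup
  haveI : Nontrivial ((d.K ⧸ d.U.subgroupOf d.K) →* ℂˣ) := by
    haveI : Finite ((d.K ⧸ d.U.subgroupOf d.K) →* ℂˣ) :=
      Nat.finite_of_card_ne_zero (by rw [Char.card_hom_units, hcard]; norm_num)
    rw [← Finite.one_lt_card_iff_nontrivial, Char.card_hom_units, hcard]
    norm_num
  obtain ⟨φ, hφ⟩ := exists_ne (1 : (d.K ⧸ d.U.subgroupOf d.K) →* ℂˣ)
  refine ⟨φ.comp (QuotientGroup.mk' (d.U.subgroupOf d.K)), fun y => ?_⟩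
  have hker : φ.ker = ⊥ := by
    haveI : Fact (Nat.card (d.K ⧸ d.U.subgroupOf d.K)).Prime := ⟨hcard ▸ Nat.prime_three⟩
    rcases φ.ker.eq_bot_or_eq_top_of_prime_card with h | h
    · exact h
    · exact absurd (MonoidHom.ext fun z => (MonoidHom.mem_ker.1 (h ▸ Subgroup.mem_top z))) hφ
  rw [MonoidHom.comp_apply, QuotientGroup.mk'_apply, ← MonoidHom.mem_ker, hker, Subgroup.mem_bot,
    QuotientGroup.eq_one_iff, Subgroup.mem_subgroupOf]

/-- The virtual character `1 - λ` of `K`. -/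
noncomputable def theta : d.K → ℂ :=
  (fun _ => (1 : ℂ)) - fun y => ((d.exists_hom.choose y : ℂˣ) : ℂ)

/-- The induced virtual character. -/
noncomputable def exc : G → ℂ := indFun d.K d.theta

theorem theta_U {y : d.K} (hy : (y : G) ∈ d.U) : d.theta y = 0 := by
  show (1 : ℂ) - ((d.exists_hom.choose y : ℂˣ) : ℂ) = 0
  rw [(d.exists_hom.choose_spec y).2 hy, Units.val_one, sub_self]

theorem theta_add_inv {y : d.K} (hy : (y : G) ∉ d.U) : d.theta y + d.theta y⁻¹ = 3 := by
  set lam := d.exists_hom.choose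
  have hspec := d.exists_hom.choose_spec
  have h3 : lam y ^ 3 = 1 := by
    rw [← map_pow, hspec]
    simpa using d.cube_mem y.2
  have hne : (lam y : ℂ) ≠ 1 := fun e => hy ((hspec y).1 (Units.ext e))
  have h3' : (lam y : ℂ) ^ 3 = 1 := by rw [← Units.val_pow_eq_pow_val, h3, Units.val_one]
  have hinv : ((lam y⁻¹ : ℂˣ) : ℂ) = (lam y : ℂ) ^ 2 := by
    rw [map_inv, show (lam y)⁻¹ = lam y ^ 2 from inv_eq_of_mul_eq_one_right (by rw [← pow_succ', h3]),
      Units.val_pow_eq_pow_val]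
  have h0 : (lam y : ℂ) ^ 2 + (lam y : ℂ) + 1 = 0 := by
    have h1 : ((lam y : ℂ) - 1) * ((lam y : ℂ) ^ 2 + (lam y : ℂ) + 1) = 0 := by
      rw [show ((lam y : ℂ) - 1) * ((lam y : ℂ) ^ 2 + (lam y : ℂ) + 1) = (lam y : ℂ) ^ 3 - 1 by ring, h3',
        sub_self]
    exact (mul_eq_zero.1 h1).resolve_left (sub_ne_zero.2 hne)
  show (1 : ℂ) - (lam y : ℂ) + (1 - ((lam y⁻¹ : ℂˣ) : ℂ)) = 3
  rw [hinv]
  linear_combination -h0

theorem isGeneralized_exc : IsGeneralizedCharacter G d.exc :=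
  Char.isGeneralized_indFun d.K (Char.isGeneralized_sub Char.isGeneralized_one
    (Char.isGeneralized_of_isCharacter (Char.isCharacter_monoidHom d.exists_hom.choose)))

/-- `f` vanishes at the elements commuting with an involution. -/
theorem exc_eq_zero {y s : G} (hs : orderOf s = 2) (hc : Commute s y) : d.exc y = 0 := by
  classical
  rw [exc, indFun, Finset.sum_eq_zero, mul_zero]
  intro x _
  by_cases h : x⁻¹ * y * x ∈ d.K
  · rw [Char.extendByZero_mem d.K d.theta h]
    by_contra hne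
    have hU : x⁻¹ * y * x ∉ d.U := fun hU => hne (d.theta_U hU)
    have hc' : Commute (x⁻¹ * s * x) (x⁻¹ * y * x) := by simpa using Commute.conj hc x⁻¹
    have hK := d.cent_D h hU hc'
    have h2 : orderOf (x⁻¹ * s * x) = 2 := by simpa using conj_orderOf_two hs x⁻¹
    have := d.odd_order_K hK
    rw [h2] at this
    exact Nat.not_even_iff_odd.2 this even_two
  · exact Char.extendByZero_notMem d.K d.theta h

theorem exc_even {y : G} (hy : 2 ∣ orderOf y) : d.exc y = 0 :=
  d.exc_eq_zero (orderOf_pow_orderOf_div (orderOf_pos y).ne' hy) ((Commute.refl y).pow_left _)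

theorem exc_U {y : G} (hy : y ∈ d.U) : d.exc y = 0 := d.exc_eq_zero d.order_t (d.t_U y hy)

/-- `f = 3` on `D`. -/
theorem exc_D {y : d.K} (hy : (y : G) ∉ d.U) : d.exc y = 3 := by
  classical
  have hyi : ((y⁻¹ : d.K) : G) ∉ d.U := by simpa using hy
  have hj' : d.j⁻¹ = d.j := inv_eq_of_mul_eq_one_right d.j_sq
  have hval : ∀ x : G, extendByZero d.K d.theta (x⁻¹ * y * x) =
      (if x ∈ d.K then d.theta y else 0) + (if d.j * x ∈ d.K then d.theta y⁻¹ else 0) := by
    intro x
    by_cases h1 : x ∈ d.K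
    · have h2 : d.j * x ∉ d.K := fun h => d.j_notMem_K (by simpa using mul_mem h (inv_mem h1))
      rw [if_pos h1, if_neg h2, add_zero, mul_assoc, (d.K_comm y.2 h1).eq, inv_mul_cancel_left,
        Char.extendByZero_coe]
    rw [if_neg h1, zero_add]
    by_cases h2 : d.j * x ∈ d.K
    · have e : x⁻¹ * (y : G) * x = ((y⁻¹ : d.K) : G) := by
        have h3 : (d.j * x)⁻¹ * (d.j * y * d.j⁻¹) * (d.j * x) = x⁻¹ * y * x := by group
        rw [← h3, d.j_K y.2, mul_assoc, (d.K_comm (inv_mem y.2) h2).eq, inv_mul_cancel_left, Subgroup.coe_inv]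
      rw [if_pos h2, e, Char.extendByZero_coe]
    rw [if_neg h2]
    by_cases h3 : x⁻¹ * (y : G) * x ∈ d.K
    · rw [Char.extendByZero_mem d.K d.theta h3]
      by_cases h4 : x⁻¹ * (y : G) * x ∈ d.U
      · exact d.theta_U h4
      exfalso
      rcases d.ti (g := x⁻¹) y.2 hy (by rwa [inv_inv]) (by rwa [inv_inv]) with h | h
      · exact h1 (by simpa using inv_mem h)
      · refine h2 ?_
        have h5 := d.j_K h
        rw [show d.j * (d.j * x⁻¹) * d.j⁻¹ = (d.j * d.j) * (x⁻¹ * d.j⁻¹) by group, d.j_sq, one_mul] at h5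
        have h6 : d.j * x = (x⁻¹ * d.j⁻¹)⁻¹ := by group
        rw [h6, h5, inv_inv]
        exact h
    · exact Char.extendByZero_notMem d.K d.theta h3
  have hcard : (Finset.univ.filter fun x : G => x ∈ d.K).card = Nat.card d.K := by
    rw [Nat.card_eq_fintype_card, Fintype.card_subtype]
  rw [exc, indFun]
  simp only [hval]
  have hB : ∑ x : G, (if d.j * x ∈ d.K then d.theta y⁻¹ else 0) =
      ∑ x : G, (if x ∈ d.K then d.theta y⁻¹ else 0) :=
    Equiv.sum_comp (Equiv.mulLeft d.j) (fun x => if x ∈ d.K then d.theta y⁻¹ else 0)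
  rw [Finset.sum_add_distrib, hB, ← Finset.sum_filter, ← Finset.sum_filter, Finset.sum_const, Finset.sum_const, nsmul_eq_mul,
    nsmul_eq_mul, hcard, ← mul_add, inv_mul_cancel_left₀ (Nat.cast_ne_zero.mpr Nat.card_pos.ne'),
    d.theta_add_inv hy]

theorem sum_theta [Fintype d.K] : ∑ y : d.K, d.theta y = (Nat.card d.K : ℂ) := by
  set lam := d.exists_hom.choose
  have hne : (Units.coeHom ℂ).comp lam ≠ 1 := by
    intro e
    have := DFunLike.congr_fun e (⟨d.k, d.k_mem_K⟩ : d.K)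
    refine d.k_notMem_U ((d.exists_hom.choose_spec ⟨d.k, d.k_mem_K⟩).1 ?_)
    show lam ⟨d.k, d.k_mem_K⟩ = 1
    exact Units.ext (by simpa using this)
  have h0 := sum_hom_units_eq_zero _ hne
  have h1 : ∑ y : d.K, ((lam y : ℂˣ) : ℂ) = 0 := by simpa using h0
  rw [show d.theta = fun y => 1 - ((lam y : ℂˣ) : ℂ) from rfl, Finset.sum_sub_distrib, h1, sub_zero,
    Finset.sum_const, nsmul_eq_mul, mul_one, Finset.card_univ, Nat.card_eq_fintype_card]

theorem classInner_exc [Fintype d.K] {g : G → ℂ} (hg : IsClassFunction G g) :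
    classInner d.exc g = (Nat.card d.K : ℂ)⁻¹ * ∑ y : d.K, d.theta y * conj (g y) := by
  rw [exc, Char.frobenius_reciprocity d.K d.theta hg, classInner]

theorem exc_one : classInner d.exc (Blocks.trivIrr G : G → ℂ) = 1 := by
  classical
  rw [d.classInner_exc (Char.isClassFunction_irr _)]
  simp only [Blocks.trivIrr, map_one, mul_one]
  rw [d.sum_theta, inv_mul_cancel₀ (Nat.cast_ne_zero.mpr Nat.card_pos.ne')]

theorem exc_norm : classInner d.exc d.exc = 3 := by
  classical
  rw [d.classInner_exc (Char.isClassFunction_of_isGeneralized d.isGeneralized_exc)]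
  have e : ∀ y : d.K, d.theta y * conj (d.exc y) = d.theta y * 3 := by
    intro y
    by_cases hy : (y : G) ∈ d.U
    · rw [d.theta_U hy, zero_mul, zero_mul]
    · rw [d.exc_D hy, map_ofNat]
  rw [Finset.sum_congr rfl fun y _ => e y, ← Finset.sum_mul, d.sum_theta, ← mul_assoc,
    inv_mul_cancel₀ (Nat.cast_ne_zero.mpr Nat.card_pos.ne'), one_mul]

/-- The class algebra constant of `t, t, x` for `x` in `D`. -/
theorem class_sum {n : ℕ} (hn : Nat.card G = 24 * Nat.card d.U * n) {x : d.K} (hx : (x : G) ∉ d.U) :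
    (n : ℂ) * ∑ χ : IrrCharacter G,
      (χ : G → ℂ) d.t * (χ : G → ℂ) d.t * conj ((χ : G → ℂ) x) / (χ : G → ℂ) 1 =
      8 * (Nat.card d.U : ℂ) ^ 2 := by
  have hidx : (Subgroup.centralizer ({d.t} : Set G)).index = 3 * n := by
    have h := (Subgroup.centralizer ({d.t} : Set G)).card_mul_index
    rw [d.card_cent_t, hn] at h
    exact Nat.eq_of_mul_eq_mul_left (by have := Nat.card_pos (α := d.U); omega)
      (h.trans (show _ = 8 * Nat.card d.U * (3 * n) by ring))
  have h := Char.class_mult d.t d.t (x : G)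
  rw [d.count_pairs x.2 hx, hidx, hn] at h
  have ho : (Nat.card d.U : ℂ) ≠ 0 := Nat.cast_ne_zero.mpr Nat.card_pos.ne'
  have hn0 : (n : ℂ) ≠ 0 := Nat.cast_ne_zero.mpr fun e => by
    rw [e, mul_zero] at hn; exact Nat.card_pos.ne' hn
  set S := ∑ χ : IrrCharacter G,
    (χ : G → ℂ) d.t * (χ : G → ℂ) d.t * conj ((χ : G → ℂ) x) / (χ : G → ℂ) 1
  push_cast at h
  field_simp at h
  linear_combination -(h / 3)

theorem weighted_sum {n : ℕ} (hn : Nat.card G = 24 * Nat.card d.U * n) :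
    (n : ℂ) * ∑ χ : IrrCharacter G,
      classInner d.exc (χ : G → ℂ) * ((χ : G → ℂ) d.t * (χ : G → ℂ) d.t / (χ : G → ℂ) 1) =
      8 * (Nat.card d.U : ℂ) ^ 2 := by
  classical
  have hk : (Nat.card d.K : ℂ) ≠ 0 := Nat.cast_ne_zero.mpr Nat.card_pos.ne'
  have key : ∀ y : d.K, d.theta y * ((n : ℂ) * ∑ χ : IrrCharacter G,
      (χ : G → ℂ) d.t * (χ : G → ℂ) d.t * conj ((χ : G → ℂ) y) / (χ : G → ℂ) 1) =
      d.theta y * (8 * (Nat.card d.U : ℂ) ^ 2) := by
    intro y
    by_cases hy : (y : G) ∈ d.U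
    · rw [d.theta_U hy, zero_mul, zero_mul]
    · rw [d.class_sum hn hy]
  have h := Finset.sum_congr (rfl : (Finset.univ : Finset d.K) = Finset.univ) fun y _ => key y
  rw [← Finset.sum_mul, d.sum_theta] at h
  refine mul_left_cancel₀ hk ?_
  rw [← h]
  simp only [Finset.mul_sum]
  rw [Finset.sum_comm]
  refine Finset.sum_congr rfl fun χ _ => ?_
  rw [d.classInner_exc (Char.isClassFunction_irr χ)]
  simp only [Finset.mul_sum, Finset.sum_mul]
  refine Finset.sum_congr rfl fun y _ => ?_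
  field_simp

/-- The two exceptional characters and their equations. -/
theorem exists_pair {n : ℕ} (hn : Nat.card G = 24 * Nat.card d.U * n) :
    ∃ (A B : IrrCharacter G) (cA cB F E : ℤ), A ≠ Blocks.trivIrr G ∧ B ≠ Blocks.trivIrr G ∧ A ≠ B ∧
      (cA = 1 ∨ cA = -1) ∧ (cB = 1 ∨ cB = -1) ∧
      (∀ g : G, 2 ∣ orderOf g → 1 + (cA : ℂ) * (A : G → ℂ) g + (cB : ℂ) * (B : G → ℂ) g = 0) ∧
      (cA : ℂ) * (A : G → ℂ) 1 = F ∧ (cB : ℂ) * (B : G → ℂ) 1 = E ∧ 1 + F + E = 0 ∧ F ≠ 0 ∧ E ≠ 0 ∧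
      F ^ 2 + E ^ 2 < (Nat.card G : ℤ) ∧
      ∀ Y Z : ℤ, (cA : ℂ) * (A : G → ℂ) d.t = Y → (cB : ℂ) * (B : G → ℂ) d.t = Z →
        (n : ℤ) * (F * E + Y ^ 2 * E + Z ^ 2 * F) = 8 * (Nat.card d.U : ℤ) ^ 2 * (F * E) := by
  classical
  choose c hc using fun χ : IrrCharacter G =>
    Char.exists_int_classInner d.isGeneralized_exc (Char.isGeneralized_of_isIrr χ.2)
  have hexp : d.exc = ∑ χ : IrrCharacter G, (c χ : ℂ) • (χ : G → ℂ) := by
    conv_lhs => rw [Char.classFunction_expansion (Char.isClassFunction_of_isGeneralized d.isGeneralized_exc)]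
    exact Finset.sum_congr rfl fun χ _ => by rw [hc]
  have hc1 : c (Blocks.trivIrr G) = 1 := by
    have h := d.exc_one
    rw [hc] at h
    exact_mod_cast h
  have hsq : ∑ χ : IrrCharacter G, c χ ^ 2 = 3 := by
    have h := d.exc_norm
    rw [hexp, Char.sum_sq_coeff] at h
    exact_mod_cast h
  set s := (Finset.univ : Finset (IrrCharacter G)).erase (Blocks.trivIrr G) with hs
  have hsum : ∑ χ ∈ s, c χ ^ 2 = 2 := by
    have h := Finset.add_sum_erase Finset.univ (fun χ => c χ ^ 2) (Finset.mem_univ (Blocks.trivIrr G))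
    rw [hsq, hc1, ← hs, one_pow] at h
    omega
  have hle : ∀ χ ∈ s, c χ = 0 ∨ c χ = 1 ∨ c χ = -1 := by
    intro χ hχ
    have h2 := (Finset.single_le_sum (fun i _ => sq_nonneg (c i)) hχ).trans hsum.le
    have : c χ ≤ 1 := by nlinarith
    have : -1 ≤ c χ := by nlinarith
    omega
  have hsq1 : ∀ χ ∈ s.filter (fun χ => c χ ≠ 0), c χ ^ 2 = 1 := by
    intro χ hχ
    obtain ⟨h1, h2⟩ := Finset.mem_filter.1 hχ
    rcases hle χ h1 with e | e | e
    · exact absurd e h2
    all_goals rw [e]; norm_num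
  have hcardN : (s.filter fun χ => c χ ≠ 0).card = 2 := by
    have h : ∑ χ ∈ s.filter (fun χ => c χ ≠ 0), c χ ^ 2 = 2 := by
      rw [← hsum]
      exact Finset.sum_subset (Finset.filter_subset _ _) fun χ h1 h2 => by
        rw [Finset.mem_filter, not_and, not_not] at h2
        rw [h2 h1]; norm_num
    rw [Finset.sum_congr rfl hsq1, Finset.sum_const, nsmul_eq_mul, mul_one] at h
    exact_mod_cast h
  obtain ⟨A, B, hAB, hN⟩ := Finset.card_eq_two.1 hcardN
  have hA : A ∈ s ∧ c A ≠ 0 :=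
    Finset.mem_filter.1 (hN ▸ Finset.mem_insert_self _ _ : A ∈ s.filter fun χ => c χ ≠ 0)
  have hB : B ∈ s ∧ c B ≠ 0 :=
    Finset.mem_filter.1
      (hN ▸ Finset.mem_insert_of_mem (Finset.mem_singleton_self _) : B ∈ s.filter fun χ => c χ ≠ 0)
  have hA1 : A ≠ Blocks.trivIrr G := (Finset.mem_erase.1 hA.1).1
  have hB1 : B ≠ Blocks.trivIrr G := (Finset.mem_erase.1 hB.1).1
  have hcA : c A = 1 ∨ c A = -1 := (hle A hA.1).resolve_left hA.2
  have hcB : c B = 1 ∨ c B = -1 := (hle B hB.1).resolve_left hB.2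
  have hsub : ∀ (φ : IrrCharacter G → ℂ),
      ∑ χ : IrrCharacter G, (c χ : ℂ) * φ χ = φ (Blocks.trivIrr G) + c A * φ A + c B * φ B := by
    intro φ
    rw [← Finset.sum_subset (Finset.subset_univ {Blocks.trivIrr G, A, B})]
    · rw [Finset.sum_insert (by
        rw [Finset.mem_insert, Finset.mem_singleton, not_or]; exact ⟨hA1.symm, hB1.symm⟩),
        Finset.sum_pair hAB, hc1, Int.cast_one, one_mul, add_assoc]
    · intro χ _ hχ
      rw [Finset.mem_insert, Finset.mem_insert, Finset.mem_singleton, not_or, not_or] at hχ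
      have : c χ = 0 := by
        by_contra h0
        have hm : χ ∈ s.filter (fun χ => c χ ≠ 0) :=
          Finset.mem_filter.2 ⟨Finset.mem_erase.2 ⟨hχ.1, Finset.mem_univ _⟩, h0⟩
        rw [hN, Finset.mem_insert, Finset.mem_singleton] at hm
        exact hm.elim hχ.2.1 hχ.2.2
      rw [this, Int.cast_zero, zero_mul]
  have htriv : ∀ g : G, (Blocks.trivIrr G : G → ℂ) g = 1 := fun _ => rfl
  have happ : ∀ g : G, d.exc g = 1 + c A * (A : G → ℂ) g + c B * (B : G → ℂ) g := by
    intro g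
    have h := hsub (fun χ => (χ : G → ℂ) g)
    rw [htriv] at h
    rw [← h, hexp, Finset.sum_apply]
    simp
  obtain ⟨a, ha0, ha⟩ := Char.exists_nat_degree_irr A.2
  obtain ⟨b, hb0, hb⟩ := Char.exists_nat_degree_irr B.2
  have hFE : (1 : ℂ) + c A * a + c B * b = 0 := by rw [← ha, ← hb, ← happ, d.exc_U (one_mem _)]
  refine ⟨A, B, c A, c B, c A * a, c B * b, hA1, hB1, hAB, hcA, hcB,
    fun g hg => by rw [← happ, d.exc_even hg], by rw [ha]; push_cast; rfl, by rw [hb]; push_cast; rfl,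
    by exact_mod_cast hFE, mul_ne_zero hA.2 (by exact_mod_cast ha0.ne'),
    mul_ne_zero hB.2 (by exact_mod_cast hb0.ne'), ?_, ?_⟩
  · have h := Char.sum_sq_degree (G := G)
    choose deg hdeg0 hdeg using fun χ : IrrCharacter G => Char.exists_nat_degree_irr χ.2
    simp only [hdeg] at h
    have h' : ∑ χ : IrrCharacter G, (deg χ : ℤ) ^ 2 = (Nat.card G : ℤ) := by exact_mod_cast h
    have e1 : deg (Blocks.trivIrr G) = 1 := by
      have := hdeg (Blocks.trivIrr G)
      rw [htriv] at this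
      exact_mod_cast this.symm
    have ea : deg A = a := Nat.cast_injective (R := ℂ) ((hdeg A).symm.trans ha)
    have eb : deg B = b := Nat.cast_injective (R := ℂ) ((hdeg B).symm.trans hb)
    have hle' := Finset.sum_le_sum_of_subset_of_nonneg (Finset.subset_univ {Blocks.trivIrr G, A, B})
      (f := fun χ : IrrCharacter G => (deg χ : ℤ) ^ 2) fun i _ _ => sq_nonneg _
    rw [Finset.sum_insert (by
        rw [Finset.mem_insert, Finset.mem_singleton, not_or]; exact ⟨hA1.symm, hB1.symm⟩),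
      Finset.sum_pair hAB, e1, ea, eb, h'] at hle'
    have q1 : (c A : ℤ) ^ 2 = 1 := by rcases hcA with e | e <;> rw [e] <;> norm_num
    have q2 : (c B : ℤ) ^ 2 = 1 := by rcases hcB with e | e <;> rw [e] <;> norm_num
    rw [mul_pow, mul_pow, q1, q2, one_mul, one_mul]
    push_cast at hle'
    linarith
  · intro Y Z hY hZ
    have h := d.weighted_sum hn
    simp only [hc] at h
    rw [hsub (fun χ => (χ : G → ℂ) d.t * (χ : G → ℂ) d.t / (χ : G → ℂ) 1)] at h
    simp only [htriv] at h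
    rw [ha, hb] at h
    have ha' : (a : ℂ) ≠ 0 := Nat.cast_ne_zero.2 ha0.ne'
    have hb' : (b : ℂ) ≠ 0 := Nat.cast_ne_zero.2 hb0.ne'
    apply Int.cast_injective (α := ℂ)
    push_cast
    rw [← hY, ← hZ]
    field_simp at h
    linear_combination (c A * c B : ℂ) * h

end ResidualData

end CfsgLib.SuzukiCyclic
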