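import Cfsg.Agent.Lib.SuzukiCyclic.Klein
import Cfsg.Agent.Lib.SmallTwo.CentralizerType
import Cfsg.Agent.S3116

/-!
# A quasi-dihedral Sylow 2-subgroup in a simple group: fusion

One class of involutions, the automizer of a four group has order 6, and (odd Sylow subgroups cyclic) no
element of odd order centralises a Sylow 2-subgroup.
-/

set_option autoImplicit false
set_option linter.style.haveILetI false

namespace CfsgLib.SuzukiCyclic

open Cfsg CfsgLib CfsgLib.SmallTwo

universe u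

variable {G : Type u} [Group G] [Finite G]

/-- A non-abelian simple group has no subgroup of index 2. -/
theorem no_index_two [IsSimpleGroup G] (hna : ¬ IsMulCommutative G) (H : Subgroup G) :
    H.index ≠ 2 := by
  intro hi
  haveI := Subgroup.normal_of_index_eq_two hi
  rcases (inferInstance : H.Normal).eq_bot_or_eq_top with rfl | rfl
  · rw [Subgroup.index_bot] at hi
    haveI : Fact (Nat.Prime 2) := ⟨Nat.prime_two⟩
    haveI : IsCyclic G := isCyclic_of_prime_card hi
    exact hna inferInstance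
  · rw [Subgroup.index_top] at hi
    exact absurd hi (by decide)

/-- All involutions are conjugate. -/
theorem sd_invol_conj [IsSimpleGroup G] (hna : ¬ IsMulCommutative G) (S : Sylow 2 G)
    (hS : Cfsg.IsQuasiDihedral ↥(S : Subgroup G)) {x y : G} (hx : orderOf x = 2) (hy : orderOf y = 2) :
    IsConj x y := by
  obtain ⟨n, ⟨d⟩⟩ := qd_exists hS
  exact (d.one_class_of_no_index_two (no_index_two hna) hx).trans
    (d.one_class_of_no_index_two (no_index_two hna) hy).symm

/-- The automizer of a four group in a Sylow 2-subgroup has order 6. -/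
theorem sd_four_six [IsSimpleGroup G] (hna : ¬ IsMulCommutative G) (S : Sylow 2 G)
    (hS : Cfsg.IsQuasiDihedral ↥(S : Subgroup G)) {T : Subgroup G} (hT : IsKleinFour T)
    (hTS : T ≤ S) :
    (Subgroup.centralizer (T : Set G)).relIndex (Subgroup.normalizer (T : Set G)) = 6 := by
  obtain ⟨n, ⟨d⟩⟩ := qd_exists hS
  obtain ⟨-, -, ⟨eQ⟩, hQS⟩ := d.four_spec
  refine (quasidihedral_local_indices S hS T hT hTS (d.quat 1) hQS eQ).1.resolve_left fun h => ?_
  obtain ⟨K, -, hK, -⟩ := d.exists_kernel (ε := 1) (Or.inr rfl)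
    (fun _ i hi => d.actsLike_four hT hTS h hi) (fun e => absurd e one_ne_zero)
  exact no_index_two hna K hK

/-- A Sylow 2-subgroup containing a given 2-subgroup, still quasi-dihedral. -/
theorem sd_sylow_ge (S : Sylow 2 G) (hS : Cfsg.IsQuasiDihedral ↥(S : Subgroup G)) {R : Subgroup G}
    (hR : IsPGroup 2 R) : ∃ S' : Sylow 2 G, R ≤ (S' : Subgroup G) ∧
      Cfsg.IsQuasiDihedral ↥(S' : Subgroup G) := by
  haveI : Fact (Nat.Prime 2) := ⟨Nat.prime_two⟩
  obtain ⟨S', hS'⟩ := hR.exists_le_sylow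
  obtain ⟨n, ⟨d⟩⟩ := qd_exists hS
  let d' := d.mapEquiv (Sylow.equiv S S')
  exact ⟨S', hS', n, d'.hn, d'.card, d'.x, d'.y, d'.hx, d'.hy, d'.hyx⟩

/-- Two commuting involutions generate a four group. -/
theorem exists_four {v w : G} (hv : orderOf v = 2) (hw : orderOf w = 2) (hvw : Commute v w)
    (hne : v ≠ w) : ∃ T : Subgroup G, IsKleinFour T ∧ v ∈ T ∧ w ∈ T ∧
      ∀ x ∈ T, x = 1 ∨ x = v ∨ x = w ∨ x = v * w := by
  have hvv : v * v = 1 := by rw [← pow_two, ← hv, pow_orderOf_eq_one]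
  have hww : w * w = 1 := by rw [← pow_two, ← hw, pow_orderOf_eq_one]
  have hv1 : v ≠ 1 := fun e => by rw [e, orderOf_one] at hv; norm_num at hv
  have hw1 : w ≠ 1 := fun e => by rw [e, orderOf_one] at hw; norm_num at hw
  have hvw1 : v * w ≠ 1 := fun e => hne (mul_right_cancel (e.trans hww.symm))
  have hvwv : v * w ≠ v := fun e => hw1 (by simpa using e)
  have hvww : v * w ≠ w := fun e => hv1 (by simpa using e)
  have hvi : v⁻¹ = v := inv_eq_of_mul_eq_one_right hvv
  have hwi : w⁻¹ = w := inv_eq_of_mul_eq_one_right hww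
  have h1 : ∀ z, v * (v * z) = z := fun z => by rw [← mul_assoc, hvv, one_mul]
  have h2 : ∀ z, w * (w * z) = z := fun z => by rw [← mul_assoc, hww, one_mul]
  have h3 : w * v = v * w := hvw.eq.symm
  have h4 : ∀ z, w * (v * z) = v * (w * z) := fun z => by rw [← mul_assoc, h3, mul_assoc]
  let T : Subgroup G :=
    { carrier := {1, v, w, v * w}
      one_mem' := by simp
      mul_mem' := by
        intro a b ha hb
        simp only [Set.mem_insert_iff, Set.mem_singleton_iff] at ha hb ⊢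
        rcases ha with rfl | rfl | rfl | rfl <;> rcases hb with rfl | rfl | rfl | rfl <;>
          simp [mul_assoc, hvv, hww, h1, h2, h3, h4]
      inv_mem' := by
        intro a ha
        simp only [Set.mem_insert_iff, Set.mem_singleton_iff] at ha ⊢
        rcases ha with rfl | rfl | rfl | rfl <;> simp [mul_inv_rev, hvi, hwi, h3] }
  refine ⟨T, ⟨?_, ?_⟩, by simp [T], by simp [T], fun x hx => by simpa [T] using hx⟩
  · show Nat.card ({1, v, w, v * w} : Set G) = 4
    rw [Nat.card_coe_set_eq, Set.ncard_insert_of_notMem (by simp [Ne.symm hv1, Ne.symm hw1, Ne.symm hvw1]),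
      Set.ncard_insert_of_notMem (by simp [hne, Ne.symm hvwv]),
      Set.ncard_insert_of_notMem (by simp [Ne.symm hvww]), Set.ncard_singleton]
  · refine (Nat.dvd_prime Nat.prime_two).1
      (Monoid.exponent_dvd_of_forall_pow_eq_one fun x => Subtype.ext ?_) |>.resolve_left fun he => ?_
    · have hx : (x : G) = 1 ∨ (x : G) = v ∨ (x : G) = w ∨ (x : G) = v * w := x.2
      rw [SubmonoidClass.coe_pow, Subgroup.coe_one, pow_two]
      rcases hx with e | e | e | e <;> rw [e] <;> simp [mul_assoc, hvv, hww, h1, h2, h3, h4]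
    · haveI := Monoid.exp_eq_one_iff.1 he
      exact hv1 (congrArg Subtype.val (Subsingleton.elim (⟨v, by simp [T]⟩ : T) 1))

/-- A 3-element permuting two commuting involutions and their product cyclically. -/
theorem sd_fused [IsSimpleGroup G] (hna : ¬ IsMulCommutative G) (S : Sylow 2 G)
    (hS : Cfsg.IsQuasiDihedral ↥(S : Subgroup G)) {v w : G} (hv : orderOf v = 2) (hw : orderOf w = 2)
    (hvw : Commute v w) (hne : v ≠ w) :
    ∃ k : G, (∃ e, orderOf k = 3 ^ e) ∧ k * v * k⁻¹ = w ∧ k * w * k⁻¹ = v * w := by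
  haveI : Fact (Nat.Prime 3) := ⟨Nat.prime_three⟩
  obtain ⟨T, hT, hvT, hwT, hTmem⟩ := exists_four hv hw hvw hne
  have hT2 : IsPGroup 2 T := IsPGroup.of_card (n := 2) (by rw [hT.card_four]; norm_num)
  obtain ⟨S', hTS, hS'⟩ := sd_sylow_ge S hS hT2
  have h6 := sd_four_six hna S' hS' hT hTS
  set N := Subgroup.normalizer (T : Set G) with hN
  let φ : ↥N →* MulAut ↥T := T.normalizerMonoidHom
  have hrange : Nat.card φ.range = 6 := by
    rw [← Subgroup.index_ker, show φ.ker = _ from Subgroup.normalizerMonoidHom_ker T]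
    exact h6
  obtain ⟨⟨_, n, rfl⟩, hn⟩ := exists_prime_orderOf_dvd_card' (G := φ.range) 3 (by rw [hrange]; norm_num)
  replace hn : orderOf (φ n) = 3 := (Subgroup.orderOf_coe _).trans hn
  obtain ⟨a, m, hm, -, -, hk⟩ := Transfer.exists_pow_coprime_part (p := 3) n
  have hk3 : orderOf (φ (n ^ m)) = 3 := by
    rw [map_pow, Nat.Coprime.orderOf_pow]
    · exact hn
    · rw [hn]
      exact Nat.prime_three.coprime_iff_not_dvd.2 hm
  have hko : orderOf ((n ^ m : ↥N) : G) = 3 ^ a := by rw [Subgroup.orderOf_coe, hk]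
  set k := n ^ m
  set σ : G → G := fun x => (k : G) * x * (k : G)⁻¹ with hσ
  have hmul : ∀ x y : G, σ (x * y) = σ x * σ y := fun x y => by simp [hσ, mul_assoc]
  have hinj : ∀ x y : G, σ x = σ y → x = y := fun x y e =>
    mul_left_cancel (mul_right_cancel (e : (k : G) * x * (k : G)⁻¹ = (k : G) * y * (k : G)⁻¹))
  have hval : ∀ x : G, x ∈ T → x ≠ 1 → σ x = v ∨ σ x = w ∨ σ x = v * w := fun x hx hx1 =>
    (hTmem _ ((Subgroup.mem_normalizer_iff.1 k.2 x).1 hx)).resolve_left fun e => hx1 (conj_eq_one_iff.1 e)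
  have hne' : ∀ l : ℕ, ¬ 3 ∣ l →
      ¬ (((k ^ l : ↥N) : G) * v * ((k ^ l : ↥N) : G)⁻¹ = v ∧
        ((k ^ l : ↥N) : G) * w * ((k ^ l : ↥N) : G)⁻¹ = w) := by
    rintro l hl ⟨ev, ew⟩
    refine hl (hk3 ▸ orderOf_dvd_of_pow_eq_one ?_)
    rw [← map_pow]
    refine MulEquiv.ext fun x => Subtype.ext ?_
    show ((k ^ l : ↥N) : G) * (x : G) * ((k ^ l : ↥N) : G)⁻¹ = (x : G)
    rcases hTmem x x.2 with e | e | e | e <;> rw [e]
    · simp
    · exact ev
    · exact ew
    · conv_rhs => rw [← ev, ← ew]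
      group
  have hne1 : ¬ (σ v = v ∧ σ w = w) := fun h => hne' 1 (by norm_num) (by
    simpa [hσ] using h)
  have hne2 : ¬ (σ (σ v) = v ∧ σ (σ w) = w) := fun h => hne' 2 (by norm_num) (by
    simpa [hσ, pow_two, mul_assoc] using h)
  have hvv : v * v = 1 := by rw [← pow_two, ← hv, pow_orderOf_eq_one]
  have hww : w * w = 1 := by rw [← pow_two, ← hw, pow_orderOf_eq_one]
  have hv1 : v ≠ 1 := fun e => by rw [e, orderOf_one] at hv; norm_num at hv
  have hw1 : w ≠ 1 := fun e => by rw [e, orderOf_one] at hw; norm_num at hw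
  rcases hval v hvT hv1 with ev | ev | ev <;> rcases hval w hwT hw1 with ew | ew | ew
  · exact absurd (hinj _ _ (ev.trans ew.symm)) hne
  · exact absurd ⟨ev, ew⟩ hne1
  · exact absurd ⟨by rw [ev, ev], by rw [ew, hmul, ev, ew, ← mul_assoc, hvv, one_mul]⟩ hne2
  · exact absurd ⟨by rw [ev, ew], by rw [ew, ev]⟩ hne2
  · exact absurd (hinj _ _ (ev.trans ew.symm)) hne
  · exact ⟨k, ⟨a, hko⟩, ev, ew⟩
  · have e2 : σ (v * w) = w := by
      rw [hmul, ev, ew, mul_assoc, ← hvw.eq, ← mul_assoc, hvv, one_mul]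
    refine ⟨(k : G) * k, ⟨a, ?_⟩, ?_, ?_⟩
    · rw [← pow_two, Nat.Coprime.orderOf_pow, hko]
      rw [hko]
      exact Nat.Coprime.pow_left a (by norm_num)
    · calc (k : G) * k * v * ((k : G) * k)⁻¹ = σ (σ v) := by simp [hσ, mul_assoc]
        _ = w := by rw [ev, e2]
    · calc (k : G) * k * w * ((k : G) * k)⁻¹ = σ (σ w) := by simp [hσ, mul_assoc]
        _ = v * w := by rw [ew, ev]
  · exact absurd ⟨by rw [ev, hmul, ev, ew, mul_assoc, hww, mul_one], by rw [ew, ew]⟩ hne2
  · exact absurd (hinj _ _ (ev.trans ew.symm)) hne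

/-- An element of odd order centralising a quasi-dihedral Sylow 2-subgroup is trivial. -/
theorem sd_cent_odd [IsSimpleGroup G] (hna : ¬ IsMulCommutative G) (h : OddCyclic G) (S : Sylow 2 G)
    (hS : Cfsg.IsQuasiDihedral ↥(S : Subgroup G)) {z : G} (hz : Odd (orderOf z))
    (hc : ∀ x ∈ (S : Subgroup G), Commute x z) : z = 1 := by
  haveI : Fact (Nat.Prime 2) := ⟨Nat.prime_two⟩
  have hAut : IsPGroup 2 (MulAut ↥(S : Subgroup G)) := Cfsg.Agent.S3116.result S.2 (Or.inr hS)
  suffices key : ∀ r : ℕ, r.Prime → r ≠ 2 → ∀ w : G, (∀ x ∈ (S : Subgroup G), Commute x w) →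
      orderOf w ≠ r by
    by_contra hz1
    obtain ⟨r, hr, hrd⟩ := Nat.exists_prime_and_dvd (n := orderOf z) fun e => hz1 (orderOf_eq_one_iff.1 e)
    exact key r hr (fun e => hz.not_two_dvd_nat (e ▸ hrd)) (z ^ (orderOf z / r))
      (fun x hx => (hc x hx).pow_right _) (orderOf_pow_orderOf_div (orderOf_pos z).ne' hrd)
  intro r
  induction r using Nat.strong_induction_on with
  | _ r ih =>
  intro hr hr2 w hwS hw
  haveI := Fact.mk hr
  have hw1 : w ≠ 1 := fun e => hr.ne_one (by rw [← hw, e, orderOf_one])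
  obtain ⟨R, hwR⟩ := (Transfer.isPGroup_zpowers (p := r) (x := w)
    ⟨1, by rw [pow_one, hw]⟩).exists_le_sylow
  have hwR' : w ∈ (R : Subgroup G) := hwR (Subgroup.mem_zpowers w)
  refine not_normalizer_le_centralizer hna R (fun e => hw1 (Subgroup.mem_bot.1 (e ▸ hwR'))) ?_
  intro g hg
  refine cent_of_fix R (h r hr hr2 R) hwR' hw hg ?_
  obtain ⟨i, hi⟩ : g * w * g⁻¹ ∈ Subgroup.zpowers w := by
    refine mem_zpowers_of_cyclic R (h r hr hr2 R) hwR' hw ((Subgroup.mem_normalizer_iff.1 hg w).1 hwR') ?_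
    rw [conj_pow, ← hw, pow_orderOf_eq_one, mul_one, mul_inv_cancel]
  have hi' : g * w * g⁻¹ = w ^ i := hi.symm
  have hSC : (S : Subgroup G) ≤ Subgroup.centralizer ({w} : Set G) := fun s hs =>
    Subgroup.mem_centralizer_singleton_iff.2 (hwS s hs).eq
  have hgS : ∀ s ∈ (S : Subgroup G), g * s * g⁻¹ ∈ Subgroup.centralizer ({w} : Set G) := by
    intro s hs
    have hwz : w ∈ Subgroup.zpowers (g * w * g⁻¹) := by
      have e : Subgroup.zpowers (g * w * g⁻¹) = Subgroup.zpowers w :=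
        Subgroup.eq_of_le_of_card_ge (Subgroup.zpowers_le.2 (hi' ▸ Subgroup.zpow_mem_zpowers w i)) (by
          rw [Nat.card_zpowers, Nat.card_zpowers, ← MulAut.conj_apply, MulEquiv.orderOf_eq])
      exact e ▸ Subgroup.mem_zpowers w
    obtain ⟨j, hj⟩ := hwz
    have hj' : (g * w * g⁻¹) ^ j = w := hj
    have hcm := ((hwS s hs).conj g).zpow_right j
    rw [hj'] at hcm
    exact Subgroup.mem_centralizer_singleton_iff.2 hcm.eq
  obtain ⟨c, hcC, hn⟩ := adjust S hSC hgS
  set n := c * g with hndef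
  have hnw : n * w * n⁻¹ = w ^ i := by
    rw [hndef, show c * g * w * (c * g)⁻¹ = c * (g * w * g⁻¹) * c⁻¹ by group, hi',
      ((show Commute c w from Subgroup.mem_centralizer_singleton_iff.1 hcC).zpow_right i).eq,
      mul_inv_cancel_right]
  suffices hfix : Commute n w by
    have e : w ^ i = w := hnw.symm.trans (by rw [hfix.eq, mul_inv_cancel_right])
    exact mul_inv_eq_iff_eq_mul.1 (hi'.trans e)
  obtain ⟨a, m, hm, -, hq, hpart⟩ := Transfer.exists_pow_coprime_part (p := 2) n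
  have h2 : Commute (n ^ m) w := by
    refine hwS _ ?_
    have hQ : IsPGroup 2 ↥((S : Subgroup G) ⊔ Subgroup.zpowers (n ^ m)) :=
      S.2.to_sup_of_normal_left' (Transfer.isPGroup_zpowers ⟨a, hpart⟩)
        (Subgroup.zpowers_le.mpr (pow_mem hn m))
    rw [← S.is_maximal' hQ le_sup_left]
    exact Subgroup.mem_sup_right (Subgroup.mem_zpowers _)
  set q := n ^ 2 ^ a with hqdef
  have hqN : q ∈ Subgroup.normalizer ((S : Subgroup G) : Set G) := pow_mem hn _
  have hqS : ∀ x ∈ (S : Subgroup G), Commute x q := by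
    have e : (S : Subgroup G).normalizerMonoidHom ⟨q, hqN⟩ = 1 := by
      refine Transfer.orderOf_eq_one_of_coprime_of_isPGroup hAut (Nat.Coprime.coprime_dvd_left
        (orderOf_map_dvd _ _) ?_)
      rw [Subgroup.orderOf_mk]
      exact hq
    intro x hx
    have e2 := DFunLike.congr_fun e (⟨x, hx⟩ : ↥((S : Subgroup G)))
    have e1 : q * x * q⁻¹ = x := congrArg Subtype.val e2
    exact (mul_inv_eq_iff_eq_mul.1 e1 : Commute q x).symm
  have h1 : Commute q w := by
    have hqw : q * w * q⁻¹ = w ^ i ^ 2 ^ a := Transfer.conj_pow_eq_zpow hnw (2 ^ a)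
    have hkr : IsCoprime (i ^ 2 ^ a) (r : ℤ) := by
      refine ((Nat.prime_iff_prime_int.1 hr).coprime_iff_not_dvd.2 fun hd => ?_).symm
      have h0 : w ^ (i ^ 2 ^ a) = 1 := orderOf_dvd_iff_zpow_eq_one.1 (by rw [hw]; exact hd)
      exact hw1 (conj_eq_one_iff.1 (hqw.trans h0))
    have e : q ^ (r - 1) * w * (q ^ (r - 1))⁻¹ = w := by
      rw [Transfer.conj_pow_eq_zpow hqw]
      refine ((orderOf_dvd_sub_iff_zpow_eq_zpow (b := 1)).1 ?_).trans (zpow_one w)
      rw [hw]
      exact ((Int.ModEq.pow_card_sub_one_eq_one hr hkr).symm).dvd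
    have hco : (r - 1).Coprime (orderOf q) := by
      refine Nat.coprime_of_dvd fun l hl hl1 hl2 => ?_
      have hl2' : l ≠ 2 := by
        intro e2
        rw [e2] at hl2
        exact Nat.not_coprime_of_dvd_of_dvd (by norm_num) hl2 dvd_rfl hq
      have hlr : l < r := by
        have := Nat.le_of_dvd (by have := hr.two_le; omega) hl1
        have := hr.two_le
        omega
      exact ih l hlr hl hl2' (q ^ (orderOf q / l)) (fun x hx => (hqS x hx).pow_right _)
        (orderOf_pow_orderOf_div (orderOf_pos q).ne' hl2)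
    obtain ⟨j, hj⟩ := exists_pow_eq_self_of_coprime hco
    rw [← hj]
    exact (show Commute (q ^ (r - 1)) w from mul_inv_eq_iff_eq_mul.mp e).pow_left j
  have hgcd : m.Coprime (2 ^ a) :=
    ((Nat.prime_two.coprime_iff_not_dvd).mpr hm).symm.pow_right a
  have hb := Nat.gcd_eq_gcd_ab m (2 ^ a)
  rw [hgcd.gcd_eq_one] at hb
  have h3 : n = (n ^ m) ^ m.gcdA (2 ^ a) * (n ^ 2 ^ a) ^ m.gcdB (2 ^ a) := by
    rw [← zpow_natCast, ← zpow_natCast, ← zpow_mul, ← zpow_mul, ← zpow_add, ← hb]
    simp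
  rw [h3]
  exact (h2.zpow_left _).mul_left (h1.zpow_left _)

end CfsgLib.SuzukiCyclic
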