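import Cfsg.Agent.Lib.SuzukiCyclic.Defs
import Cfsg.Agent.Lib.SL2.Facts
import Cfsg.Agent.Lib.AutPSL.FourCentral

/-!
Small tools for the centraliser analysis in the semidihedral case.
-/

set_option autoImplicit false
set_option linter.style.haveILetI false
set_option linter.unusedSectionVars false

namespace CfsgLib.SuzukiCyclic

open scoped MatrixGroups

theorem eq_one_of_coprime {H : Type*} [Group H] {x : H} {a b : ℕ} (ha : x ^ a = 1) (hb : x ^ b = 1)
    (h : Nat.Coprime a b) : x = 1 :=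
  orderOf_eq_one_iff.1 (Nat.dvd_one.1
    (h ▸ Nat.dvd_gcd (orderOf_dvd_of_pow_eq_one ha) (orderOf_dvd_of_pow_eq_one hb)))

/-- In a decomposition `X ⊔ L = ⊤` into normal subgroups meeting trivially, every element is a
product. -/
theorem exists_mul_of_sup {H : Type*} [Group H] {X L : Subgroup H} [L.Normal] (h : X ⊔ L = ⊤) (g : H) :
    ∃ x ∈ X, ∃ l ∈ L, g = x * l := by
  obtain ⟨x, hx, l, hl, e⟩ := Subgroup.mem_sup_of_normal_right.1 (h ▸ Subgroup.mem_top g)
  exact ⟨x, hx, l, hl, e.symm⟩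

/-- Elements killed by the order of a normal factor of coprime order lie in it. -/
theorem mem_of_pow_card {H : Type*} [Group H] [Finite H] {X L : Subgroup H} (hX : X.Normal) (hL : L.Normal)
    (hdis : X ⊓ L = ⊥) (hsup : X ⊔ L = ⊤) (hco : (Nat.card X).Coprime (Nat.card L)) {g : H}
    (hg : g ^ Nat.card L = 1) : g ∈ L := by
  obtain ⟨x, hx, l, hl, rfl⟩ := exists_mul_of_sup hsup g
  have hc : Commute x l := Subgroup.commute_of_normal_of_disjoint X L hX hL (disjoint_iff.2 hdis) x l hx hl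
  rw [hc.mul_pow, orderOf_dvd_iff_pow_eq_one.1 (Subgroup.orderOf_dvd_natCard L hl), mul_one] at hg
  rw [eq_one_of_coprime (orderOf_dvd_iff_pow_eq_one.1 (Subgroup.orderOf_dvd_natCard X hx)) hg hco, one_mul]
  exact hl

theorem center_psl_eq_bot {p : ℕ} [Fact p.Prime] (hp : 5 ≤ p) :
    Subgroup.center (Matrix.ProjectiveSpecialLinearGroup (Fin 2) (ZMod p)) = ⊥ := by
  haveI := CfsgLib.FourCentral.isSimpleGroup_psl (F := ZMod p) (by rw [Nat.card_zmod]; omega)
  refine ((inferInstance : (Subgroup.center (Matrix.ProjectiveSpecialLinearGroup (Fin 2) (ZMod p))).Normal).eq_bot_or_eq_top).resolve_right fun hc => ?_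
  letI : CommGroup (Matrix.ProjectiveSpecialLinearGroup (Fin 2) (ZMod p)) :=
    { (inferInstance : Group (Matrix.ProjectiveSpecialLinearGroup (Fin 2) (ZMod p))) with
      mul_comm := fun a b => Subgroup.mem_center_iff.1 (hc ▸ Subgroup.mem_top b) a }
  have hp' := IsSimpleGroup.prime_card (α := Matrix.ProjectiveSpecialLinearGroup (Fin 2) (ZMod p))
  have h := CfsgLib.SL2.card_PSL (F := ZMod p)
  rw [Nat.card_zmod, show Nat.gcd 2 (p - 1) = 2 from Nat.gcd_eq_left (by
    have := (Fact.out (p := p.Prime)).odd_of_ne_two (by omega)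
    obtain ⟨k, rfl⟩ := this
    exact ⟨k, by omega⟩)] at h
  have hd : p ∣ 2 * Nat.card (Matrix.ProjectiveSpecialLinearGroup (Fin 2) (ZMod p)) := ⟨_, h⟩
  rcases (Fact.out (p := p.Prime)).dvd_mul.1 hd with h' | h'
  · have := Nat.le_of_dvd two_pos h'; omega
  · rw [← (Nat.prime_dvd_prime_iff_eq Fact.out hp').1 h', mul_comm 2] at h
    have h2 := Nat.eq_of_mul_eq_mul_left (by omega : 0 < p) h
    have : 4 * 1 ≤ (p - 1) * (p + 1) := Nat.mul_le_mul (by omega) (by omega)
    omega

end CfsgLib.SuzukiCyclic
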