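import Cfsg.Agent.Lib.SuzukiCyclic.SemiCentData
import Cfsg.Agent.Lib.SuzukiCyclic.TwoShape
import Cfsg.Agent.Lib.SmallTwo.QuasiDihedral
import Cfsg.Agent.Lib.SL2.Facts
import Cfsg.Agent.Lib.OneToFive.Count
import Cfsg.Agent.Lib.SuzukiCyclic.SemiTools
import Cfsg.Agent.Lib.SuzukiCyclic.SemiBasic

/-!
# The centraliser of an involution in the semidihedral case, when it is not solvable

It is `(X × L)⟨s⟩` with `L ≅ SL₂(p)` and `X` of odd order inverted by `s`.
-/

set_option autoImplicit false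
set_option linter.style.haveILetI false
set_option linter.unusedSectionVars false

universe u

namespace CfsgLib.SuzukiCyclic

open Cfsg
open scoped MatrixGroups

variable {G : Type u} [Group G] [Finite G]


/-- `C(t)` in the semidihedral case, when it is not solvable. -/
theorem sd_cent_data [IsSimpleGroup G] (hna : ¬ IsMulCommutative G) (h : OddCyclic G) (ih : SmallerShape G)
    (S : Sylow 2 G) (hS : Cfsg.IsQuasiDihedral ↥(S : Subgroup G)) {t : G} (ht : orderOf t = 2)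
    (hns : ¬ Group.IsSolvable ↥(Subgroup.centralizer ({t} : Set G))) : Nonempty (CentData t) := by
  classical
  haveI : Fact (Nat.Prime 2) := ⟨Nat.prime_two⟩
  have ht1 : t ≠ 1 := fun e => by rw [e, orderOf_one] at ht; omega
  have htt : t * t = 1 := by rw [← pow_two, ← ht, pow_orderOf_eq_one]
  set C := Subgroup.centralizer ({t} : Set G) with hC
  have hmC : ∀ {g : G}, g ∈ C ↔ Commute g t := Subgroup.mem_centralizer_singleton_iff
  have htC : t ∈ C := hmC.2 (Commute.refl t)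
  have hCtop : C ≠ ⊤ := fun e => by
    have hz : t ∈ Subgroup.center G := Subgroup.mem_center_iff.2 fun g =>
      (hmC.1 (e ▸ Subgroup.mem_top g)).eq
    rcases (inferInstance : (Subgroup.center G).Normal).eq_bot_or_eq_top with hb | hb
    · exact ht1 (Subgroup.mem_bot.1 (hb ▸ hz))
    · exact hna ⟨⟨fun a b => Subgroup.mem_center_iff.1 (hb ▸ Subgroup.mem_top b) a⟩⟩
  -- a Sylow 2-subgroup centralising `t`
  obtain ⟨S₁, hS₁C, hS₁⟩ : ∃ S₁ : Sylow 2 G, (S₁ : Subgroup G) ≤ C ∧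
      Cfsg.IsQuasiDihedral ↥(S₁ : Subgroup G) := by
    obtain ⟨n, ⟨d⟩⟩ := CfsgLib.SmallTwo.qd_exists hS
    have hz : d.x ^ (2 * d.q) ∈ Subgroup.center ↥(S : Subgroup G) := by
      rw [d.center_eq]; exact Subgroup.mem_zpowers _
    have hzo : orderOf ((d.x ^ (2 * d.q) : ↥(S : Subgroup G)) : G) = 2 := by
      rw [Subgroup.orderOf_coe, d.orderOf_r_two]; simp
    obtain ⟨g, hg⟩ := isConj_iff.1 (sd_invol_conj hna S hS hzo ht)
    refine ⟨g • S, fun a ha => hmC.2 ?_, ?_⟩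
    · rw [Sylow.coe_subgroup_smul, Subgroup.mem_pointwise_smul_iff_inv_smul_mem] at ha
      have hc := Subgroup.mem_center_iff.1 hz ⟨_, ha⟩
      have hc' : Commute ((MulAut.conj g)⁻¹ • a) ((d.x ^ (2 * d.q) : ↥(S : Subgroup G)) : G) :=
        congrArg Subtype.val hc
      rw [MulAut.smul_def, MulAut.inv_apply, MulAut.conj_symm_apply] at hc'
      have h' := (Commute.conj_iff g).2 hc'
      rw [hg] at h'
      rwa [show g * (g⁻¹ * a * g) * g⁻¹ = a by group] at h'
    · obtain ⟨n, hn, hcard, x, y, hx, hy, hxy⟩ := hS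
      let e : ↥(S : Subgroup G) ≃* ↥((g • S : Sylow 2 G) : Subgroup G) :=
        ((S : Subgroup G).equivMapOfInjective (MulAut.conj g).toMonoidHom (MulAut.conj g).injective).trans
          (MulEquiv.subgroupCongr Sylow.coe_subgroup_smul.symm)
      exact ⟨n, hn, by rw [← Nat.card_congr e.toEquiv, hcard], e x, e y, by rw [MulEquiv.orderOf_eq, hx],
        by rw [MulEquiv.orderOf_eq, hy], by rw [← map_inv, ← map_mul, ← map_mul, hxy, map_pow]⟩
  obtain ⟨n, ⟨d⟩⟩ := CfsgLib.SmallTwo.qd_exists hS₁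
  -- the shape of the centraliser
  obtain ⟨G₀, hG₀, hidx, X₀, L₀, hX₀, hL₀, hdis, hsup, hco, hXo, -, p, hpf, hp5, hiso⟩ := ih C hCtop hns
  haveI := hpf
  haveI := hX₀
  haveI := hL₀
  have hpodd : Odd (Nat.card (ZMod p)) := by
    rw [Nat.card_zmod]; exact hpf.out.odd_of_ne_two (by omega)
  have hsq : ∀ g : C, g * g ∈ G₀ := by
    intro g
    rcases (Nat.dvd_prime Nat.prime_two).1 hidx with e | e
    · rw [Subgroup.index_eq_one.1 e]; exact Subgroup.mem_top _
    · exact Subgroup.mul_self_mem_of_index_two e g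
  let φ : G₀ →* G := C.subtype.comp G₀.subtype
  have hφ : Function.Injective φ := Subtype.val_injective.comp Subtype.val_injective
  set X := X₀.map φ with hX
  set L := L₀.map φ with hL
  have hXle : ∀ x ∈ X, ∃ hx : x ∈ C, (⟨x, hx⟩ : C) ∈ G₀ := by
    rintro _ ⟨a, -, rfl⟩; exact ⟨(a : C).2, a.2⟩
  have hLle : ∀ x ∈ L, ∃ hx : x ∈ C, (⟨x, hx⟩ : C) ∈ G₀ := by
    rintro _ ⟨a, -, rfl⟩; exact ⟨(a : C).2, a.2⟩
  have hLc : Nat.card L = Nat.card L₀ := (Nat.card_congr (L₀.equivMapOfInjective φ hφ).toEquiv).symm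
  have hXc : Nat.card X = Nat.card X₀ := (Nat.card_congr (X₀.equivMapOfInjective φ hφ).toEquiv).symm
  -- membership by exponent
  have hmemL : ∀ (g : G) (hg : g ∈ C), (⟨g, hg⟩ : C) ∈ G₀ → g ^ Nat.card L = 1 → g ∈ L := by
    intro g hg hg0 hp'
    refine ⟨⟨⟨g, hg⟩, hg0⟩, mem_of_pow_card hX₀ hL₀ hdis hsup hco ?_, rfl⟩
    exact Subtype.ext (Subtype.ext (by rw [← hLc]; exact hp'))
  have hmemX : ∀ (g : G) (hg : g ∈ C), (⟨g, hg⟩ : C) ∈ G₀ → g ^ Nat.card X = 1 → g ∈ X := by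
    intro g hg hg0 hp'
    refine ⟨⟨⟨g, hg⟩, hg0⟩, mem_of_pow_card hL₀ hX₀ (by rw [inf_comm]; exact hdis)
      (by rw [sup_comm]; exact hsup) hco.symm ?_, rfl⟩
    exact Subtype.ext (Subtype.ext (by rw [← hXc]; exact hp'))
  have hnormL : ∀ g ∈ C, ∀ l ∈ L, g * l * g⁻¹ ∈ L := by
    intro g hg l hl
    obtain ⟨hlC, hl0⟩ := hLle l hl
    refine hmemL _ (mul_mem (mul_mem hg hlC) (inv_mem hg)) (hG₀.conj_mem _ hl0 ⟨g, hg⟩) ?_
    rw [conj_pow, orderOf_dvd_iff_pow_eq_one.1 (Subgroup.orderOf_dvd_natCard L hl), mul_one, mul_inv_cancel]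
  have hnormX : ∀ g ∈ C, ∀ x ∈ X, g * x * g⁻¹ ∈ X := by
    intro g hg x hx
    obtain ⟨hxC, hx0⟩ := hXle x hx
    refine hmemX _ (mul_mem (mul_mem hg hxC) (inv_mem hg)) (hG₀.conj_mem _ hx0 ⟨g, hg⟩) ?_
    rw [conj_pow, orderOf_dvd_iff_pow_eq_one.1 (Subgroup.orderOf_dvd_natCard X hx), mul_one, mul_inv_cancel]
  have hcomm : ∀ x ∈ X, ∀ l ∈ L, x * l = l * x := by
    rintro _ ⟨a, ha, rfl⟩ _ ⟨b, hb, rfl⟩
    exact ((Subgroup.commute_of_normal_of_disjoint X₀ L₀ hX₀ hL₀ (disjoint_iff.2 hdis) a b ha hb).map φ).eq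
  have hdec : ∀ g : C, g ∈ G₀ → ∃ x ∈ X, ∃ l ∈ L, (g : G) = x * l := by
    intro g hg
    obtain ⟨x, hx, l, hl, e⟩ := exists_mul_of_sup hsup (⟨g, hg⟩ : G₀)
    exact ⟨φ x, ⟨x, hx, rfl⟩, φ l, ⟨l, hl, rfl⟩, by rw [← map_mul, ← e]; rfl⟩
  -- `t` lies in `L`
  have hqeven : Even d.q := by obtain ⟨r, -, hr⟩ := d.exists_half; exact ⟨r, by rw [hr]; ring⟩
  have htS : t ∈ (S₁ : Subgroup G) := by
    have hp : IsPGroup 2 (Subgroup.zpowers t) := IsPGroup.of_card (n := 1) (by rw [Nat.card_zpowers, ht, pow_one])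
    have hn : Subgroup.zpowers t ≤ Subgroup.normalizer ((S₁ : Subgroup G) : Set G) :=
      Subgroup.zpowers_le.2 (Subgroup.mem_normalizer_fintype fun y hy => by
        rw [(hmC.1 (hS₁C hy)).symm.eq, mul_inv_cancel_right]; exact hy)
    exact (S₁.3 (IsPGroup.to_sup_of_normal_left' S₁.2 hp hn) le_sup_left).le
      (Subgroup.mem_sup_right (Subgroup.mem_zpowers t))
  set z₀ : ↥(S₁ : Subgroup G) := d.x ^ d.q with hz₀
  have hzz : z₀ * z₀ = d.x ^ (2 * d.q) := by rw [hz₀, ← zpow_add, two_mul]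
  have htx : ((d.x ^ (2 * d.q) : ↥(S₁ : Subgroup G)) : G) = t := by
    have hz : (⟨t, htS⟩ : ↥(S₁ : Subgroup G)) ∈ Subgroup.center ↥(S₁ : Subgroup G) :=
      Subgroup.mem_center_iff.2 fun g => Subtype.ext (hmC.1 (hS₁C g.2)).eq
    rw [d.center_eq] at hz
    have h2 : (d.x ^ (2 * d.q)) * (d.x ^ (2 * d.q)) = 1 := by
      rw [← zpow_add, d.zpow_eq_one_iff]; exact ⟨1, by ring⟩
    obtain ⟨i, hi⟩ := Subgroup.mem_zpowers_iff.1 hz
    rcases Int.even_or_odd i with ⟨j, rfl⟩ | ⟨j, rfl⟩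
    · rw [← two_mul, _root_.zpow_mul, zpow_two, h2, one_zpow] at hi
      exact absurd (congrArg Subtype.val hi).symm ht1
    · rw [_root_.zpow_add_one, _root_.zpow_mul, zpow_two, h2, one_zpow, one_mul] at hi
      exact congrArg Subtype.val hi
  let j : ↥(S₁ : Subgroup G) →* C := Subgroup.inclusion hS₁C
  have ht0 : (⟨t, htC⟩ : C) ∈ G₀ := by
    have := hsq (j z₀)
    rwa [show j z₀ * j z₀ = ⟨t, htC⟩ from Subtype.ext (by
      rw [← map_mul, hzz]; exact htx)] at this
  -- `L ≅ SL₂(p)`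
  have hL2 : 2 ∣ Nat.card L := by
    rw [hLc]
    have h2X : Nat.Coprime 2 (Nat.card X₀) := Nat.coprime_two_left.2 hXo
    have hmul : 2 ∣ Nat.card G₀ := by
      have := Subgroup.orderOf_dvd_natCard G₀ ht0
      rwa [Subgroup.orderOf_mk, ht] at this
    have hc := CfsgLib.Coprime.card_sup_mul_card_inf (K := L₀) (S := X₀)
      (by rw [Subgroup.normalizer_eq_top]; exact le_top)
    rw [sup_comm, hsup, inf_comm, hdis, Subgroup.card_bot, mul_one, Subgroup.card_top] at hc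
    rw [hc] at hmul
    exact h2X.dvd_of_dvd_mul_right hmul
  have htL : t ∈ L := hmemL t htC ht0 (by
    obtain ⟨k, hk⟩ := hL2; rw [hk, pow_mul, pow_two, htt, one_pow])
  let eL : ↥L₀ ≃* ↥L := L₀.equivMapOfInjective φ hφ
  obtain ⟨eSL⟩ : Nonempty (↥L ≃* Matrix.SpecialLinearGroup (Fin 2) (ZMod p)) := by
    rcases hiso with h' | h' <;> obtain ⟨e⟩ := h'
    · exfalso
      have hc : (eL.symm.trans e) ⟨t, htL⟩ ∈ Subgroup.center _ := Subgroup.mem_center_iff.2 fun g => by
        obtain ⟨l, rfl⟩ := (eL.symm.trans e).surjective g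
        rw [← map_mul, ← map_mul]
        exact congrArg _ (Subtype.ext (hmC.1 (hLle l l.2).1).eq)
      rw [center_psl_eq_bot hp5, Subgroup.mem_bot] at hc
      exact ht1 (congrArg Subtype.val ((eL.symm.trans e).injective (hc.trans (map_one _).symm)))
    · exact ⟨eL.symm.trans e⟩
  have hone : ∀ l ∈ L, l * l = 1 → l ≠ 1 → l = t := by
    intro l hl hll hl1
    have h2 := CfsgLib.SL2.odd_card_two_ne_zero hpodd
    have e1 := CfsgLib.SL2.eq_neg_one_of_mul_self h2 (g := eSL ⟨l, hl⟩)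
      (by rw [← map_mul, show (⟨l, hl⟩ : L) * ⟨l, hl⟩ = 1 from Subtype.ext hll, map_one])
      (fun e => hl1 (congrArg Subtype.val (eSL.injective (e.trans (map_one eSL).symm))))
    have e2 := CfsgLib.SL2.eq_neg_one_of_mul_self h2 (g := eSL ⟨t, htL⟩)
      (by rw [← map_mul, show (⟨t, htL⟩ : L) * ⟨t, htL⟩ = 1 from Subtype.ext htt, map_one])
      (fun e => ht1 (congrArg Subtype.val (eSL.injective (e.trans (map_one eSL).symm))))
    exact congrArg Subtype.val (eSL.injective (e1.trans e2.symm))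
  -- involutions other than `t` lie outside `G₀`
  have hout : ∀ (s : G) (hs : s ∈ C), s * s = 1 → s ≠ 1 → s ≠ t → (⟨s, hs⟩ : C) ∉ G₀ := by
    intro s hs hss hs1 hst hs0
    refine hst (hone s (hmemL s hs hs0 ?_) hss hs1)
    obtain ⟨k, hk⟩ := hL2; rw [hk, pow_mul, pow_two, hss, one_pow]
  have hry : ∀ i : ℤ, Even i → j (d.x ^ i * d.y) ∉ G₀ := by
    intro i hi
    have h2 := d.sq_ry_of_even hi
    refine hout _ (hS₁C (d.x ^ i * d.y).2) (congrArg Subtype.val h2) (fun e => ?_) (fun e => ?_)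
    · exact d.ry_ne_r i 0 (by rw [zpow_zero]; exact Subtype.ext e)
    · exact d.ry_ne_r i (2 * d.q) (Subtype.ext (e.trans htx.symm))
  have hidx2 : G₀.index = 2 := by
    rcases (Nat.dvd_prime Nat.prime_two).1 hidx with e | e
    · exact absurd (by rw [Subgroup.index_eq_one.1 e]; exact Subgroup.mem_top _) (hry 0 Even.zero)
    · exact e
  have hy0 : j d.y ∉ G₀ := by
    have := hry 0 Even.zero
    rwa [zpow_zero, one_mul] at this
  have hx0 : j d.x ∉ G₀ := by
    intro hx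
    -- otherwise the Sylow 2-subgroups of `L` would be cyclic
    obtain ⟨P⟩ : Nonempty (Sylow 2 SL(2, ZMod p)) := inferInstance
    obtain ⟨k, hk, ⟨eq⟩⟩ := CfsgLib.SL2.sylow_two_quaternion hpodd P
    let ψ : ↥(P : Subgroup SL(2, ZMod p)) →* G :=
      L.subtype.comp (eSL.symm.toMonoidHom.comp (P : Subgroup SL(2, ZMod p)).subtype)
    have hψ : Function.Injective ψ :=
      Subtype.val_injective.comp (eSL.symm.injective.comp Subtype.val_injective)
    let ψ' : ↥(P : Subgroup SL(2, ZMod p)) →* C :=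
      ψ.codRestrict C fun a => (hLle _ (eSL.symm (a : SL(2, ZMod p))).2).1
    obtain ⟨Q, hQ⟩ := (P.isPGroup'.of_surjective ψ'.rangeRestrict ψ'.rangeRestrict_surjective).exists_le_sylow
    obtain ⟨c, hc⟩ := MulAction.exists_smul_eq C Q (S₁.subtype hS₁C)
    have hmem : ∀ a, c * ψ' a * c⁻¹ ∈ (Subgroup.zpowers (j d.x)) := by
      intro a
      have h0 : ψ' a ∈ G₀ := (hLle _ (eSL.symm (a : SL(2, ZMod p))).2).2
      have h1 : c * ψ' a * c⁻¹ ∈ (S₁.subtype hS₁C : Subgroup C) := by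
        rw [← hc, Sylow.coe_subgroup_smul]
        exact Subgroup.smul_mem_pointwise_smul _ (MulAut.conj c) _ (hQ ⟨a, rfl⟩)
      rw [Sylow.coe_subtype, Subgroup.mem_subgroupOf] at h1
      have h0' := hG₀.conj_mem _ h0 c
      obtain ⟨i, e | e⟩ := d.cases' ⟨_, h1⟩
      · exact ⟨i, (Subtype.ext (congrArg Subtype.val e :) : c * ψ' a * c⁻¹ = j (d.x ^ i)).trans (map_zpow j _ _) |>.symm⟩
      · exfalso
        rw [show c * ψ' a * c⁻¹ = j (d.x ^ i * d.y) from Subtype.ext (congrArg Subtype.val e :), map_mul,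
          map_zpow, Subgroup.mul_mem_cancel_left _ (zpow_mem hx i)] at h0'
        exact hy0 h0'
    have hab : ∀ a b : ↥(P : Subgroup SL(2, ZMod p)), a * b = b * a := by
      intro a b
      obtain ⟨i, hi⟩ := hmem a
      obtain ⟨i', hi'⟩ := hmem b
      have h := (Commute.zpow_zpow_self (j d.x) i i').eq
      rw [show j d.x ^ i = c * ψ' a * c⁻¹ from hi, show j d.x ^ i' = c * ψ' b * c⁻¹ from hi'] at h
      exact hψ (by
        have := congrArg Subtype.val ((Commute.conj_iff c).1 h : Commute (ψ' a) (ψ' b)).eq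
        rw [map_mul, map_mul]
        exact this)
    have := congrArg eq (hab (eq.symm (QuaternionGroup.a 1)) (eq.symm (QuaternionGroup.xa 0)))
    rw [map_mul, map_mul, eq.apply_symm_apply, eq.apply_symm_apply, QuaternionGroup.a_mul_xa,
      QuaternionGroup.xa_mul_a] at this
    have h2 : (2 : ZMod (2 * 2 ^ k)) = 0 := by
      have e := QuaternionGroup.xa.inj this
      linear_combination -e
    have h4 : (2 * 2 ^ k : ℕ) ∣ 2 := (ZMod.natCast_eq_zero_iff 2 _).1 (by exact_mod_cast h2)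
    have := Nat.le_of_dvd two_pos h4
    have := Nat.pow_le_pow_right two_pos hk
    omega
  have hxi : ∀ i : ℤ, j (d.x ^ i) ∈ G₀ ↔ Even i := by
    intro i
    have h2 : ∀ i : ℤ, j d.x ^ (2 * i) ∈ G₀ := fun i => by
      rw [_root_.zpow_mul, zpow_two]; exact zpow_mem (hsq _) i
    rw [map_zpow]
    rcases Int.even_or_odd' i with ⟨k, rfl | rfl⟩
    · exact iff_of_true (h2 k) (even_two_mul k)
    · refine iff_of_false (fun hm => hx0 ?_) (by simp [Int.even_mul])
      rwa [_root_.zpow_add_one, Subgroup.mul_mem_cancel_left _ (h2 k)] at hm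
  -- elements of order four
  have hfour : ∀ g ∈ C, orderOf g = 4 → g ∈ L := by
    intro g hg hg4
    have hg0 : (⟨g, hg⟩ : C) ∈ G₀ := by
      have hp : IsPGroup 2 (Subgroup.zpowers (⟨g, hg⟩ : C)) :=
        IsPGroup.of_card (n := 2) (by rw [Nat.card_zpowers, Subgroup.orderOf_mk, hg4]; norm_num)
      obtain ⟨Q, hQ⟩ := hp.exists_le_sylow
      obtain ⟨c, hc⟩ := MulAction.exists_smul_eq C Q (S₁.subtype hS₁C)
      have h1 : c * ⟨g, hg⟩ * c⁻¹ ∈ (S₁.subtype hS₁C : Subgroup C) := by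
        rw [← hc, Sylow.coe_subgroup_smul]
        exact Subgroup.smul_mem_pointwise_smul _ (MulAut.conj c) _ (hQ (Subgroup.mem_zpowers _))
      rw [Sylow.coe_subtype, Subgroup.mem_subgroupOf] at h1
      have ho : orderOf (⟨_, h1⟩ : ↥(S₁ : Subgroup G)) = 4 := by
        rw [Subgroup.orderOf_mk, Subgroup.orderOf_coe, ← MulAut.conj_apply, MulEquiv.orderOf_eq,
          Subgroup.orderOf_mk, hg4]
      suffices hmem : c * ⟨g, hg⟩ * c⁻¹ ∈ G₀ by
        have h3 := hG₀.conj_mem _ hmem c⁻¹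
        rwa [show c⁻¹ * (c * ⟨g, hg⟩ * c⁻¹) * c⁻¹⁻¹ = ⟨g, hg⟩ by group] at h3
      obtain ⟨i, e | e⟩ := d.cases' ⟨_, h1⟩ <;> rw [e] at ho
      · rw [show c * ⟨g, hg⟩ * c⁻¹ = j (d.x ^ i) from Subtype.ext (congrArg Subtype.val e :), hxi]
        have h4 : 4 * d.q ∣ i * 4 := by
          rw [← d.zpow_eq_one_iff, _root_.zpow_mul, show (4 : ℤ) = ((4 : ℕ) : ℤ) from rfl, zpow_natCast, ← ho,
            pow_orderOf_eq_one]
        obtain ⟨w, hw⟩ := h4
        rw [show i = d.q * w by linarith]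
        exact hqeven.mul_right w
      · rw [show c * ⟨g, hg⟩ * c⁻¹ = j (d.x ^ i * d.y) from Subtype.ext (congrArg Subtype.val e :), map_mul,
          Subgroup.mul_mem_iff_of_index_two hidx2]
        refine iff_of_false (fun hm => ?_) hy0
        exact Int.not_even_iff_odd.2 (d.orderOf_ry_four.1 ho) ((hxi i).1 hm)
    refine hmemL g hg hg0 ?_
    have h4 : 4 ∣ Nat.card L := by
      have e : orderOf z₀ = 4 := by
        refine orderOf_eq_prime_pow (p := 2) (n := 1) ?_ ?_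
        · rw [pow_one, pow_two, hzz]; exact d.zpow_half_ne_one
        · rw [show (2 : ℕ) ^ (1 + 1) = 2 * 2 from rfl, pow_mul, pow_two z₀, hzz, pow_two, ← zpow_add,
            d.zpow_eq_one_iff]
          exact ⟨1, by ring⟩
      have hzG : j z₀ ∈ G₀ := (hxi d.q).2 hqeven
      have h1 : 4 ∣ Nat.card G₀ := by
        have := Subgroup.orderOf_dvd_natCard G₀ hzG
        rwa [show orderOf (j z₀) = 4 by rw [orderOf_injective j (Subgroup.inclusion_injective _), e]] at this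
      have hc := CfsgLib.Coprime.card_sup_mul_card_inf (K := L₀) (S := X₀)
        (by rw [Subgroup.normalizer_eq_top]; exact le_top)
      rw [sup_comm, hsup, inf_comm, hdis, Subgroup.card_bot, mul_one, Subgroup.card_top] at hc
      rw [hc, ← hLc] at h1
      exact (Nat.Coprime.pow_left 2 (Nat.coprime_two_left.2 hXo) : Nat.Coprime (2 ^ 2) _).dvd_of_dvd_mul_right h1
    obtain ⟨k, hk⟩ := h4
    rw [hk, pow_mul, ← hg4, pow_orderOf_eq_one, one_pow]
  refine ⟨⟨p, hpf, hp5, L, X, ⟨eSL⟩, fun l hl => (hLle l hl).1, fun x hx => (hXle x hx).1, hcomm,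
    hXc ▸ hXo, by rw [hXc, hLc]; exact hco, hnormL, htL, hfour, ?_⟩⟩
  intro s hs hso hst
  have hss : s * s = 1 := by rw [← pow_two, ← hso, pow_orderOf_eq_one]
  have hs1 : s ≠ 1 := fun e => by rw [e, orderOf_one] at hso; omega
  have hs0 := hout s hs hss hs1 hst
  have hgen : ∀ g ∈ C, ∃ x ∈ X, ∃ l ∈ L, g = x * l ∨ g = s * (x * l) := by
    intro g hg
    by_cases hg0 : (⟨g, hg⟩ : C) ∈ G₀
    · obtain ⟨x, hx, l, hl, e⟩ := hdec _ hg0
      exact ⟨x, hx, l, hl, Or.inl e⟩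
    · have hm : (⟨s, hs⟩ : C) * ⟨g, hg⟩ ∈ G₀ :=
        (Subgroup.mul_mem_iff_of_index_two hidx2).2 (iff_of_false hs0 hg0)
      obtain ⟨x, hx, l, hl, e⟩ := hdec _ hm
      refine ⟨x, hx, l, hl, Or.inr ?_⟩
      rw [← e, Subgroup.coe_mul, ← mul_assoc, hss, one_mul]
  -- `s` inverts `X`
  have hfixX : ∀ z ∈ X, s * z = z * s → z = 1 := by
    intro z hz hsz
    set K := Subgroup.zpowers s ⊔ L with hK
    have hsL : s ∉ L := fun hm => hs0 (hLle s hm).2
    have hKc : Nat.card K = Nat.card L * 2 := by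
      have hc := CfsgLib.Coprime.card_sup_mul_card_inf (K := L) (S := Subgroup.zpowers s) (by
        rw [Subgroup.zpowers_le]
        exact Subgroup.mem_normalizer_fintype fun l hl => hnormL s hs l hl)
      have hinf : L ⊓ Subgroup.zpowers s = ⊥ := by
        rw [Subgroup.eq_bot_iff_forall]
        rintro a ⟨ha, hb⟩
        obtain ⟨i, rfl⟩ := Subgroup.mem_zpowers_iff.1 hb
        rcases Int.even_or_odd i with ⟨w, rfl⟩ | ⟨w, rfl⟩
        · rw [← two_mul, _root_.zpow_mul, zpow_two, hss, one_zpow]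
        · rw [SetLike.mem_coe, _root_.zpow_add_one, _root_.zpow_mul, zpow_two, hss, one_zpow, one_mul] at ha
          exact absurd ha hsL
      rw [hinf, Subgroup.card_bot, mul_one, Nat.card_zpowers, hso] at hc
      rw [hK, sup_comm]; exact hc
    have hG₀c : Nat.card G₀ = Nat.card L * Nat.card X := by
      have hc := CfsgLib.Coprime.card_sup_mul_card_inf (K := L₀) (S := X₀)
        (by rw [Subgroup.normalizer_eq_top]; exact le_top)
      rw [sup_comm, hsup, inf_comm, hdis, Subgroup.card_bot, mul_one, Subgroup.card_top] at hc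
      rw [hc, hLc, hXc]
    obtain ⟨Q⟩ : Nonempty (Sylow 2 K) := inferInstance
    obtain ⟨P, hP⟩ := (Q.isPGroup'.map K.subtype).exists_le_sylow
    have hPeq : (P : Subgroup G) = (Q : Subgroup K).map K.subtype := by
      refine (Subgroup.eq_of_le_of_card_ge hP ?_).symm
      rw [← Nat.card_congr ((Q : Subgroup K).equivMapOfInjective K.subtype Subtype.val_injective).toEquiv,
        Q.card_eq_multiplicity]
      have hCc : Nat.card C = Nat.card K * Nat.card X := by
        rw [← G₀.card_mul_index, hidx2, hG₀c, hKc]; ring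
      have h1 : Nat.card (S₁ : Subgroup G) ∣ 2 ^ (Nat.card K).factorization 2 := by
        obtain ⟨k, hk⟩ := IsPGroup.iff_card.1 S₁.isPGroup'
        rw [hk]
        refine Nat.pow_dvd_pow 2 ((Nat.prime_two.pow_dvd_iff_le_factorization Nat.card_pos.ne').1 ?_)
        have := Subgroup.card_dvd_of_le hS₁C
        rw [hk, hCc] at this
        exact (Nat.Coprime.pow_left k (Nat.coprime_two_left.2 (hXc ▸ hXo))).dvd_of_dvd_mul_right this
      rw [P.card_eq_multiplicity, ← S₁.card_eq_multiplicity]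
      exact Nat.le_of_dvd (by positivity) h1
    have hPS : Cfsg.IsQuasiDihedral ↥(P : Subgroup G) := by
      obtain ⟨g, hg⟩ := MulAction.exists_smul_eq G S₁ P
      obtain ⟨n, hn, hcard, x, y, hx, hy, hxy⟩ := hS₁
      let e : ↥(S₁ : Subgroup G) ≃* ↥(P : Subgroup G) :=
        ((S₁ : Subgroup G).equivMapOfInjective (MulAut.conj g).toMonoidHom (MulAut.conj g).injective).trans
          (MulEquiv.subgroupCongr (by rw [← hg]; exact Sylow.coe_subgroup_smul.symm))
      exact ⟨n, hn, by rw [← Nat.card_congr e.toEquiv, hcard], e x, e y, by rw [MulEquiv.orderOf_eq, hx],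
        by rw [MulEquiv.orderOf_eq, hy], by rw [← map_inv, ← map_mul, ← map_mul, hxy, map_pow]⟩
    refine sd_cent_odd hna h P hPS ((hXc ▸ hXo).of_dvd_nat (Subgroup.orderOf_dvd_natCard X hz)) fun a ha => ?_
    rw [hPeq] at ha
    obtain ⟨a', -, rfl⟩ := Subgroup.mem_map.1 ha
    have hle : K ≤ Subgroup.centralizer ({z} : Set G) := sup_le
      (Subgroup.zpowers_le.2 (Subgroup.mem_centralizer_singleton_iff.2 hsz))
      fun l hl => Subgroup.mem_centralizer_singleton_iff.2 (hcomm z hz l hl).symm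
    exact Subgroup.mem_centralizer_singleton_iff.1 (hle a'.2)
  have hinvX : ∀ x ∈ X, s * x * s⁻¹ = x⁻¹ := by
    intro x hx
    rw [inv_eq_of_mul_eq_one_right hss]
    exact CfsgLib.OneToFive.inverts_of_fpf hss (fun c hc => by
      have := hnormX s hs c hc
      rwa [inv_eq_of_mul_eq_one_right hss] at this) hfixX x hx
  refine ⟨hgen, fun x hx l hl e => hs0 ?_, hinvX, ?_, ?_⟩
  · obtain ⟨hxC, hx0'⟩ := hXle x hx
    obtain ⟨hlC, hl0'⟩ := hLle l hl
    have := mul_mem hx0' hl0'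
    rwa [show (⟨x, hxC⟩ : C) * ⟨l, hlC⟩ = ⟨s, hs⟩ from Subtype.ext e] at this
  · -- an element of order four inverted by `s`
    have hp : IsPGroup 2 (Subgroup.zpowers (⟨s, hs⟩ : C)) :=
      IsPGroup.of_card (n := 1) (by rw [Nat.card_zpowers, Subgroup.orderOf_mk, hso, pow_one])
    obtain ⟨Q, hQ⟩ := hp.exists_le_sylow
    obtain ⟨c, hc⟩ := MulAction.exists_smul_eq C Q (S₁.subtype hS₁C)
    have h1 : c * ⟨s, hs⟩ * c⁻¹ ∈ (S₁.subtype hS₁C : Subgroup C) := by
      rw [← hc, Sylow.coe_subgroup_smul]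
      exact Subgroup.smul_mem_pointwise_smul _ (MulAut.conj c) _ (hQ (Subgroup.mem_zpowers _))
    rw [Sylow.coe_subtype, Subgroup.mem_subgroupOf] at h1
    obtain ⟨i, e | e⟩ := d.cases' ⟨_, h1⟩
    · exfalso
      have ho : orderOf (d.x ^ i) = 2 := by
        rw [← e, Subgroup.orderOf_mk, Subgroup.orderOf_coe, ← MulAut.conj_apply, MulEquiv.orderOf_eq,
          Subgroup.orderOf_mk, hso]
      have h4 := d.orderOf_r_two.1 ho
      rw [← d.zpow_eq_iff] at h4
      refine hst ?_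
      have e' : (c : G) * s * (c : G)⁻¹ = t := by
        have := congrArg Subtype.val e
        rw [h4, htx] at this
        exact this
      calc s = (c : G)⁻¹ * ((c : G) * s * (c : G)⁻¹) * c := by group
        _ = (c : G)⁻¹ * (t * c) := by rw [e', mul_assoc]
        _ = t := by rw [← (hmC.1 c.2).eq, inv_mul_cancel_left]
    have hinv0 : (d.x ^ i * d.y) * z₀ * (d.x ^ i * d.y)⁻¹ = z₀⁻¹ := by
      rw [hz₀, show d.x ^ i * d.y * d.x ^ d.q * (d.x ^ i * d.y)⁻¹ =
          d.x ^ i * (d.y * d.x ^ d.q * d.y⁻¹) * (d.x ^ i)⁻¹ by group, d.conj_zpow', ← zpow_add, ← zpow_neg,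
        ← zpow_add, ← zpow_neg, d.zpow_eq_iff]
      obtain ⟨r, -, hr⟩ := d.exists_half
      exact ⟨r, by rw [hr]; ring⟩
    have hinv' : ((c : G) * s * (c : G)⁻¹) * (z₀ : G) * ((c : G) * s * (c : G)⁻¹)⁻¹ = (z₀ : G)⁻¹ := by
      rw [show (c : G) * s * (c : G)⁻¹ = ((d.x ^ i * d.y : ↥(S₁ : Subgroup G)) : G) from congrArg Subtype.val e]
      exact congrArg Subtype.val hinv0
    have hzo : orderOf ((c : G)⁻¹ * (z₀ : G) * (c : G)) = 4 := by
      have e2 : orderOf z₀ = 4 := by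
        refine orderOf_eq_prime_pow (p := 2) (n := 1) ?_ ?_
        · rw [pow_one, pow_two, hzz]; exact d.zpow_half_ne_one
        · rw [show (2 : ℕ) ^ (1 + 1) = 2 * 2 from rfl, pow_mul, pow_two z₀, hzz, pow_two, ← zpow_add,
            d.zpow_eq_one_iff]
          exact ⟨1, by ring⟩
      rw [show (c : G)⁻¹ * (z₀ : G) * (c : G) = MulAut.conj (c : G)⁻¹ (z₀ : G) by simp, MulEquiv.orderOf_eq,
        Subgroup.orderOf_coe, e2]
    refine ⟨(c : G)⁻¹ * (z₀ : G) * c, hfour _ (mul_mem (mul_mem (inv_mem c.2) (hS₁C z₀.2)) c.2) hzo, hzo, ?_⟩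
    calc s * ((c : G)⁻¹ * (z₀ : G) * c) * s⁻¹
        = (c : G)⁻¹ * (((c : G) * s * (c : G)⁻¹) * (z₀ : G) * ((c : G) * s * (c : G)⁻¹)⁻¹) * c := by group
      _ = _ := by rw [hinv']; group
  · intro e he he4
    by_contra hcon
    push Not at hcon
    have hes : Commute e s := by
      have := hcon e he
      rw [mul_inv_cancel_right] at this
      exact (mul_inv_eq_iff_eq_mul.1 this).symm
    have he2 : e * e = t := hone _ (mul_mem he he)
      (by rw [← pow_two e, ← pow_add]; have := pow_orderOf_eq_one e; rwa [he4] at this)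
      (by rw [← pow_two]; exact pow_ne_one_of_lt_orderOf two_ne_zero (by omega))
    have hwC : e⁻¹ * s ∈ C := mul_mem (inv_mem (hLle e he).1) hs
    have hw2 : e⁻¹ * s * (e⁻¹ * s) = t := by
      rw [hes.inv_left.symm.mul_mul_mul_comm, hss, mul_one, ← mul_inv_rev, he2,
        inv_eq_of_mul_eq_one_right htt]
    have hw4 : orderOf (e⁻¹ * s) = 4 := by
      refine orderOf_eq_prime_pow (p := 2) (n := 1) ?_ ?_
      · rw [pow_one, pow_two, hw2]; exact ht1
      · rw [show (2 : ℕ) ^ (1 + 1) = 2 * 2 from rfl, pow_mul, pow_two (e⁻¹ * s), hw2, pow_two, htt]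
    have := mul_mem he (hfour _ hwC hw4)
    rw [mul_inv_cancel_left] at this
    exact hs0 (hLle s this).2

end CfsgLib.SuzukiCyclic
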