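import Cfsg.Agent.Lib.SuzukiCyclic.Defs

/-!
# The centraliser of an involution in the semidihedral case, not solvable

`C(t) = (X × L) ⟨s⟩` with `L ≅ SL₂(p)`, `X` odd and inverted by every involution `s ≠ t`.
-/

set_option autoImplicit false

universe u

namespace CfsgLib.SuzukiCyclic

/-- The structure of the centraliser of `t`. -/
structure CentData {G : Type u} [Group G] (t : G) where
  /-- The prime. -/
  p : ℕ
  fact : Fact p.Prime
  five : 5 ≤ p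
  /-- The component. -/
  L : Subgroup G
  /-- The odd core. -/
  X : Subgroup G
  /-- The isomorphism. -/
  equiv : Nonempty (↥L ≃* Matrix.SpecialLinearGroup (Fin 2) (ZMod p))
  L_le : L ≤ Subgroup.centralizer ({t} : Set G)
  X_le : X ≤ Subgroup.centralizer ({t} : Set G)
  comm : ∀ x ∈ X, ∀ l ∈ L, x * l = l * x
  odd_X : Odd (Nat.card X)
  coprime : (Nat.card X).Coprime (Nat.card L)
  norm_L : ∀ g ∈ Subgroup.centralizer ({t} : Set G), ∀ l ∈ L, g * l * g⁻¹ ∈ L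
  t_mem : t ∈ L
  four_mem : ∀ g ∈ Subgroup.centralizer ({t} : Set G), orderOf g = 4 → g ∈ L
  outer : ∀ s ∈ Subgroup.centralizer ({t} : Set G), orderOf s = 2 → s ≠ t →
    (∀ g ∈ Subgroup.centralizer ({t} : Set G),
      ∃ x ∈ X, ∃ l ∈ L, g = x * l ∨ g = s * (x * l)) ∧
    (∀ x ∈ X, ∀ l ∈ L, x * l ≠ s) ∧
    (∀ x ∈ X, s * x * s⁻¹ = x⁻¹) ∧
    (∃ z ∈ L, orderOf z = 4 ∧ s * z * s⁻¹ = z⁻¹) ∧
    (∀ e ∈ L, orderOf e = 4 → ∃ l ∈ L, s * l * s⁻¹ ≠ e * l * e⁻¹)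

end CfsgLib.SuzukiCyclic
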