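import Cfsg.Agent.Lib.SuzukiCyclic.Radical
import Cfsg.Agent.Lib.AutPSL.Structure
import Cfsg.Agent.Lib.MinNormal.SimpleConjugates
import Cfsg.Agent.Lib.MinNonCA.Multiplier
import Cfsg.Agent.Lib.MinNonCA.Radical
import Cfsg.Agent.Lib.SL2.Klein
import Cfsg.Agent.Lib.CIT.Radical

/-!
The shape of a nonsolvable group with cyclic odd Sylow subgroups and a cyclic subgroup of index at
most two in a Sylow 2-subgroup, given the simple sections.
-/

set_option autoImplicit false
set_option linter.style.haveILetI false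

universe u

open scoped commutatorElement MatrixGroups

namespace CfsgLib.SuzukiCyclic

/-- Twice the order of the projective group is the order of the special linear group. -/
theorem two_mul_card_psl {p : ℕ} [Fact p.Prime] (hp : 5 ≤ p) :
    2 * Nat.card (Matrix.ProjectiveSpecialLinearGroup (Fin 2) (ZMod p)) =
        Nat.card (Matrix.SpecialLinearGroup (Fin 2) (ZMod p)) ∧
      Nat.card (Matrix.SpecialLinearGroup (Fin 2) (ZMod p)) = p * ((p - 1) * (p + 1)) := by
  have ho : Odd p := (Fact.out (p := p.Prime)).odd_of_ne_two (by omega)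
  have h1 := CfsgLib.Classical.card_SL_eq_gcd_mul_card_PSL (ι := Fin 2) (F := ZMod p)
  obtain ⟨k, hk⟩ := ho
  have hg : Nat.gcd 2 (p - 1) = 2 := Nat.gcd_eq_left ⟨k, by omega⟩
  rw [Fintype.card_fin, Nat.card_zmod, hg] at h1
  refine ⟨h1.symm, ?_⟩
  rw [CfsgLib.SL2.card_SL_two', Nat.card_zmod]

theorem three_dvd_card {p : ℕ} [Fact p.Prime] (hp : 5 ≤ p) {T : Type*} [Group T]
    (e : T ≃* Matrix.ProjectiveSpecialLinearGroup (Fin 2) (ZMod p)) : 3 ∣ Nat.card T := by
  obtain ⟨h1, h2⟩ := two_mul_card_psl (p := p) hp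
  rw [h2, ← Nat.card_congr e.toEquiv] at h1
  have h3 : 3 ∣ p * ((p - 1) * (p + 1)) := by
    rcases (show p % 3 = 0 ∨ p % 3 = 1 ∨ p % 3 = 2 by omega) with h | h | h
    · exact (Nat.dvd_of_mod_eq_zero h).mul_right _
    · exact ((show 3 ∣ p - 1 by omega).mul_right _).mul_left _
    · exact ((show 3 ∣ p + 1 by omega).mul_left _).mul_left _
  rw [← h1] at h3
  exact (Nat.Coprime.dvd_of_dvd_mul_left (by norm_num) h3)

/-- An automorphism of `PSL₂(p)` is induced by a matrix. -/
theorem card_mulAut_psl_prime {p : ℕ} [Fact p.Prime] (hp : 5 ≤ p) {T : Type*} [Group T]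
    (e : T ≃* Matrix.ProjectiveSpecialLinearGroup (Fin 2) (ZMod p)) :
    Nat.card (MulAut T) = 2 * Nat.card T := by
  haveI : Fact (2 ≤ 2) := ⟨le_rfl⟩
  have hsurj : (CfsgLib.AutPSL.delta :
      GL (Fin 2) (ZMod p) →* MulAut (Matrix.ProjectiveSpecialLinearGroup (Fin 2) (ZMod p))).range = ⊤ := by
    refine eq_top_iff.2 fun β _ => ?_
    obtain ⟨g, σ, hβ⟩ := CfsgLib.AutPSL.exists_normal_form_two p β
    have hσ : σ = 1 := RingEquiv.ext fun x =>
      (RingHom.congr_fun (Subsingleton.elim σ.toRingHom (RingHom.id _)) x :)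
    exact ⟨g, by rw [hβ, hσ, map_one, mul_one]⟩
  rw [Nat.card_congr (MulAut.congr e).toEquiv, ← Nat.card_congr Subgroup.topEquiv.toEquiv, ← hsurj,
    CfsgLib.AutPSL.card_range_delta p le_rfl, CfsgLib.Classical.card_PGL_eq_card_SL,
    ← (two_mul_card_psl hp).1, Nat.card_congr e.toEquiv]

variable {G : Type u} [Group G] [Finite G]

set_option linter.unusedSectionVars false

/-- The simple sections no larger than `G`. -/
def SimpleSections (G : Type u) : Prop :=
  ∀ (T : Type u) [Group T] [Finite T] [IsSimpleGroup T], ¬ IsMulCommutative T → OddCyclic T →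
    TwoCyclicIndex T → Nat.card T ≤ Nat.card G → SimpleConcl T

/-- Two commuting subgroups with trivial intersection are not both divisible by three. -/
theorem not_three_three (h : OddCyclic G) {A B : Subgroup G}
    (hAB : ∀ a ∈ A, ∀ b ∈ B, a * b = b * a) (hinf : A ⊓ B = ⊥)
    (hA : 3 ∣ Nat.card A) (hB : 3 ∣ Nat.card B) : False := by
  haveI : Fact (Nat.Prime 3) := ⟨Nat.prime_three⟩
  obtain ⟨⟨a, ha⟩, hao⟩ := exists_prime_orderOf_dvd_card' (G := ↥A) 3 hA
  obtain ⟨⟨b, hb⟩, hbo⟩ := exists_prime_orderOf_dvd_card' (G := ↥B) 3 hB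
  rw [Subgroup.orderOf_mk] at hao hbo
  have hba := mem_zpowers_of_commute h Nat.prime_three (by norm_num) hao hbo (hAB a ha b hb)
  have hbA : b ∈ A ⊓ B := ⟨(Subgroup.zpowers_le.2 ha) hba, hb⟩
  rw [hinf, Subgroup.mem_bot] at hbA
  rw [hbA, orderOf_one] at hbo
  exact absurd hbo (by norm_num)

/-- The socle when the solvable radical is trivial. -/
theorem exists_socle {Q : Type u} [Group Q] [Finite Q] (hns : ¬ Group.IsSolvable Q) (h : OddCyclic Q)
    (h2 : TwoCyclicIndex Q) (hrad : ∀ N : Subgroup Q, N.Normal → Group.IsSolvable ↥N → N = ⊥)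
    (hle : Nat.card Q ≤ Nat.card G) (hsimp : SimpleSections G) :
    ∃ (M : Subgroup Q) (p : ℕ) (_ : Fact p.Prime), 5 ≤ p ∧ M.Normal ∧ IsSimpleGroup ↥M ∧
      Nonempty (↥M ≃* Matrix.ProjectiveSpecialLinearGroup (Fin 2) (ZMod p)) ∧
      Subgroup.centralizer (M : Set Q) = ⊥ := by
  -- every minimal normal subgroup is a simple group of order divisible by three
  have key : ∀ K : Subgroup Q, K.Normal → K ≠ ⊥ → ∃ M : Subgroup Q, M.Normal ∧ M ≤ K ∧
      IsSimpleGroup ↥M ∧ ¬ IsMulCommutative ↥M ∧ SimpleConcl ↥M := by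
    intro K hK hK0
    obtain ⟨M, hMn, hMK, hM0, hmin⟩ := CfsgLib.CIT.exists_minimal_normal_le hK hK0
    haveI := hMn
    have hna : ¬ IsMulCommutative ↥M := fun hc =>
      hM0 (hrad M hMn (Group.isSolvable_of_comm fun a b => hc.is_comm.comm a b))
    obtain ⟨L, d⟩ := CfsgLib.MinNormal.exists_simpleConjugates (M := M)
      (fun N hN h0 hNM => (hmin N hN hNM).resolve_left h0) hna
    have hcj : ∀ g, SimpleConcl ↥(CfsgLib.MinNormal.cj L g) := by
      intro g
      haveI := d.simple_cj g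
      exact hsimp _ (d.nab_cj g) (h.subgroup _) (h2.subgroup _)
        ((Subgroup.card_le_card_group _).trans hle)
    have hone : ∀ g, CfsgLib.MinNormal.cj L g = CfsgLib.MinNormal.cj L 1 := by
      intro g
      by_contra hne
      obtain ⟨p, hp, hp5, ⟨e⟩⟩ := hcj g
      obtain ⟨q, hq, hq5, ⟨e'⟩⟩ := hcj 1
      exact not_three_three h (d.comm g 1 hne) (d.inf g 1 hne) (three_dvd_card hp5 e)
        (three_dvd_card hq5 e')
    have hML : CfsgLib.MinNormal.cj L 1 = M := by
      conv_rhs => rw [← d.sup]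
      exact le_antisymm (le_iSup (CfsgLib.MinNormal.cj L) 1) (iSup_le fun g => (hone g).le)
    exact ⟨M, hMn, hMK, hML ▸ d.simple_cj 1, hna, hML ▸ hcj 1⟩
  haveI : Nontrivial Q := by
    by_contra hn
    rw [not_nontrivial_iff_subsingleton] at hn
    exact hns (Group.isSolvable_of_comm fun a b => Subsingleton.elim _ _)
  obtain ⟨M, hMn, -, hMs, hna, p, hp, hp5, ⟨e⟩⟩ := key ⊤ inferInstance top_ne_bot
  refine ⟨M, p, hp, hp5, hMn, hMs, ⟨e⟩, ?_⟩
  by_contra hC
  haveI := hMn
  obtain ⟨N, hNn, hNC, hNs, hNna, q, hq, hq5, ⟨e'⟩⟩ := key _ Subgroup.normal_centralizer hC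
  refine not_three_three h (A := M) (B := N)
    (fun a ha b hb => Subgroup.mem_centralizer_iff.1 (hNC hb) a ha) ?_ (three_dvd_card hp5 e)
    (three_dvd_card hq5 e')
  exact hrad _ inferInstance (Group.isSolvable_of_comm fun a b => Subtype.ext
    (Subgroup.mem_centralizer_iff.1 (hNC b.2.2) a a.2.1))

/-- A normal subgroup with trivial centraliser isomorphic to `PSL₂(p)` has index at most two. -/
theorem index_dvd_two {Q : Type*} [Group Q] [Finite Q] {p : ℕ} [Fact p.Prime] (hp : 5 ≤ p)
    (M : Subgroup Q) [M.Normal] (e : ↥M ≃* Matrix.ProjectiveSpecialLinearGroup (Fin 2) (ZMod p))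
    (hC : Subgroup.centralizer (M : Set Q) = ⊥) : M.index ∣ 2 := by
  have hinj : Function.Injective (MulAut.conjNormal : Q →* MulAut ↥M) := by
    refine (injective_iff_map_eq_one _).2 fun q hq => Subgroup.mem_bot.1 (hC ▸ ?_)
    rw [Subgroup.mem_centralizer_iff]
    intro m hm
    have := congrArg Subtype.val (MulEquiv.congr_fun hq ⟨m, hm⟩)
    rw [MulAut.conjNormal_apply] at this
    exact (mul_inv_eq_iff_eq_mul.1 (by simpa using this)).symm
  have h1 := Subgroup.card_dvd_of_injective _ hinj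
  rw [card_mulAut_psl_prime hp e, ← Subgroup.card_mul_index M, mul_comm 2] at h1
  exact (Nat.mul_dvd_mul_iff_left Nat.card_pos).1 h1

/-- A perfect central extension of `PSL₂(p)`. -/
theorem cover_psl {L : Type u} [Group L] [Finite L] (hperf : commutator L = ⊤) {p : ℕ} [Fact p.Prime]
    (hp : 5 ≤ p) (e : (L ⧸ Subgroup.center L) ≃* Matrix.ProjectiveSpecialLinearGroup (Fin 2) (ZMod p)) :
    Nat.card (Subgroup.center L) ∣ 2 ∧
      (Nonempty (L ≃* Matrix.ProjectiveSpecialLinearGroup (Fin 2) (ZMod p)) ∨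
       Nonempty (L ≃* Matrix.SpecialLinearGroup (Fin 2) (ZMod p))) := by
  have hpr : p.Prime := Fact.out
  have hc : Fintype.card (ZMod p) = p := ZMod.card p
  have hodd : Odd (Fintype.card (ZMod p)) := by rw [hc]; exact hpr.odd_of_ne_two (by omega)
  have h9 : Fintype.card (ZMod p) ≠ 9 := by
    rw [hc]
    rintro rfl
    exact absurd hpr (by norm_num)
  have hd : Nat.card (Subgroup.center L) ∣ 2 := by
    simpa using CfsgLib.MinNonCA.card_center_dvd hperf hodd (by omega) e
      (CfsgLib.Schur.hasTrivialMultiplier_SL_two (by omega) h9)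
  refine ⟨hd, ?_⟩
  rcases (Nat.dvd_prime Nat.prime_two).1 hd with h1 | h2
  · exact Or.inl ⟨(((QuotientGroup.quotientMulEquivOfEq (Subgroup.card_eq_one.1 h1)).trans
      QuotientGroup.quotientBot).symm).trans e⟩
  · obtain ⟨f⟩ := CfsgLib.MinNonCA.nonempty_sl2_equiv hperf hodd (by omega) h9 e (dvd_of_eq h2.symm)
    exact Or.inr ⟨f.symm⟩

/-- A group of odd order with cyclic Sylow subgroups is metacyclic. -/
theorem metacyclic_of_odd (h : OddCyclic G) (X : Subgroup G) (hodd : Odd (Nat.card X)) :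
    ∃ (C : Subgroup ↥X) (_ : C.Normal), IsCyclic C ∧ IsCyclic (↥X ⧸ C) := by
  haveI : IsZGroup ↥X := ⟨fun p hp P => by
    rcases eq_or_ne p 2 with rfl | h2
    · haveI := Fact.mk hp
      have hb : (P : Subgroup ↥X) = ⊥ := by
        obtain ⟨k, hk⟩ := P.2.exists_card_eq
        rcases k with _ | k
        · exact Subgroup.eq_bot_of_card_eq _ (by rw [hk, pow_zero])
        · exfalso
          have hd : 2 ∣ Nat.card X :=
            (hk ▸ dvd_pow_self 2 k.succ_ne_zero).trans (Subgroup.card_subgroup_dvd_card _)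
          exact Nat.not_even_iff_odd.2 hodd (even_iff_two_dvd.2 hd)
      rw [hb]
      infer_instance
    · exact h.subgroup X p hp h2 P⟩
  exact ⟨commutator ↥X, inferInstance, IsZGroup.isCyclic_commutator ↥X,
    IsZGroup.isCyclic_abelianization (G := ↥X)⟩

/-- The shape, given the simple sections. -/
theorem shape_of_simpleSections (hns : ¬ Group.IsSolvable G) (h : OddCyclic G)
    (h2 : TwoCyclicIndex G) (hsimp : SimpleSections G) : Shape G := by
  set R : Subgroup G := Cfsg.solvableRadical G with hRdef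
  haveI hRn : R.Normal := CfsgLib.Layer.solvableRadical_normal G
  have hRs : Group.IsSolvable ↥R := CfsgLib.Layer.solvableRadical_isSolvable
  let π : G →* G ⧸ R := QuotientGroup.mk' R
  have hπ : Function.Surjective π := QuotientGroup.mk'_surjective R
  have hrad : ∀ N : Subgroup (G ⧸ R), N.Normal → Group.IsSolvable ↥N → N = ⊥ := by
    intro N hN hNs
    haveI := hNs
    haveI := hRs
    have hs : Group.IsSolvable ↥(N.comap π) := by
      haveI : Group.IsSolvable ↥(π.ker.subgroupOf (N.comap π)) := by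
        refine Group.isSolvable_of_isSolvable_injective
          (f := (Subgroup.inclusion (show π.ker ≤ R from (QuotientGroup.ker_mk' R).le)).comp
            (Subgroup.subgroupOfEquivOfLe (Subgroup.ker_le_comap π N)).toMonoidHom)
          ((Subgroup.inclusion_injective (show π.ker ≤ R from (QuotientGroup.ker_mk' R).le)).comp (MulEquiv.injective _))
      refine Group.isSolvable_of_ker_le_range (π.ker.subgroupOf (N.comap π)).subtype
        (π.subgroupComap N) ?_
      intro x hx
      rw [Subgroup.range_subtype, Subgroup.mem_subgroupOf, MonoidHom.mem_ker]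
      exact congrArg Subtype.val hx
    have hle : N.comap π ≤ R := CfsgLib.Layer.le_solvableRadical (hN.comap π) hs
    rw [eq_bot_iff, ← Subgroup.map_comap_eq_self_of_surjective hπ N,
      Subgroup.map_le_iff_le_comap]
    intro x hx
    rw [Subgroup.mem_comap, Subgroup.mem_bot]
    exact (QuotientGroup.eq_one_iff x).2 (hle hx)
  have hnsQ : ¬ Group.IsSolvable (G ⧸ R) := fun hs => hns (by
    haveI := hRs
    haveI := hs
    exact Group.isSolvable_of_ker_le_range R.subtype π
      (by rw [QuotientGroup.ker_mk', Subgroup.range_subtype]))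
  obtain ⟨M, p, hp, hp5, hMn, hMs, ⟨e⟩, hMC⟩ := exists_socle (G := G) hnsQ (h.of_surjective π hπ)
    (h2.of_surjective π hπ) hrad
    (Nat.le_of_dvd Nat.card_pos (Subgroup.card_dvd_of_surjective π hπ)) hsimp
  haveI := hMn
  haveI := hMs
  set G₀ : Subgroup G := M.comap π with hG₀
  haveI hG₀n : G₀.Normal := hMn.comap π
  have hRG₀ : R ≤ G₀ := fun x hx => by
    rw [hG₀, Subgroup.mem_comap]
    rw [show π x = 1 from (QuotientGroup.eq_one_iff x).2 hx]
    exact one_mem M
  have hMns : ¬ Group.IsSolvable ↥M := fun hs => by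
    have := hrad M hMn hs
    exact absurd (three_dvd_card hp5 e) (by rw [this, Subgroup.card_bot]; norm_num)
  have hG₀ns : ¬ Group.IsSolvable ↥G₀ := fun hs => hMns (by
    haveI := hs
    exact Group.isSolvable_of_surjective (π.subgroupComap_surjective_of_surjective M hπ))
  obtain ⟨L, hLG₀, hLn, hLperf, hLns⟩ := CfsgLib.MinNonCA.exists_perfect_normal hG₀ns
  haveI := hLn
  haveI : (L.map π).Normal := Subgroup.Normal.map hLn π hπ
  have hLM : L.map π = M := by
    have hle : L.map π ≤ M := Subgroup.map_le_iff_le_comap.2 hLG₀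
    rcases (Subgroup.Normal.subgroupOf (H := L.map π) inferInstance M).eq_bot_or_eq_top with hb | ht
    · exfalso
      refine hLns ?_
      haveI := hRs
      refine Group.isSolvable_of_isSolvable_injective (Subgroup.inclusion_injective
        (show L ≤ R from fun x hx => (QuotientGroup.eq_one_iff x).1 ?_))
      have h1 : (⟨π x, hle (Subgroup.mem_map_of_mem π hx)⟩ : ↥M) ∈ (L.map π).subgroupOf M :=
        Subgroup.mem_map_of_mem π hx
      rw [hb, Subgroup.mem_bot] at h1
      exact congrArg Subtype.val h1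
    · exact le_antisymm hle (Subgroup.subgroupOf_eq_top.1 ht)
  have hperfL : commutator ↥L = ⊤ := Subgroup.map_injective L.subtype_injective (by
    rw [Subgroup.map_subtype_commutator, ← MonoidHom.range_eq_map, Subgroup.range_subtype, hLperf])
  haveI hRLs : Group.IsSolvable ↥(R.subgroupOf L) := by
    haveI := hRs
    exact Group.isSolvable_of_isSolvable_injective
      (f := ((L.subtype.comp (R.subgroupOf L).subtype).codRestrict R fun x => x.2))
      fun a b hab => Subtype.ext (Subtype.ext (congrArg Subtype.val hab :))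
  have hRLc : R.subgroupOf L ≤ Subgroup.center ↥L :=
    solvable_le_center hperfL (h.subgroup L) (h2.subgroup L) _ hRLs
  have hRL : ∀ r ∈ R, ∀ l ∈ L, r * l = l * r := by
    have h3 : ⁅L, R⁆ = ⊥ := by
      refine CfsgLib.Layer.commutator_eq_bot_of_perfect hLperf (eq_bot_iff.2 ?_)
      rw [Subgroup.commutator_le]
      intro a ha l hl
      rw [Subgroup.mem_bot, commutatorElement_eq_one_iff_mul_comm]
      have haL : a ∈ L := (Subgroup.commutator_le_left L R) ha
      have haR : a ∈ R := (Subgroup.commutator_le_right L R) ha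
      exact (congrArg Subtype.val
        (Subgroup.mem_center_iff.1 (hRLc (show (⟨a, haL⟩ : ↥L) ∈ R.subgroupOf L from haR))
          ⟨l, hl⟩)).symm
    intro r hr l hl
    exact (commutatorElement_eq_one_iff_mul_comm.1
      (Subgroup.mem_bot.1 (h3 ▸ Subgroup.commutator_mem_commutator hl hr))).symm
  -- the central quotient of `L`
  let φ : ↥L →* ↥M :=
    (π.comp L.subtype).codRestrict M fun x => hLM ▸ Subgroup.mem_map_of_mem π x.2
  have hφ : Function.Surjective φ := by
    rintro ⟨m, hm⟩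
    rw [← hLM] at hm
    obtain ⟨l, hl, rfl⟩ := hm
    exact ⟨⟨l, hl⟩, rfl⟩
  have hker : φ.ker = R.subgroupOf L := by
    ext x
    rw [MonoidHom.mem_ker, Subgroup.mem_subgroupOf, ← QuotientGroup.eq_one_iff (N := R)]
    exact ⟨fun hx => congrArg Subtype.val hx, fun hx => Subtype.ext hx⟩
  have hna : ¬ IsMulCommutative ↥M := fun hc =>
    hMns (Group.isSolvable_of_comm fun a b => hc.is_comm.comm a b)
  have hcenter : Subgroup.center ↥L = R.subgroupOf L := by
    refine le_antisymm (fun x hx => ?_) hRLc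
    rw [← hker, MonoidHom.mem_ker]
    have hc : φ x ∈ Subgroup.center ↥M := by
      rw [Subgroup.mem_center_iff]
      intro m
      obtain ⟨y, rfl⟩ := hφ m
      rw [← map_mul, ← map_mul, Subgroup.mem_center_iff.1 hx y]
    rcases (inferInstance : (Subgroup.center ↥M).Normal).eq_bot_or_eq_top with hb | ht
    · rwa [hb, Subgroup.mem_bot] at hc
    · exact absurd ⟨⟨fun a b => (Subgroup.mem_center_iff.1 (ht ▸ Subgroup.mem_top a) b).symm⟩⟩ hna
  let eL : (↥L ⧸ Subgroup.center ↥L) ≃* Matrix.ProjectiveSpecialLinearGroup (Fin 2) (ZMod p) :=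
    ((QuotientGroup.quotientMulEquivOfEq (hcenter.trans hker.symm)).trans
      (QuotientGroup.quotientKerEquivOfSurjective φ hφ)).trans e
  obtain ⟨hZ, hLiso⟩ := cover_psl hperfL hp5 eL
  -- the image of the radical modulo `L` has odd order
  haveI : Fact (Nat.Prime 2) := ⟨Nat.prime_two⟩
  have hodd : Odd (Nat.card ↥(R.map (QuotientGroup.mk' L))) := by
    rw [← Nat.not_even_iff_odd, even_iff_two_dvd]
    intro hd
    obtain ⟨⟨x, hx⟩, hxo⟩ := exists_prime_orderOf_dvd_card' (G := ↥(R.map (QuotientGroup.mk' L))) 2 hd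
    rw [Subgroup.orderOf_mk] at hxo
    obtain ⟨V, hV4, hVV⟩ : ∃ V : Subgroup (Matrix.ProjectiveSpecialLinearGroup (Fin 2) (ZMod p)),
        Nat.card V = 4 ∧ ∀ v ∈ V, v * v = 1 := by
      have hoF : Odd (Nat.card (ZMod p)) := by
        rw [Nat.card_zmod]
        exact hp.out.odd_of_ne_two (by omega)
      have h12 := CfsgLib.SL2.twelve_mul_card_klein (F := ZMod p) hoF
      obtain ⟨⟨V, hV⟩⟩ : Nonempty {V : Subgroup (Matrix.ProjectiveSpecialLinearGroup (Fin 2) (ZMod p)) //
          IsKleinFour V} := by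
        by_contra hn
        rw [not_nonempty_iff] at hn
        rw [Nat.card_of_isEmpty, mul_zero] at h12
        exact Nat.card_pos.ne h12
      refine ⟨V, hV.card_four, fun v hv => ?_⟩
      rcases eq_or_ne v 1 with rfl | hv1
      · exact mul_one 1
      · exact (CfsgLib.SL2.invol_of_mem_klein hV hv hv1).1
    let W : Subgroup (G ⧸ R) := V.map (M.subtype.comp e.symm.toMonoidHom)
    have hWM : W ≤ M := by
      rintro _ ⟨v, -, rfl⟩
      exact (e.symm v).2
    have hW4 : Nat.card W = 4 := by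
      rw [Subgroup.card_map_of_injective (f := M.subtype.comp e.symm.toMonoidHom)
        (fun a b hab => e.symm.injective (Subtype.ext hab)), hV4]
    let ψ : G →* (G ⧸ L) × (G ⧸ R) := (QuotientGroup.mk' L).prod π
    let E : Subgroup ((G ⧸ L) × (G ⧸ R)) := (Subgroup.zpowers x).prod W
    have hE : E ≤ ψ.range := by
      rintro ⟨a, b⟩ ⟨ha, hb⟩
      obtain ⟨r, hr, hra⟩ : a ∈ R.map (QuotientGroup.mk' L) := (Subgroup.zpowers_le.2 hx) ha
      obtain ⟨l, hl, hlb⟩ : b ∈ L.map π := hLM ▸ hWM hb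
      refine ⟨r * l, Prod.ext ?_ ?_⟩
      · show QuotientGroup.mk' L (r * l) = a
        rw [map_mul, hra, show QuotientGroup.mk' L l = 1 from (QuotientGroup.eq_one_iff l).2 hl,
          mul_one]
      · show π (r * l) = b
        rw [map_mul, hlb, show π r = 1 from (QuotientGroup.eq_one_iff r).2 hr, one_mul]
    have hx2 : ∀ a ∈ Subgroup.zpowers x, a ^ 2 = 1 := by
      rintro _ ⟨k, rfl⟩
      rw [← zpow_natCast, ← zpow_mul, mul_comm, zpow_mul, zpow_natCast, ← hxo, pow_orderOf_eq_one,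
        one_zpow]
    have hW2 : ∀ w ∈ W, w ^ 2 = 1 := by
      rintro _ ⟨v, hv, rfl⟩
      rw [← map_pow, pow_two, hVV v hv, map_one]
    have h8 := card_le_four_of_sq (h2.of_surjective ψ.rangeRestrict ψ.rangeRestrict_surjective)
      (E.subgroupOf ψ.range) fun y hy => Subtype.ext (Prod.ext (hx2 _ hy.1) (hW2 _ hy.2))
    rw [Nat.card_congr (Subgroup.subgroupOfEquivOfLe hE).toEquiv,
      Nat.card_congr ((Subgroup.zpowers x).prodEquiv W).toEquiv, Nat.card_prod, Nat.card_zpowers,
      hxo, hW4] at h8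
    omega
  -- the odd complement of the centre of `L` in the radical
  set Z : Subgroup ↥R := L.subgroupOf R with hZdef
  have hZc : Nat.card Z ∣ 2 := by
    have h1 : Nat.card ↥Z = Nat.card ↥(R.subgroupOf L) := Nat.card_congr
      { toFun := fun z => ⟨⟨z.1.1, z.2⟩, z.1.2⟩, invFun := fun z => ⟨⟨z.1.1, z.2⟩, z.1.2⟩
        left_inv := fun _ => rfl, right_inv := fun _ => rfl }
    rw [h1, ← hcenter]
    exact hZ
  have hZi : Odd Z.index := by
    have hk : ((QuotientGroup.mk' L).comp R.subtype).ker = Z := by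
      rw [← MonoidHom.comap_ker, QuotientGroup.ker_mk']
      rfl
    rw [← hk, Subgroup.index_ker, MonoidHom.range_comp, Subgroup.range_subtype]
    exact hodd
  have hcop : (Nat.card Z).Coprime Z.index :=
    (Nat.coprime_two_left.2 hZi).coprime_dvd_left hZc
  obtain ⟨X₀, hX₀⟩ := Subgroup.exists_right_complement'_of_coprime hcop
  set X : Subgroup G := X₀.map R.subtype with hX
  have hXR : X ≤ R := Subgroup.map_subtype_le X₀
  have hXodd : Odd (Nat.card X) := by
    rw [hX, Nat.card_congr (Subgroup.equivMapOfInjective X₀ _ R.subtype_injective).symm.toEquiv,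
      ← hX₀.symm.index_eq_card]
    exact hZi
  have hXL : X ⊓ L = ⊥ := by
    rw [eq_bot_iff]
    rintro g ⟨⟨y, hy, rfl⟩, hgL⟩
    have : y ∈ Z ⊓ X₀ := ⟨hgL, hy⟩
    rw [hX₀.disjoint.eq_bot, Subgroup.mem_bot] at this
    rw [Subgroup.mem_bot, this]
    rfl
  have hRXL : R ≤ X ⊔ L := by
    intro r hr
    have h1 : (⟨r, hr⟩ : ↥R) ∈ Z ⊔ X₀ := hX₀.sup_eq_top ▸ Subgroup.mem_top _
    have h2' := Subgroup.mem_map_of_mem R.subtype h1
    rw [Subgroup.map_sup] at h2'
    exact (sup_le ((Subgroup.map_le_iff_le_comap.2 fun z hz => hz).trans le_sup_right)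
      le_sup_left) h2'
  have hG₀eq : G₀ = X ⊔ L := by
    refine le_antisymm ?_ (sup_le (hXR.trans hRG₀) hLG₀)
    intro g hg
    obtain ⟨l, hl, hlg⟩ : π g ∈ L.map π := hLM ▸ hg
    have hr : l⁻¹ * g ∈ R := by
      rw [← QuotientGroup.eq_one_iff (N := R)]
      show π (l⁻¹ * g) = 1
      rw [map_mul, map_inv, hlg, inv_mul_cancel]
    have := mul_mem (show l ∈ X ⊔ L from le_sup_right (a := X) hl) (hRXL hr)
    rwa [mul_inv_cancel_left] at this
  have hXnorm : G₀ ≤ Subgroup.normalizer (X : Set G) := by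
    rw [hG₀eq]
    refine sup_le Subgroup.le_normalizer ((le_trans ?_ (Subgroup.centralizer_le_normalizer _)))
    intro l hl
    rw [Subgroup.mem_centralizer_iff]
    exact fun y hy => hRL y (hXR hy) l hl
  have hXLcop : (Nat.card X).Coprime (Nat.card L) := by
    refine Nat.coprime_of_dvd fun q hq hqX hqL => ?_
    haveI := Fact.mk hq
    obtain ⟨⟨a, ha⟩, hao⟩ := exists_prime_orderOf_dvd_card' (G := ↥X) q hqX
    obtain ⟨⟨b, hb⟩, hbo⟩ := exists_prime_orderOf_dvd_card' (G := ↥L) q hqL
    rw [Subgroup.orderOf_mk] at hao hbo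
    have hq2 : q ≠ 2 := by
      rintro rfl
      exact Nat.not_even_iff_odd.2 hXodd (even_iff_two_dvd.2 hqX)
    have hbm := mem_zpowers_of_commute h hq hq2 hao hbo (hRL a (hXR ha) b hb)
    have : b ∈ X ⊓ L := ⟨(Subgroup.zpowers_le.2 ha) hbm, hb⟩
    rw [hXL, Subgroup.mem_bot] at this
    rw [this, orderOf_one] at hbo
    exact hq.one_lt.ne hbo
  refine ⟨G₀, hG₀n, ?_, X.subgroupOf G₀, L.subgroupOf G₀,
    Subgroup.normal_subgroupOf_of_le_normalizer hXnorm, inferInstance, ?_, ?_, ?_, ?_, ?_,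
    p, hp, hp5, ?_⟩
  · rw [hG₀, Subgroup.index_comap_of_surjective _ hπ]
    exact index_dvd_two hp5 M e hMC
  · rw [← Subgroup.inf_subgroupOf_right]
    simp only [Subgroup.subgroupOf, ← Subgroup.comap_inf]
    rw [eq_bot_iff]
    intro y hy
    have : (y : G) ∈ X ⊓ L := ⟨hy.1.1, hy.2⟩
    rw [hXL, Subgroup.mem_bot] at this
    exact Subgroup.mem_bot.2 (Subtype.ext this)
  · rw [← Subgroup.subgroupOf_sup (hXR.trans hRG₀) hLG₀, ← hG₀eq, Subgroup.subgroupOf_self]
  · rw [Nat.card_congr (Subgroup.subgroupOfEquivOfLe (hXR.trans hRG₀)).toEquiv,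
      Nat.card_congr (Subgroup.subgroupOfEquivOfLe hLG₀).toEquiv]
    exact hXLcop
  · rw [Nat.card_congr (Subgroup.subgroupOfEquivOfLe (hXR.trans hRG₀)).toEquiv]
    exact hXodd
  · exact metacyclic_of_odd (h.subgroup G₀) _
      (by rw [Nat.card_congr (Subgroup.subgroupOfEquivOfLe (hXR.trans hRG₀)).toEquiv]; exact hXodd)
  · exact hLiso.imp (fun ⟨f⟩ => ⟨(Subgroup.subgroupOfEquivOfLe hLG₀).trans f⟩)
      (fun ⟨f⟩ => ⟨(Subgroup.subgroupOfEquivOfLe hLG₀).trans f⟩)

end CfsgLib.SuzukiCyclic
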