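import Cfsg.Agent.Lib.SuzukiCyclic.SemiTools
import Cfsg.Agent.Lib.SuzukiCyclic.Split

/-!
The centraliser of an element of order three is solvable.
-/

set_option autoImplicit false
set_option linter.style.haveILetI false
set_option linter.unusedSectionVars false

universe u

namespace CfsgLib.SuzukiCyclic

open scoped MatrixGroups

/-- The centraliser of a non-central element of order three is solvable. -/
theorem solvable_cent_three {G : Type u} [Group G] [Finite G] (_h : OddCyclic G) (ih : SmallerShape G) {w : G}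
    (hw : orderOf w = 3) (hne : Subgroup.centralizer ({w} : Set G) ≠ ⊤) :
    Group.IsSolvable ↥(Subgroup.centralizer ({w} : Set G)) := by
  set C := Subgroup.centralizer ({w} : Set G) with hC
  by_contra hns
  obtain ⟨G₀, hG₀, hidx, X₀, L₀, hX₀, hL₀, hdis, hsup, hco, -, -, p, hpf, hp5, hiso⟩ := ih C hne hns
  haveI := hpf
  haveI := hX₀
  haveI := hL₀
  have hwC : w ∈ C := Subgroup.mem_centralizer_singleton_iff.2 rfl
  set w' : C := ⟨w, hwC⟩ with hw'
  have hw'o : orderOf w' = 3 := by rw [Subgroup.orderOf_mk, hw]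
  have hw'3 : w' ^ 3 = 1 := hw'o ▸ pow_orderOf_eq_one w'
  have hw'1 : w' ≠ 1 := fun e => by rw [e, orderOf_one] at hw'o; omega
  have hw0 : w' ∈ G₀ := by
    rcases (Nat.dvd_prime Nat.prime_two).1 hidx with e | e
    · rw [Subgroup.index_eq_one.1 e]; exact Subgroup.mem_top _
    · have h2 : w' * w' ∈ G₀ := Subgroup.mul_self_mem_of_index_two e w'
      have h4 : (w' * w') * (w' * w') = w' := by
        rw [← pow_two, ← pow_two, ← pow_mul, show 2 * 2 = 3 + 1 from rfl, pow_succ, hw'3, one_mul]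
      rw [← h4]; exact mul_mem h2 h2
  set w₀ : G₀ := ⟨w', hw0⟩ with hw₀
  have hw₀3 : w₀ ^ 3 = 1 := Subtype.ext hw'3
  have h3L : 3 ∣ Nat.card L₀ := by
    have hP : 3 ∣ Nat.card (Matrix.ProjectiveSpecialLinearGroup (Fin 2) (ZMod p)) :=
      three_dvd_card hp5 (MulEquiv.refl _)
    rcases hiso with h' | h' <;> obtain ⟨e⟩ := h'
    · rwa [Nat.card_congr e.toEquiv]
    · rw [Nat.card_congr e.toEquiv, ← (two_mul_card_psl hp5).1]
      exact hP.mul_left 2
  have hwL : w₀ ∈ L₀ := mem_of_pow_card hX₀ hL₀ hdis hsup hco (by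
    obtain ⟨k, hk⟩ := h3L; rw [hk, pow_mul, hw₀3, one_pow])
  have hcen : ∀ l : L₀, (⟨w₀, hwL⟩ : L₀) * l = l * ⟨w₀, hwL⟩ := fun l => by
    apply Subtype.ext; apply Subtype.ext; apply Subtype.ext
    exact (Subgroup.mem_centralizer_singleton_iff.1 ((l : G₀) : C).2).symm
  have hne1 : (⟨w₀, hwL⟩ : L₀) ≠ 1 := fun e => hw'1 (congrArg (fun a : L₀ => ((a : G₀) : C)) e)
  rcases hiso with h' | h' <;> obtain ⟨e⟩ := h'
  · have hc : e ⟨w₀, hwL⟩ ∈ Subgroup.center _ := Subgroup.mem_center_iff.2 fun g => by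
      obtain ⟨l, rfl⟩ := e.surjective g
      rw [← map_mul, ← map_mul, hcen]
    rw [center_psl_eq_bot hp5, Subgroup.mem_bot] at hc
    exact hne1 (e.injective (hc.trans (map_one e).symm))
  · have hc : e ⟨w₀, hwL⟩ ∈ Subgroup.center _ := Subgroup.mem_center_iff.2 fun g => by
      obtain ⟨l, rfl⟩ := e.surjective g
      rw [← map_mul, ← map_mul, hcen]
    have h3 : e ⟨w₀, hwL⟩ ^ 3 = 1 := by
      rw [← map_pow, show (⟨w₀, hwL⟩ : L₀) ^ 3 = 1 from Subtype.ext hw₀3, map_one]
    rcases CfsgLib.SL2.eq_one_or_eq_neg_one_of_mem_center _ hc with h1 | h1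
    · exact hne1 (e.injective (h1.trans (map_one e).symm))
    · have h2 : e ⟨w₀, hwL⟩ ^ 2 = 1 := by rw [h1, neg_one_sq]
      exact hne1 (e.injective ((eq_one_of_coprime h2 h3 (by norm_num)).trans (map_one e).symm))

end CfsgLib.SuzukiCyclic
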