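import Cfsg.Agent.Lib.SuzukiCyclic.DihedralCore
import Cfsg.Agent.Lib.PPrimeAbelian.Tools
import Cfsg.Agent.Lib.Invol.SolvableCore
import Cfsg.Agent.Lib.Transfer.Basic
import Cfsg.Agent.Lib.Fitting.Basic
import Cfsg.Agent.Lib.Char.TwoClassFrobenius

/-!
# A solvable group with a fused four group as Sylow 2-subgroup: the four group is normal modulo `O`

Each involution of the four group is a commutator with the fusing element, so it acts trivially on
the derived subgroup and on the derived quotient of the odd core, both cyclic, hence centralises it.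
-/

set_option autoImplicit false
set_option linter.unusedSectionVars false
set_option linter.style.haveILetI false

universe u

namespace CfsgLib.SuzukiCyclic

open Cfsg CfsgLib.Invol
open scoped commutatorElement

variable {H : Type u} [Group H] [Finite H]

/-- An involution which is a commutator centralises a normal Z-group of odd order. -/
theorem commute_of_commutator_invol (O : Subgroup H) [hOn : O.Normal] (hO : Odd (Nat.card O))
    (hz : IsZGroup O) {c g h : H} (hc : c = ⁅g, h⁆) (hc2 : c * c = 1) {x : H} (hx : x ∈ O) :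
    Commute c x := by
  haveI := hz
  haveI : IsCyclic (commutator O) := IsZGroup.isCyclic_commutator O
  haveI hq : IsCyclic (O ⧸ commutator O) := IsZGroup.isCyclic_abelianization (G := O)
  set D := (commutator O).map O.subtype with hD
  haveI hDn : D.Normal := ConjAct.normal_of_characteristic_of_normal
  have hDc : IsCyclic D := isCyclic_of_surjective _
    ((commutator O).equivMapOfInjective O.subtype O.subtype_injective).surjective
  have htopN : ∀ {G' : Type u} [Group G'] (K : Subgroup G'), K.Normal → ∀ a : G',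
      a ∈ Subgroup.normalizer (K : Set G') := fun K hK a => by
    haveI := hK
    rw [Subgroup.normalizer_eq_top]
    trivial
  have hDfix : ∀ d ∈ D, Commute c d := fun d hd =>
    hc ▸ commutator_commute hDc (htopN D hDn g) (htopN D hDn h) hd
  set f := QuotientGroup.mk' D with hf
  have hker : commutator O ≤ (f.comp O.subtype).ker := fun a ha => by
    rw [MonoidHom.mem_ker, MonoidHom.comp_apply, hf, QuotientGroup.mk'_apply, QuotientGroup.eq_one_iff]
    exact ⟨a, ha, rfl⟩
  have hOc : IsCyclic (O.map f) := by
    let φ : O ⧸ commutator O →* O.map f :=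
      QuotientGroup.lift (commutator O) (f.subgroupMap O) fun a ha => Subtype.ext (hker ha)
    exact isCyclic_of_surjective φ fun b => by
      obtain ⟨a, ha⟩ := f.subgroupMap_surjective O b
      exact ⟨QuotientGroup.mk a, ha⟩
  have hnf : (O.map f).Normal := hOn.map f (QuotientGroup.mk'_surjective D)
  have e := commutator_commute hOc (htopN _ hnf (f g)) (htopN _ hnf (f h)) (Subgroup.mem_map_of_mem f hx)
  rw [← map_commutatorElement, ← hc] at e
  set d := c * x * c⁻¹ * x⁻¹ with hd
  have hdD : d ∈ D := by
    rw [← QuotientGroup.eq_one_iff, ← QuotientGroup.mk'_apply, ← hf, hd, map_mul, map_mul, map_mul,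
      map_inv, map_inv, e.eq, mul_inv_cancel_right, mul_inv_cancel]
  have hcinv : c⁻¹ = c := inv_eq_of_mul_eq_one_right hc2
  have hdd : d * d = 1 := by
    have e1 : c * d * c⁻¹ = d := by rw [(hDfix d hdD).eq, mul_inv_cancel_right]
    have e2 : c * d * c⁻¹ = d⁻¹ := by
      rw [hd]
      calc c * (c * x * c⁻¹ * x⁻¹) * c⁻¹ = (c * c) * x * c⁻¹ * x⁻¹ * c⁻¹ := by group
        _ = x * c * x⁻¹ * c := by rw [hc2, one_mul, hcinv]
        _ = (c * x * c⁻¹ * x⁻¹)⁻¹ := by rw [mul_inv_rev, mul_inv_rev, mul_inv_rev, inv_inv, inv_inv, hcinv]; group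
    exact eq_inv_iff_mul_eq_one.1 (e1.symm.trans e2)
  have hdo : Odd (orderOf d) := hO.of_dvd_nat (O.orderOf_dvd_natCard (Subgroup.map_subtype_le _ hdD))
  exact mul_inv_eq_iff_eq_mul.1 (mul_inv_eq_one.1 (eq_one_of_odd_of_sq hdo hdd))

/-- **The four group is normal modulo the odd core.** -/
theorem conj_four_mem (hsol : Group.IsSolvable H) (h : OddCyclic H) {t s k : H} (ht : orderOf t = 2)
    (hs : orderOf s = 2) (hts : Commute t s) (hne : t ≠ s) (hkt : k * t * k⁻¹ = s)
    (hks : k * s * k⁻¹ = t * s)
    (hP : ∀ P : Subgroup H, IsPGroup 2 P → t ∈ P → s ∈ P → ∀ g ∈ P, g = 1 ∨ g = t ∨ g = s ∨ g = t * s) :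
    ∀ g : H, g * t * g⁻¹ = t ∨ g * t * g⁻¹ = s ∨ g * t * g⁻¹ = t * s := by
  haveI := Fact.mk Nat.prime_two
  intro g
  set O := oddCore H with hOdef
  haveI hOn : O.Normal := Transfer.pPrimeCore_normal 2 H
  have hO : Odd (Nat.card O) := Nat.coprime_two_right.1 (Transfer.pPrimeCore_coprime 2)
  have htt := mul_self_of_orderOf_two ht
  have hss := mul_self_of_orderOf_two hs
  have htss : t * s * (t * s) = 1 := by rw [hts.symm.mul_mul_mul_comm, htt, hss, one_mul]
  have hkts : k * (t * s) * k⁻¹ = t := by
    rw [show k * (t * s) * k⁻¹ = k * t * k⁻¹ * (k * s * k⁻¹) by group, hkt, hks, ← mul_assoc,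
      hts.symm.eq, mul_assoc, hss, mul_one]
  -- the four involutions centralise `O`
  have hct : ∀ x ∈ O, Commute t x := fun x hx => by
    refine commute_of_commutator_invol O hO (h.isZGroup hO) (g := k) (h := s) ?_ htt hx
    rw [commutatorElement_def, hks, inv_of_orderOf_two hs, mul_assoc, hss, mul_one]
  have hcs : ∀ x ∈ O, Commute s x := fun x hx => by
    refine commute_of_commutator_invol O hO (h.isZGroup hO) (g := k) (h := t * s) ?_ hss hx
    rw [commutatorElement_def, hkts, inv_eq_of_mul_eq_one_right htss, ← mul_assoc, htt, one_mul]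
  -- a Sylow subgroup is the four group
  have hcl : IsPGroup 2 (Subgroup.closure ({t, s} : Set H)) := by
    have hgen : ∀ b ∈ Subgroup.closure ({t, s} : Set H), Commute b t ∧ Commute b s := by
      intro b hb
      induction hb using Subgroup.closure_induction with
      | mem d hd =>
        rcases hd with rfl | rfl
        exacts [⟨Commute.refl _, hts⟩, ⟨hts.symm, Commute.refl _⟩]
      | one => exact ⟨Commute.one_left _, Commute.one_left _⟩
      | mul d e _ _ hd he => exact ⟨hd.1.mul_left he.1, hd.2.mul_left he.2⟩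
      | inv d _ hd => exact ⟨hd.1.inv_left, hd.2.inv_left⟩
    have hab : ∀ c ∈ Subgroup.closure ({t, s} : Set H), ∀ b ∈ Subgroup.closure ({t, s} : Set H),
        Commute c b := by
      intro c hc b hb
      induction hb using Subgroup.closure_induction with
      | mem d hd =>
        rcases hd with rfl | rfl
        exacts [(hgen c hc).1, (hgen c hc).2]
      | one => exact Commute.one_right _
      | mul d e _ _ hd he => exact hd.mul_right he
      | inv d _ hd => exact hd.inv_right
    have hsq : ∀ a ∈ Subgroup.closure ({t, s} : Set H), a * a = 1 := by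
      intro a ha
      induction ha using Subgroup.closure_induction with
      | mem b hb =>
        rcases hb with rfl | rfl
        exacts [htt, hss]
      | one => exact mul_one 1
      | mul b c hb hc hb' hc' => rw [(hab c hc b hb).mul_mul_mul_comm, hb', hc', one_mul]
      | inv b _ hb => rw [← mul_inv_rev, hb, inv_one]
    exact fun a => ⟨1, Subtype.ext (by rw [pow_one, pow_two]; exact hsq a a.2)⟩
  obtain ⟨P, hPle⟩ := hcl.exists_le_sylow
  have hPmem : ∀ a ∈ (P : Subgroup H), a = 1 ∨ a = t ∨ a = s ∨ a = t * s := hP _ P.2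
    (hPle (Subgroup.subset_closure (Set.mem_insert t _)))
    (hPle (Subgroup.subset_closure (Set.mem_insert_of_mem t rfl)))
  -- the 2-core of the quotient
  set f := QuotientGroup.mk' O with hf
  have hfk : ∀ a, f a = 1 ↔ a ∈ O := fun a => QuotientGroup.eq_one_iff a
  set Q := pCore 2 (H ⧸ O) with hQdef
  have hQn : Q.Normal := Fitting.pCore_normal 2
  have hQne : Q ≠ ⊥ := by
    intro e
    haveI : (Cfsg.pPrimeCore 2 H).Normal := hOn
    have hle := PPrimeAbelian.centralizer_core_le (q := 2) hsol
    rw [show Cfsg.pCore 2 (H ⧸ Cfsg.pPrimeCore 2 H) = ⊥ from e] at hle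
    have h1 : f t = 1 := Subgroup.mem_bot.1 (hle (Subgroup.mem_centralizer_iff.2 fun b hb => by
      rw [SetLike.mem_coe, Subgroup.mem_bot] at hb
      rw [hb, one_mul, mul_one]))
    have := hO.of_dvd_nat (O.orderOf_dvd_natCard ((hfk t).1 h1))
    rw [ht] at this
    exact absurd this (by decide)
  have hQP : ∀ b ∈ Q, b = 1 ∨ b = f t ∨ b = f s ∨ b = f (t * s) := by
    intro b hb
    have := TwoClass.pCore_le_sylow (P.mapSurjective (QuotientGroup.mk'_surjective O)) hb
    obtain ⟨a, ha, rfl⟩ := this
    rcases hPmem a ha with rfl | rfl | rfl | rfl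
    · exact Or.inl (map_one f)
    · exact Or.inr (Or.inl rfl)
    · exact Or.inr (Or.inr (Or.inl rfl))
    · exact Or.inr (Or.inr (Or.inr rfl))
  have hconj : ∀ (a : H), f a ∈ Q → ∀ y : H, f (y * a * y⁻¹) ∈ Q := fun a ha y => by
    rw [map_mul, map_mul, map_inv]
    exact hQn.conj_mem _ ha (f y)
  have htQ : f t ∈ Q := by
    obtain ⟨⟨b, hb⟩, hb1⟩ := Subgroup.ne_bot_iff_exists_ne_one.1 hQne
    rcases hQP b hb with e | e | e | e
    · exact absurd (Subtype.ext e) hb1
    · exact e ▸ hb
    · have h1 := hconj _ (e ▸ hb) k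
      rw [hks] at h1
      have h2 := hconj _ h1 k
      rwa [hkts] at h2
    · have h2 := hconj _ (e ▸ hb) k
      rwa [hkts] at h2
  set w := g * t * g⁻¹ with hw
  have hw2 : orderOf w = 2 := conj_orderOf_two ht g
  have hmk : ∀ v : H, f w = f v → v * v = 1 → (∀ x ∈ O, Commute v x) → w = v := by
    intro v e hv hcv
    have ho : w * v⁻¹ ∈ O := (hfk _).1 (by rw [map_mul, map_inv, e, mul_inv_cancel])
    set o := w * v⁻¹ with hodef
    have hwo : w = o * v := by rw [hodef, inv_mul_cancel_right]
    have hoo : o * o = 1 := by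
      have hww := mul_self_of_orderOf_two hw2
      rwa [hwo, (hcv o ho).mul_mul_mul_comm, hv, mul_one] at hww
    rw [hwo, eq_one_of_odd_of_sq (hO.of_dvd_nat (O.orderOf_dvd_natCard ho)) hoo, one_mul]
  have hcts : ∀ x ∈ O, Commute (t * s) x := fun x hx => (hct x hx).mul_left (hcs x hx)
  rcases hQP (f w) (hconj t htQ g) with e | e | e | e
  · exfalso
    have := hO.of_dvd_nat (O.orderOf_dvd_natCard ((hfk _).1 e))
    rw [hw2] at this
    exact absurd this (by decide)
  · exact Or.inl (hmk t e htt hct)
  · exact Or.inr (Or.inl (hmk s e hss hcs))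
  · exact Or.inr (Or.inr (hmk (t * s) e htss hcts))

end CfsgLib.SuzukiCyclic
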