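import Mathlib

/-!
# Signed trivial-intersection families

A `Family` is a subgroup `M` with a linear character `ω`, an involution `r` outside `M` which inverts `ω`,
such that the elements of `M` outside the kernel of `ω` form a trivial intersection set with
normaliser `M ∪ r M`. `invols` is the set of involutions of the coset `r M`.

`Semidihedral` derives a contradiction from two families without common elements.
-/

set_option autoImplicit false

universe u

namespace CfsgLib.SuzukiCyclic

/-- A trivial intersection family with a generalised character of norm three. -/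
structure Family (G : Type u) [Group G] where
  /-- The subgroup. -/
  M : Subgroup G
  /-- The linear character. -/
  om : ↥M →* ℂˣ
  /-- The involution outside `M`. -/
  r : G
  r_sq : r * r = 1
  r_notMem : r ∉ M
  r_mem : ∀ y ∈ M, r * y * r⁻¹ ∈ M
  om_r : ∀ y : ↥M, om ⟨r * y * r⁻¹, r_mem y y.2⟩ = (om y)⁻¹
  exists_sq_ne : ∃ y : ↥M, om y ^ 2 ≠ 1
  ti : ∀ (g : G) (y y' : ↥M), om y ≠ 1 → om y' ≠ 1 → g * y * g⁻¹ = y' → g ∈ M ∨ r * g ∈ M
  om_invol : ∀ y : ↥M, (y : G) * y = 1 → om y = 1
  not_inverted : ∀ i y : ↥M, om y ≠ 1 → (i : G) * i = 1 → (i : G) * y * (i : G)⁻¹ ≠ (y : G)⁻¹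

namespace Family

variable {G : Type u} [Group G] (F : Family G)

/-- The involutions of the outer coset. -/
def invols : Set G := {i : G | F.r * i ∈ F.M ∧ i * i = 1}

/-- Every element outside the kernel has a power of order four. -/
def HasFour : Prop := ∀ y : ↥F.M, F.om y ≠ 1 → ∃ e : ℕ, orderOf ((y : G) ^ e) = 4

/-- No element of the subgroup has order four. -/
def NoFour : Prop := ∀ y ∈ F.M, orderOf y ≠ 4

end Family

end CfsgLib.SuzukiCyclic
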