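import Cfsg.Agent.Lib.SuzukiCyclic.SemiFrame
import Cfsg.Agent.Lib.SuzukiCyclic.SemiFourNormal
import Cfsg.Agent.Lib.SuzukiCyclic.SemiCentThree
import Cfsg.Agent.Lib.SuzukiCyclic.TwoFamilies

/-!
# The semidihedral case with `3 ∣ half`: the family of the three-element

With `w` of order three in the torus `T = C_L(s)`, the solvable group `C(w)` has the four group `⟨t, s⟩`
normal modulo its odd core, so it permutes `⟨t, s⟩`.  Hence `X = 1`, `R = C(k) = ⟨k⟩ T'` (`T'` the odd part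
of `T`) is abelian of odd order at least `3 half` and inverted by `s z`; the elements of `R` moving `t`
form a trivial intersection set with normaliser `R ∪ s z R`.
-/

set_option autoImplicit false
set_option linter.unusedSectionVars false
set_option linter.style.haveILetI false

universe u

namespace CfsgLib.SuzukiCyclic

open Cfsg CfsgLib CfsgLib.Invol

variable {G : Type u} [Group G] [Finite G]

/-- Commuting elements of `p`-power order generate comparable subgroups. -/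
theorem mem_zpowers_or_of_commute (h : OddCyclic G) {p : ℕ} (hp : p.Prime) (hp2 : p ≠ 2) {a b : G}
    (ha : ∃ i, orderOf a = p ^ i) (hb : ∃ i, orderOf b = p ^ i) (hab : Commute a b) :
    b ∈ Subgroup.zpowers a ∨ a ∈ Subgroup.zpowers b := by
  haveI := Fact.mk hp
  obtain ⟨i, hi⟩ := ha
  obtain ⟨j, hj⟩ := hb
  have hle : Subgroup.zpowers b ≤ Subgroup.normalizer (Subgroup.zpowers a : Set G) := by
    refine le_trans ?_ (Subgroup.centralizer_le_normalizer _)
    rw [Subgroup.zpowers_le, Subgroup.mem_centralizer_iff]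
    rintro _ ⟨n, rfl⟩
    exact (hab.zpow_left n).eq
  obtain ⟨P, hP⟩ := ((IsPGroup.of_card (by rw [Nat.card_zpowers, hi])).to_sup_of_normal_left'
    (IsPGroup.of_card (by rw [Nat.card_zpowers, hj])) hle).exists_le_sylow
  haveI := h p hp hp2 P
  have haP := le_sup_left.trans hP
  have hbP := le_sup_right.trans hP
  have key : ∀ {x y : G} {m n : ℕ}, orderOf x = p ^ m → orderOf y = p ^ n → m ≤ n →
      Subgroup.zpowers x ≤ (P : Subgroup G) → Subgroup.zpowers y ≤ (P : Subgroup G) →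
      x ∈ Subgroup.zpowers y := by
    intro x y m n hx hy hmn hxP hyP
    have hsub : Subgroup.zpowers (y ^ p ^ (n - m)) ≤ Subgroup.zpowers y :=
      Subgroup.zpowers_le.2 (Subgroup.pow_mem _ (Subgroup.mem_zpowers y) _)
    have e := PByCyclic.eq_of_card_eq_in_cyclic hxP (hsub.trans hyP) (by
      rw [Nat.card_zpowers, Nat.card_zpowers, hx, orderOf_pow' _ (pow_ne_zero _ hp.ne_zero), hy,
        Nat.gcd_eq_right (pow_dvd_pow p (Nat.sub_le n m)), Nat.pow_div (Nat.sub_le n m) hp.pos,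
        Nat.sub_sub_self hmn])
    exact hsub (e ▸ Subgroup.mem_zpowers x)
  rcases le_total i j with hij | hij
  · exact Or.inr (key hi hj hij haP hbP)
  · exact Or.inl (key hj hi hij hbP haP)

namespace Frame

variable {t : G} {d : CentData t} (f : Frame d)

/-- The torus elements of odd order. -/
def torus : Subgroup G where
  carrier := {g | g ∈ d.L ∧ Commute g f.s ∧ g ^ d.half = 1}
  one_mem' := ⟨one_mem _, Commute.one_left _, one_pow _⟩
  mul_mem' := by
    rintro a b ⟨ha, has, ha'⟩ ⟨hb, hbs, hb'⟩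
    refine ⟨mul_mem ha hb, has.mul_left hbs, ?_⟩
    rw [((d.torus_facts f.s_t f.order_s f.s_ne).2.1 a ha b hb has hbs).mul_pow, ha', hb', one_mul]
  inv_mem' := by
    rintro a ⟨ha, has, ha'⟩
    exact ⟨inv_mem ha, has.inv_left, by rw [inv_pow, ha', inv_one]⟩

theorem torus_comm_t {q : G} (hq : q ∈ f.torus) : Commute q t := d.L_comm_t hq.1

theorem torus_odd {q : G} (hq : q ∈ f.torus) : Odd (orderOf q) :=
  d.half_facts.2.1.of_dvd_nat (orderOf_dvd_of_pow_eq_one hq.2.2)

theorem torus_comm_k (h : OddCyclic G) {q : G} (hq : q ∈ f.torus) : Commute f.k q :=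
  f.k_comm h hq.1 hq.2.1 (f.torus_odd hq)

include f in
theorem t_ne_one : t ≠ 1 := fun e => by
  have := f.order_t
  rw [e, orderOf_one] at this
  norm_num at this

theorem s_ne_one : f.s ≠ 1 := fun e => by
  have := f.order_s
  rw [e, orderOf_one] at this
  norm_num at this

theorem ts_ne : t * f.s ≠ t ∧ t * f.s ≠ f.s :=
  ⟨fun e => f.s_ne_one (mul_eq_left.1 e), fun e => f.t_ne_one (mul_eq_right.1 e)⟩

/-- A torus element is an element of the odd part, possibly times `t`. -/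
theorem cases_L {l : G} (hl : l ∈ d.L) (hls : Commute l f.s) : l ∈ f.torus ∨ t * l ∈ f.torus := by
  rcases d.pow_half f.s_t f.order_s f.s_ne hl hls with h1 | h1
  · exact Or.inl ⟨hl, hls, h1⟩
  · refine Or.inr ⟨mul_mem d.t_mem hl, f.s_t.symm.mul_left hls, ?_⟩
    obtain ⟨a, ha⟩ := d.half_facts.2.1
    rw [(show Commute t l from (d.L_comm_t hl).symm).mul_pow, h1, ha, pow_succ, pow_mul, pow_two, f.tt,
      one_pow, one_mul, f.tt]

/-- The centraliser of the four group. -/
theorem cases_cent {g : G} (hgt : Commute g t) (hgs : Commute g f.s) :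
    ∃ q ∈ f.torus, ∃ v, (v = 1 ∨ v = t ∨ v = f.s ∨ v = t * f.s) ∧ g = v * q := by
  obtain ⟨l, hl, hls, hg⟩ := d.cent_four f.s_t f.order_s f.s_ne hgt hgs
  rcases f.cases_L hl hls with hq | hq
  · rcases hg with rfl | rfl
    · exact ⟨g, hq, 1, Or.inl rfl, (one_mul g).symm⟩
    · exact ⟨l, hq, f.s, Or.inr (Or.inr (Or.inl rfl)), rfl⟩
  · rcases hg with rfl | rfl
    · exact ⟨t * g, hq, t, Or.inr (Or.inl rfl), by rw [← mul_assoc, f.tt, one_mul]⟩
    · refine ⟨t * l, hq, t * f.s, Or.inr (Or.inr (Or.inr rfl)), ?_⟩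
      rw [← f.s_t.eq, mul_assoc, ← mul_assoc t t l, f.tt, one_mul]

theorem pow_three_comm : Commute (f.k ^ 3) t := by
  have e : f.k ^ 3 * t * (f.k ^ 3)⁻¹ = t := by
    rw [show f.k ^ 3 * t * (f.k ^ 3)⁻¹ = f.k * (f.k * (f.k * t * f.k⁻¹) * f.k⁻¹) * f.k⁻¹ by
      simp only [pow_succ, pow_zero, one_mul]; group, f.k_t, f.k_s, f.ts_conj_s]
  exact mul_inv_eq_iff_eq_mul.1 e

/-- The action of the powers of `k` on `t`. -/
theorem k_pow_t (n : ℕ) :
    (n % 3 = 0 → f.k ^ n * t * (f.k ^ n)⁻¹ = t) ∧ (n % 3 = 1 → f.k ^ n * t * (f.k ^ n)⁻¹ = f.s) ∧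
      (n % 3 = 2 → f.k ^ n * t * (f.k ^ n)⁻¹ = t * f.s) := by
  have hc : Commute (f.k ^ (3 * (n / 3))) t := by
    rw [pow_mul]
    exact f.pow_three_comm.pow_left _
  have e : f.k ^ n * t * (f.k ^ n)⁻¹ = f.k ^ (n % 3) * t * (f.k ^ (n % 3))⁻¹ := by
    conv_lhs => rw [← Nat.mod_add_div n 3, pow_add]
    rw [mul_inv_rev, show f.k ^ (n % 3) * f.k ^ (3 * (n / 3)) * t *
      ((f.k ^ (3 * (n / 3)))⁻¹ * (f.k ^ (n % 3))⁻¹) = f.k ^ (n % 3) *
        (f.k ^ (3 * (n / 3)) * t * (f.k ^ (3 * (n / 3)))⁻¹) * (f.k ^ (n % 3))⁻¹ by group, hc.eq,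
      mul_inv_cancel_right]
  refine ⟨fun h0 => ?_, fun h1 => ?_, fun h2 => ?_⟩
  · rw [e, h0]; group
  · rw [e, h1, pow_one, f.k_t]
  · rw [e, h2, show f.k ^ 2 * t * (f.k ^ 2)⁻¹ = f.k * (f.k * t * f.k⁻¹) * f.k⁻¹ by
      rw [pow_two]; group, f.k_t, f.k_s]

/-- No involution of the four group normalises `⟨k⟩`. -/
theorem four_not_norm {v : G} (hv : v = t ∨ v = f.s ∨ v = t * f.s) :
    v * f.k * v⁻¹ ∉ Subgroup.zpowers f.k := fun hm => by
  have hm' : v * f.k * v⁻¹ * f.k⁻¹ ∈ Subgroup.zpowers f.k :=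
    mul_mem hm (inv_mem (Subgroup.mem_zpowers _))
  obtain ⟨n, hn⟩ := hm'
  dsimp only at hn
  have hfix : ∀ y : G, y = f.k ^ n → f.k * y * f.k⁻¹ = y := fun y hy => by
    rw [hy]; group
  rcases hv with rfl | rfl | rfl
  · have e : v * f.k * v⁻¹ * f.k⁻¹ = v * f.s := by
      rw [show v * f.k * v⁻¹ * f.k⁻¹ = v * (f.k * v * f.k⁻¹)⁻¹ by group, f.k_t, f.s_inv]
    have := hfix _ (e.symm.trans hn.symm)
    rw [f.ts_conj_s] at this
    exact f.ts_ne.1 this.symm
  · have e : f.s * f.k * f.s⁻¹ * f.k⁻¹ = t := by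
      rw [show f.s * f.k * f.s⁻¹ * f.k⁻¹ = f.s * (f.k * f.s * f.k⁻¹)⁻¹ by group, f.k_s, mul_inv_rev,
        ← mul_assoc, f.s_inv, f.ss, one_mul, inv_eq_of_mul_eq_one_right f.tt]
    have := hfix _ (e.symm.trans hn.symm)
    rw [f.k_t] at this
    exact f.s_ne this
  · have e : t * f.s * f.k * (t * f.s)⁻¹ * f.k⁻¹ = f.s := by
      rw [show t * f.s * f.k * (t * f.s)⁻¹ * f.k⁻¹ = t * f.s * (f.k * (t * f.s) * f.k⁻¹)⁻¹ by group,
        f.ts_conj_s, inv_eq_of_mul_eq_one_right f.tt, ← f.s_t.eq, mul_assoc, f.tt, mul_one]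
    have := hfix _ (e.symm.trans hn.symm)
    rw [f.k_s] at this
    exact f.ts_ne.2 this

/-- An element fixing `t`, `s` and normalising `⟨k⟩` is a torus element of odd order. -/
theorem mem_torus (h : OddCyclic G) {g : G} (hgt : Commute g t) (hgs : Commute g f.s)
    (hgk : g * f.k * g⁻¹ ∈ Subgroup.zpowers f.k) : g ∈ f.torus := by
  obtain ⟨q, hq, v, hv, rfl⟩ := f.cases_cent hgt hgs
  rcases hv with rfl | hv
  · rwa [one_mul]
  · refine absurd ?_ (f.four_not_norm hv)
    rwa [show v * q * f.k * (v * q)⁻¹ = v * (q * f.k * q⁻¹) * v⁻¹ by group,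
      ← (f.torus_comm_k h hq).eq, mul_inv_cancel_right] at hgk

theorem k_ne_one : f.k ≠ 1 := fun e => by
  have := f.k_t
  rw [e] at this
  simp only [one_mul, inv_one, mul_one] at this
  exact f.s_ne this.symm

theorem k_not_comm : ¬ Commute f.k t := fun e => by
  have := f.k_t
  rw [e.eq, mul_inv_cancel_right] at this
  exact f.s_ne this.symm

/-- An element of the centraliser of `k` is a power of `k` times a torus element of odd order. -/
theorem cases_R (h : OddCyclic G) {g : G} (hg : Commute g f.k)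
    (hV : g * t * g⁻¹ = t ∨ g * t * g⁻¹ = f.s ∨ g * t * g⁻¹ = t * f.s) :
    ∃ n : ℕ, ∃ q ∈ f.torus, g = f.k ^ n * q := by
  have key : ∀ q, Commute q f.k → Commute q t → q ∈ f.torus := fun q hqk hqt => by
    refine f.mem_torus h hqt ?_ ?_
    · have := hqt.conj f.k
      rwa [f.k_t, hqk.symm.eq, mul_inv_cancel_right] at this
    · rw [hqk.eq, mul_inv_cancel_right]
      exact Subgroup.mem_zpowers _
  obtain ⟨n, hn⟩ : ∃ n : ℕ, f.k ^ n * t * (f.k ^ n)⁻¹ = g * t * g⁻¹ := by
    rcases hV with e | e | e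
    · exact ⟨0, ((f.k_pow_t 0).1 rfl).trans e.symm⟩
    · exact ⟨1, ((f.k_pow_t 1).2.1 rfl).trans e.symm⟩
    · exact ⟨2, ((f.k_pow_t 2).2.2 rfl).trans e.symm⟩
  refine ⟨n, (f.k ^ n)⁻¹ * g, key _ (((Commute.refl f.k).pow_left n).inv_left.mul_left hg) ?_,
    (mul_inv_cancel_left _ _).symm⟩
  have e : (f.k ^ n)⁻¹ * g * t * ((f.k ^ n)⁻¹ * g)⁻¹ = t := by
    rw [show (f.k ^ n)⁻¹ * g * t * ((f.k ^ n)⁻¹ * g)⁻¹ = (f.k ^ n)⁻¹ * (g * t * g⁻¹) * f.k ^ n by group,
      ← hn]
    group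
  exact mul_inv_eq_iff_eq_mul.1 e

include f in
/-- **The family of the three-element.** -/
theorem exists_three_family [IsSimpleGroup G] (hna : ¬ IsMulCommutative G) (h : OddCyclic G)
    (ih : SmallerShape G) (h3 : 3 ∣ d.half) :
    d.X = ⊥ ∧ ∃ F : Family G, F.NoFour ∧ (∀ y ∈ F.M, F.r * y * (F.r * y) = 1) ∧
      3 * d.half ≤ Nat.card F.M := by
  haveI := Fact.mk Nat.prime_two
  haveI := Fact.mk Nat.prime_three
  obtain ⟨hTc, hTcomm, -⟩ := d.torus_facts f.s_t f.order_s f.s_ne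
  -- the element of order three
  obtain ⟨⟨w, hwT⟩, hw'⟩ := exists_prime_orderOf_dvd_card'
    (G := ↥(d.L ⊓ Subgroup.centralizer ({f.s} : Set G))) 3
    (by rw [hTc, d.half_facts.1]; exact h3.mul_left 2)
  rw [Subgroup.orderOf_mk] at hw'
  have hwL : w ∈ d.L := hwT.1
  have hws : Commute w f.s := Subgroup.mem_centralizer_singleton_iff.1 hwT.2
  have hodd : Odd (orderOf w) := by rw [hw']; decide
  have hw1 : w ≠ 1 := fun e => by rw [e, orderOf_one] at hw'; omega
  have hkw : Commute f.k w := f.k_comm h hwL hws hodd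
  set C := Subgroup.centralizer ({w} : Set G) with hC
  have hCmem : ∀ {g : G}, g ∈ C ↔ Commute g w := fun {g} => Subgroup.mem_centralizer_singleton_iff
  have hCtop : C ≠ ⊤ := fun e => by
    rcases (inferInstance : (Subgroup.center G).Normal).eq_bot_or_eq_top with hb | ht
    · exact hw1 (Subgroup.mem_bot.1 (hb ▸ Subgroup.mem_center_iff.2 fun g =>
        (hCmem.1 (e ▸ Subgroup.mem_top g)).eq))
    · exact hna ⟨⟨fun a b => (Subgroup.mem_center_iff.1 (ht ▸ Subgroup.mem_top a) b).symm⟩⟩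
  have htw : Commute t w := (d.L_comm_t hwL).symm
  -- `C(w)` permutes the four group
  have hFour : ∀ g : G, Commute g w →
      g * t * g⁻¹ = t ∨ g * t * g⁻¹ = f.s ∨ g * t * g⁻¹ = t * f.s := by
    intro g hg
    have := conj_four_mem (H := ↥C) (solvable_cent_three h ih hw' hCtop) (h.subgroup C)
      (t := ⟨t, hCmem.2 htw⟩) (s := ⟨f.s, hCmem.2 hws.symm⟩) (k := ⟨f.k, hCmem.2 hkw⟩)
      (by rw [Subgroup.orderOf_mk, f.order_t]) (by rw [Subgroup.orderOf_mk, f.order_s])
      (Subtype.ext f.s_t.symm.eq) (fun e => f.s_ne (congrArg Subtype.val e).symm)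
      (Subtype.ext f.k_t) (Subtype.ext f.k_s) (fun P hP htP hsP a ha => by
        have := f.two_group h hwL hws hodd hw1 (P.map C.subtype) (hP.map _)
          (by rintro _ ⟨b, -, rfl⟩; exact hCmem.1 b.2) ⟨_, htP, rfl⟩ ⟨_, hsP, rfl⟩ a ⟨_, ha, rfl⟩
        rcases this with e | e | e | e
        · exact Or.inl (Subtype.ext e)
        · exact Or.inr (Or.inl (Subtype.ext e))
        · exact Or.inr (Or.inr (Or.inl (Subtype.ext e)))
        · exact Or.inr (Or.inr (Or.inr (Subtype.ext e))))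
      ⟨g, hCmem.2 hg⟩
    rcases this with e | e | e
    · exact Or.inl (congrArg Subtype.val e)
    · exact Or.inr (Or.inl (congrArg Subtype.val e))
    · exact Or.inr (Or.inr (congrArg Subtype.val e))
  have hFourS : ∀ g : G, Commute g w →
      g * f.s * g⁻¹ = t ∨ g * f.s * g⁻¹ = f.s ∨ g * f.s * g⁻¹ = t * f.s := fun g hg => by
    have := hFour (g * f.k) (hg.mul_left hkw)
    rwa [show g * f.k * t * (g * f.k)⁻¹ = g * (f.k * t * f.k⁻¹) * g⁻¹ by group, f.k_t] at this
  -- the odd core is trivial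
  have hX : d.X = ⊥ := by
    refine (Subgroup.eq_bot_iff_forall _).2 fun x hx => ?_
    obtain ⟨-, -, hXs, -, -⟩ := d.outer f.s (Subgroup.mem_centralizer_singleton_iff.2 f.s_t.eq)
      f.order_s f.s_ne
    have e : x * f.s * x⁻¹ = x * x * f.s := by
      have h1 := hXs x⁻¹ (inv_mem hx)
      rw [inv_inv] at h1
      calc x * f.s * x⁻¹ = x * (f.s * x⁻¹ * f.s⁻¹) * f.s := by group
        _ = x * x * f.s := by rw [h1]
    have ho : Odd (orderOf (x * x)) := d.odd_X.of_dvd_nat (d.X.orderOf_dvd_natCard (mul_mem hx hx))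
    have hxx : x * x = 1 := by
      rcases hFourS x (d.comm x hx w hwL) with e' | e' | e' <;> rw [e] at e'
      · refine eq_one_of_odd_of_sq ho ?_
        rw [eq_mul_inv_of_mul_eq e', f.s_inv, f.s_t.mul_mul_mul_comm, f.tt, f.ss, one_mul]
      · exact mul_eq_right.1 e'
      · rw [mul_right_cancel e'] at ho
        rw [f.order_t] at ho
        exact absurd ho (by decide)
    exact eq_one_of_odd_of_sq (d.odd_X.of_dvd_nat (d.X.orderOf_dvd_natCard hx)) hxx
  refine ⟨hX, ?_⟩
  -- `w` is a power of `k`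
  have hwk : w ∈ Subgroup.zpowers f.k := by
    rcases mem_zpowers_or_of_commute h Nat.prime_three (by norm_num) f.k_three ⟨1, by rw [hw', pow_one]⟩
      hkw with e | e
    · exact e
    · exfalso
      obtain ⟨n, hn⟩ := e
      exact f.k_not_comm (hn ▸ htw.symm.zpow_left n)
  have hkw' : ∀ {g : G}, Commute g f.k → Commute g w := fun {g} hg => by
    obtain ⟨n, hn⟩ := hwk
    exact hn ▸ hg.zpow_right n
  -- involutions centralising `w`
  set V := Subgroup.zpowers t ⊔ Subgroup.zpowers f.s with hVdef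
  have htV : t ∈ V := le_sup_left (α := Subgroup G) (Subgroup.mem_zpowers t)
  have hsV : f.s ∈ V := le_sup_right (α := Subgroup G) (Subgroup.mem_zpowers f.s)
  have hp2 : ∀ {a : G}, a * a = 1 → IsPGroup 2 (Subgroup.zpowers a) := fun {a} ha x => ⟨1, by
    obtain ⟨n, hn⟩ := x.2
    dsimp only at hn
    refine Subtype.ext ?_
    show (x : G) ^ (2 ^ 1) = 1
    rw [pow_one, ← hn, pow_two, ← (Commute.refl a).mul_zpow, ha, one_zpow]⟩
  have hVp : IsPGroup 2 V := by
    refine (hp2 f.tt).to_sup_of_normal_left' (hp2 f.ss) (le_trans ?_ (Subgroup.centralizer_le_normalizer _))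
    rw [Subgroup.zpowers_le, Subgroup.mem_centralizer_iff]
    rintro _ ⟨n, rfl⟩
    exact (f.s_t.symm.zpow_left n).eq
  have hVw : V ≤ C := sup_le (Subgroup.zpowers_le.2 (hCmem.2 htw)) (Subgroup.zpowers_le.2 (hCmem.2 hws.symm))
  have hinv : ∀ a : G, a * a = 1 → Commute a w → a = 1 ∨ a = t ∨ a = f.s ∨ a = t * f.s := by
    intro a ha haw
    have hmap : ∀ g : G, Commute g w → V.map (MulAut.conj g).toMonoidHom ≤ V := fun g hg => by
      rw [hVdef, Subgroup.map_sup, sup_le_iff, MonoidHom.map_zpowers, MonoidHom.map_zpowers,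
        Subgroup.zpowers_le, Subgroup.zpowers_le]
      refine ⟨?_, ?_⟩
      · show g * t * g⁻¹ ∈ V
        rcases hFour g hg with e | e | e <;> rw [e]
        exacts [htV, hsV, mul_mem htV hsV]
      · show g * f.s * g⁻¹ ∈ V
        rcases hFourS g hg with e | e | e <;> rw [e]
        exacts [htV, hsV, mul_mem htV hsV]
    have hn : Subgroup.zpowers a ≤ Subgroup.normalizer (V : Set G) := Subgroup.zpowers_le.2
      (Subgroup.mem_normalizer_fintype fun v hv => hmap a haw ⟨v, hv, rfl⟩)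
    exact f.two_group h hwL hws hodd hw1 _ (hVp.to_sup_of_normal_left' (hp2 ha) hn)
      (fun g hg => hCmem.1 ((sup_le hVw (Subgroup.zpowers_le.2 (hCmem.2 haw))) hg))
      (le_sup_left (α := Subgroup G) htV) (le_sup_left (α := Subgroup G) hsV) a
      (le_sup_right (α := Subgroup G) (Subgroup.mem_zpowers a))
  -- the group `R`
  set R := Subgroup.centralizer ({f.k} : Set G) with hRdef
  have hRmem : ∀ {g : G}, g ∈ R ↔ Commute g f.k := fun {g} => Subgroup.mem_centralizer_singleton_iff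
  have hdec : ∀ g ∈ R, ∃ n : ℕ, ∃ q ∈ f.torus, g = f.k ^ n * q := fun g hg =>
    f.cases_R h (hRmem.1 hg) (hFour g (hkw' (hRmem.1 hg)))
  have hmemR : ∀ (n : ℕ) {q : G}, q ∈ f.torus → f.k ^ n * q ∈ R := fun n q hq =>
    hRmem.2 (((Commute.refl f.k).pow_left n).mul_left (f.torus_comm_k h hq).symm)
  have hab : ∀ a ∈ R, ∀ b ∈ R, Commute a b := by
    intro a ha b hb
    obtain ⟨n, q, hq, rfl⟩ := hdec a ha
    obtain ⟨m, q', hq', rfl⟩ := hdec b hb
    exact (((Commute.refl f.k).pow_pow n m).mul_right ((f.torus_comm_k h hq').pow_left n)).mul_left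
      (((f.torus_comm_k h hq).symm.pow_right m).mul_right (hTcomm q hq.1 q' hq'.1 hq.2.1 hq'.2.1))
  obtain ⟨e, he⟩ := f.k_three
  have hoddR : ∀ g ∈ R, Odd (orderOf g) := by
    intro g hg
    obtain ⟨n, q, hq, rfl⟩ := hdec g hg
    exact ((Odd.pow (show Odd 3 by decide) (n := e)).mul d.half_facts.2.1).of_dvd_nat
      (orderOf_dvd_of_pow_eq_one (by
        rw [((f.torus_comm_k h hq).pow_left n).mul_pow, ← pow_mul, mul_comm n, mul_assoc, pow_mul,
          ← he, pow_orderOf_eq_one, one_pow, one_mul, mul_comm (orderOf f.k), pow_mul, hq.2.2, one_pow]))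
  -- the character
  obtain ⟨ζ, hζ3, hζ1, hζ2⟩ : ∃ ζ : ℂˣ, ζ ^ 3 = 1 ∧ ζ ≠ 1 ∧ ζ ^ 2 ≠ 1 := by
    have hp := Complex.isPrimitiveRoot_exp 3 (by norm_num)
    have hp' := hp.isUnit_unit (by norm_num)
    exact ⟨_, hp'.pow_eq_one, hp'.ne_one (by norm_num), hp'.pow_ne_one_of_pos_of_lt (by norm_num) (by norm_num)⟩
  classical
  let ω : G → ℂˣ := fun g => if g * t * g⁻¹ = t then 1 else if g * t * g⁻¹ = f.s then ζ else ζ ^ 2
  have hω : ∀ (n : ℕ) (q : G), Commute q t → ω (f.k ^ n * q) = ζ ^ n := by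
    intro n q hq
    have e1 : f.k ^ n * q * t * (f.k ^ n * q)⁻¹ = f.k ^ n * t * (f.k ^ n)⁻¹ := by
      rw [show f.k ^ n * q * t * (f.k ^ n * q)⁻¹ = f.k ^ n * (q * t * q⁻¹) * (f.k ^ n)⁻¹ by group,
        hq.eq, mul_inv_cancel_right]
    have e2 : ζ ^ n = ζ ^ (n % 3) := by
      conv_lhs => rw [← Nat.mod_add_div n 3, pow_add, pow_mul, hζ3, one_pow, mul_one]
    rw [e2]
    show (if _ = t then _ else _) = _
    rw [e1]
    rcases (show n % 3 = 0 ∨ n % 3 = 1 ∨ n % 3 = 2 by omega) with hn | hn | hn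
    · rw [hn, if_pos ((f.k_pow_t n).1 hn), pow_zero]
    · rw [hn, (f.k_pow_t n).2.1 hn, if_neg f.s_ne, if_pos rfl, pow_one]
    · rw [hn, (f.k_pow_t n).2.2 hn, if_neg f.ts_ne.1, if_neg f.ts_ne.2]
  let om : ↥R →* ℂˣ :=
    { toFun := fun g => ω g
      map_one' := by simpa using hω 0 1 (Commute.one_left t)
      map_mul' := fun a b => by
        obtain ⟨n, q, hq, ha⟩ := hdec a a.2
        obtain ⟨m, q', hq', hb⟩ := hdec b b.2
        show ω ((a : G) * b) = ω a * ω b
        rw [ha, hb, show f.k ^ n * q * (f.k ^ m * q') = f.k ^ n * (q * f.k ^ m) * q' by group,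
          ← ((f.torus_comm_k h hq).pow_left m).eq, show f.k ^ n * (f.k ^ m * q) * q' =
            f.k ^ (n + m) * (q * q') by rw [pow_add]; group,
          hω _ _ ((f.torus_comm_t hq).mul_left (f.torus_comm_t hq')), hω n q (f.torus_comm_t hq),
          hω m q' (f.torus_comm_t hq'), pow_add] }
  have hom : ∀ y : ↥R, om y ≠ 1 → f.k ∈ Subgroup.zpowers (y : G) := by
    intro y hy
    obtain ⟨n, q, hq, hyq⟩ := hdec y y.2
    have hn3 : ¬ 3 ∣ n := fun hn => hy (by
      show ω (y : G) = 1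
      obtain ⟨c, rfl⟩ := hn
      rw [hyq, hω _ q (f.torus_comm_t hq), pow_mul, hζ3, one_pow])
    obtain ⟨a, m, hm, hhalf⟩ :=
      Nat.exists_eq_pow_mul_and_not_dvd (n := d.half) (by have := d.half_facts.2.2; omega) 3 (by norm_num)
    have hkq := f.torus_comm_k h hq
    have hq3 : ∃ i, orderOf (q ^ m) = 3 ^ i := by
      obtain ⟨i, -, hi⟩ := (Nat.dvd_prime_pow Nat.prime_three).1 (orderOf_dvd_of_pow_eq_one
        (show (q ^ m) ^ 3 ^ a = 1 by rw [← pow_mul, mul_comm, ← hhalf, hq.2.2]))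
      exact ⟨i, hi⟩
    have hqt : Commute (q ^ m) t := (f.torus_comm_t hq).pow_left m
    rcases mem_zpowers_or_of_commute h Nat.prime_three (by norm_num) ⟨e, he⟩ hq3 (hkq.pow_right m) with
      hqk | hkq'
    · obtain ⟨j, hj⟩ := mem_powers_iff_mem_zpowers.2 hqk
      dsimp only at hj
      have hj3 : 3 ∣ j := by
        by_contra hj3
        have e1 : f.k ^ j * t * (f.k ^ j)⁻¹ = t := by rw [hj, hqt.eq, mul_inv_cancel_right]
        rcases (show j % 3 = 1 ∨ j % 3 = 2 by omega) with hc | hc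
        · exact f.s_ne (((f.k_pow_t j).2.1 hc).symm.trans e1)
        · exact f.ts_ne.1 (((f.k_pow_t j).2.2 hc).symm.trans e1)
      have e1 : (y : G) ^ m = f.k ^ (n * m + j) := by
        rw [hyq, (hkq.pow_left n).mul_pow, ← hj, ← pow_mul, pow_add]
      have hco : (n * m + j).Coprime (orderOf f.k) := by
        rw [he]
        refine Nat.Coprime.pow_right _ ((Nat.Prime.coprime_iff_not_dvd Nat.prime_three).2 fun hd => ?_).symm
        rcases (Nat.Prime.dvd_mul Nat.prime_three).1 ((Nat.dvd_add_left hj3).1 hd) with hc | hc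
        exacts [hn3 hc, hm hc]
      obtain ⟨i, hi⟩ := exists_pow_eq_self_of_coprime hco
      rw [← hi, ← e1]
      exact Subgroup.pow_mem _ (Subgroup.pow_mem _ (Subgroup.mem_zpowers _) _) _
    · exfalso
      obtain ⟨j, hj⟩ := hkq'
      exact f.k_not_comm (hj ▸ hqt.zpow_left j)
  have hrk : f.s * f.z * f.k * (f.s * f.z)⁻¹ = f.k⁻¹ := f.sz_k
  set r := f.s * f.z with hr
  have hrr : r * r = 1 := f.sz_sq
  have hri : r⁻¹ = r := inv_eq_of_mul_eq_one_right hrr
  have hrinv : ∀ g ∈ R, r * g * r⁻¹ = g⁻¹ := by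
    intro g hg
    obtain ⟨n, q, hq, rfl⟩ := hdec g hg
    rw [show r * (f.k ^ n * q) * r⁻¹ = (r * f.k ^ n * r⁻¹) * (r * q * r⁻¹) by group, ← conj_pow, hrk,
      f.sz_torus hq.1 hq.2.1, mul_inv_rev, inv_pow]
    exact ((f.torus_comm_k h hq).pow_left n).inv_inv.eq
  have hom1 : ∀ y : ↥R, (y : G) * y = 1 → om y = 1 := fun y hy => by
    rw [show y = 1 from Subtype.ext (eq_one_of_odd_of_sq (hoddR y y.2) hy), map_one]
  have hN : ∀ {a b : G}, a * f.k * a⁻¹ ∈ Subgroup.zpowers f.k → b * f.k * b⁻¹ ∈ Subgroup.zpowers f.k →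
      a * b * f.k * (a * b)⁻¹ ∈ Subgroup.zpowers f.k := by
    intro a b ha hb
    obtain ⟨j, hj⟩ := hb
    dsimp only at hj
    rw [show a * b * f.k * (a * b)⁻¹ = a * (b * f.k * b⁻¹) * a⁻¹ by group, ← hj, ← conj_zpow]
    exact Subgroup.zpow_mem _ ha j
  have hNk : ∀ n : ℕ, (f.k ^ n)⁻¹ * f.k * ((f.k ^ n)⁻¹)⁻¹ ∈ Subgroup.zpowers f.k := fun n => by
    rw [((Commute.refl f.k).pow_left n).inv_left.eq, mul_inv_cancel_right]
    exact Subgroup.mem_zpowers _
  have hNr : r * f.k * r⁻¹ ∈ Subgroup.zpowers f.k := hrk ▸ inv_mem (Subgroup.mem_zpowers _)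
  let F : Family G :=
    { M := R
      om := om
      r := r
      r_sq := hrr
      r_notMem := fun hm => f.k_ne_one (eq_one_of_odd_of_sq f.k_odd (by
        have e1 : f.k = f.k⁻¹ := by
          conv_rhs => rw [← hrk, (hRmem.1 hm).eq, mul_inv_cancel_right]
        exact eq_inv_iff_mul_eq_one.1 e1))
      r_mem := fun y hy => (hrinv y hy).symm ▸ inv_mem hy
      om_r := fun y => by
        rw [← map_inv]
        exact congrArg om (Subtype.ext (hrinv y y.2))
      exists_sq_ne := ⟨⟨f.k, hRmem.2 (Commute.refl _)⟩, by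
        show ω f.k ^ 2 ≠ 1
        have := hω 1 1 (Commute.one_left t)
        rw [mul_one, pow_one, pow_one] at this
        rwa [this]⟩
      ti := fun g y y' hy hy' hg => by
        have h1 := hom y hy
        have h2 := hom y' hy'
        have hgk : g * f.k * g⁻¹ ∈ Subgroup.zpowers f.k := by
          obtain ⟨i, hi⟩ := h1
          dsimp only at hi
          have h3 : g * f.k * g⁻¹ ∈ Subgroup.zpowers (y' : G) := by
            rw [← hi, ← conj_zpow, hg]
            exact Subgroup.zpow_mem _ (Subgroup.mem_zpowers _) _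
          rw [← PByCyclic.eq_of_card_eq_in_cyclic (Subgroup.zpowers_le.2 h3) (Subgroup.zpowers_le.2 h2)
            (by rw [Nat.card_zpowers, Nat.card_zpowers, ← MulAut.conj_apply, MulEquiv.orderOf_eq])]
          exact Subgroup.mem_zpowers _
        -- `g` normalises the centraliser of `w`
        have hgw : ∀ a, Commute a w → Commute (g * a * g⁻¹) w := by
          intro a ha
          have hgw' : g * w * g⁻¹ ∈ Subgroup.zpowers f.k := by
            obtain ⟨i, hi⟩ := hwk
            dsimp only at hi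
            rw [← hi, ← conj_zpow]
            exact Subgroup.zpow_mem _ hgk _
          have e1 := PByCyclic.eq_of_card_eq_in_cyclic (Subgroup.zpowers_le.2 hgw')
            (Subgroup.zpowers_le.2 hwk)
            (by rw [Nat.card_zpowers, Nat.card_zpowers, ← MulAut.conj_apply, MulEquiv.orderOf_eq])
          obtain ⟨i, hi⟩ : w ∈ Subgroup.zpowers (g * w * g⁻¹) := e1 ▸ Subgroup.mem_zpowers w
          exact hi ▸ (ha.conj g).zpow_right i
        have hsq : ∀ {x a : G}, a * a = 1 → x * a * x⁻¹ * (x * a * x⁻¹) = 1 := fun {x a} ha => by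
          rw [show x * a * x⁻¹ * (x * a * x⁻¹) = x * (a * a) * x⁻¹ by group, ha, mul_one,
            mul_inv_cancel]
        have hgt := hinv _ (hsq f.tt) (hgw t htw)
        rcases hgt with e1 | hgt
        · exact absurd (conj_eq_one_iff.1 e1) f.t_ne_one
        obtain ⟨n, hn⟩ : ∃ n : ℕ, f.k ^ n * t * (f.k ^ n)⁻¹ = g * t * g⁻¹ := by
          rcases hgt with e | e | e
          · exact ⟨0, ((f.k_pow_t 0).1 rfl).trans e.symm⟩
          · exact ⟨1, ((f.k_pow_t 1).2.1 rfl).trans e.symm⟩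
          · exact ⟨2, ((f.k_pow_t 2).2.2 rfl).trans e.symm⟩
        set g' := (f.k ^ n)⁻¹ * g with hg'
        have hgg : g = f.k ^ n * g' := (mul_inv_cancel_left _ _).symm
        have hg't : g' * t * g'⁻¹ = t := by
          rw [hg', show (f.k ^ n)⁻¹ * g * t * ((f.k ^ n)⁻¹ * g)⁻¹ =
            (f.k ^ n)⁻¹ * (g * t * g⁻¹) * f.k ^ n by group, ← hn]
          group
        have hg'k : g' * f.k * g'⁻¹ ∈ Subgroup.zpowers f.k := hN (hNk n) hgk
        have hkn : Commute ((f.k ^ n)⁻¹) w := (hkw.pow_left n).inv_left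
        have hg's := hinv (g' * f.s * g'⁻¹) (hsq f.ss) (by
          rw [hg', show (f.k ^ n)⁻¹ * g * f.s * ((f.k ^ n)⁻¹ * g)⁻¹ =
            (f.k ^ n)⁻¹ * (g * f.s * g⁻¹) * ((f.k ^ n)⁻¹)⁻¹ by group]
          have := (hgw f.s hws.symm).conj ((f.k ^ n)⁻¹)
          rwa [hkn.eq, mul_inv_cancel_right] at this)
        have hkR : f.k ^ n ∈ R := hRmem.2 ((Commute.refl f.k).pow_left n)
        have htorus : ∀ {q : G}, q ∈ f.torus → q ∈ R := fun {q} hq => hRmem.2 (f.torus_comm_k h hq).symm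
        rcases hg's with e1 | e1 | e1 | e1
        · exact absurd (conj_eq_one_iff.1 e1) f.s_ne_one
        · exact absurd (mul_left_cancel (mul_right_cancel (e1.trans hg't.symm))) f.s_ne
        · exact Or.inl (hgg ▸ mul_mem hkR (htorus (f.mem_torus h
            (mul_inv_eq_iff_eq_mul.1 hg't) (mul_inv_eq_iff_eq_mul.1 e1) hg'k)))
        · right
          have e2 : r * g' ∈ f.torus := by
            refine f.mem_torus h (f.sz_t.mul_left (mul_inv_eq_iff_eq_mul.1 hg't))
              (mul_inv_eq_iff_eq_mul.1 ?_) (hN hNr hg'k)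
            rw [show r * g' * f.s * (r * g')⁻¹ = r * (g' * f.s * g'⁻¹) * r⁻¹ by group, e1,
              show r * (t * f.s) * r⁻¹ = r * t * r⁻¹ * (r * f.s * r⁻¹) by group, f.sz_s, f.sz_t.eq,
              mul_inv_cancel_right, ← mul_assoc, f.tt, one_mul]
          have : r * g = (f.k ^ n)⁻¹ * (r * g') := by
            rw [hgg, ← hrinv _ hkR]
            group
          rw [this]
          exact mul_mem (inv_mem hkR) (htorus e2)
      om_invol := hom1
      not_inverted := fun i y hy hi he => hy (hom1 y (by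
        rw [(hab i i.2 y y.2).eq, mul_inv_cancel_right] at he
        exact eq_inv_iff_mul_eq_one.1 he)) }
  refine ⟨F, fun y hy h4 => ?_, fun y hy => ?_, ?_⟩
  · have := hoddR y hy
    rw [h4] at this
    exact absurd this (by decide)
  · show r * y * (r * y) = 1
    calc r * y * (r * y) = r * y * r⁻¹ * y := by rw [hri]; group
      _ = 1 := by rw [hrinv y hy, inv_mul_cancel]
  · show 3 * d.half ≤ Nat.card R
    have h1 : 2 * d.half ≤ 2 * Nat.card f.torus := by
      rw [← d.half_facts.1, ← hTc, show 2 = Nat.card Bool by simp, ← Nat.card_prod]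
      refine Nat.card_le_card_of_surjective (fun p => (⟨(if p.1 then t * p.2 else p.2), ?_⟩ :
        ↥(d.L ⊓ Subgroup.centralizer ({f.s} : Set G)))) ?_
      · obtain ⟨b, q, hq⟩ := p
        cases b
        · exact ⟨hq.1, Subgroup.mem_centralizer_singleton_iff.2 hq.2.1.eq⟩
        · exact ⟨mul_mem d.t_mem hq.1,
            Subgroup.mem_centralizer_singleton_iff.2 (f.s_t.symm.mul_left hq.2.1).eq⟩
      · rintro ⟨l, hl, hls⟩
        rcases f.cases_L hl (Subgroup.mem_centralizer_singleton_iff.1 hls) with hq | hq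
        · exact ⟨(false, ⟨l, hq⟩), rfl⟩
        · exact ⟨(true, ⟨t * l, hq⟩), Subtype.ext (by simp [← mul_assoc, f.tt])⟩
    have h2 : 3 * Nat.card f.torus ≤ Nat.card R := by
      rw [show 3 = Nat.card (Fin 3) by simp, ← Nat.card_prod]
      refine Nat.card_le_card_of_injective (fun p => (⟨f.k ^ (p.1 : ℕ) * p.2, hmemR _ p.2.2⟩ : R)) ?_
      rintro ⟨i, q⟩ ⟨j, q'⟩ e1
      have e2 : f.k ^ (i : ℕ) * q = f.k ^ (j : ℕ) * q' := congrArg Subtype.val e1
      have e3 : ζ ^ (i : ℕ) = ζ ^ (j : ℕ) := by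
        rw [← hω _ _ (f.torus_comm_t q.2), e2, hω _ _ (f.torus_comm_t q'.2)]
      have hprim : IsPrimitiveRoot ζ 3 := IsPrimitiveRoot.iff_orderOf.2 (orderOf_eq_prime hζ3 hζ1)
      obtain rfl : i = j := Fin.ext (hprim.pow_inj i.2 j.2 e3)
      exact Prod.ext rfl (Subtype.ext (mul_left_cancel e2))
    omega

end Frame

end CfsgLib.SuzukiCyclic
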