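import Cfsg.Agent.Lib.AutPSL.Structure
import Cfsg.Agent.Lib.Classical.Transvection
import Cfsg.Agent.Lib.SL2.Torus
import Cfsg.Agent.Lib.SL2.Facts

/-!
# `SL₂(p)`: centralisers of elements of order four and outer involutory automorphisms

An element of order four has an abelian centraliser, the torus of order divisible by four. An
involutory automorphism which is not conjugation by an element of order four is conjugation by a
matrix of trace zero and non-square determinant; its fixed points form the other torus, inverted by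
every element of order four which the automorphism inverts.
-/

set_option autoImplicit false
set_option linter.unusedSectionVars false
set_option linter.style.haveILetI false

namespace CfsgLib.SuzukiCyclic

open Matrix
open scoped MatrixGroups

/-- The one of `p ± 1` which is twice an odd number. -/
def sOdd (p : ℕ) : ℕ := if p % 4 = 1 then p + 1 else p - 1

/-- The one of `p ± 1` which is divisible by four. -/
def sEven (p : ℕ) : ℕ := if p % 4 = 1 then p - 1 else p + 1

variable {p : ℕ} [hp : Fact p.Prime]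

theorem semiTorus_two_ne_zero (hp5 : 5 ≤ p) : (2 : ZMod p) ≠ 0 := by
  intro h
  have : p ∣ 2 := by
    rw [← ZMod.natCast_eq_zero_iff]
    exact_mod_cast h
  have := Nat.le_of_dvd (by norm_num) this
  omega

/-- An element of order four squares to `-1`. -/
theorem mul_self_of_order_four (hp5 : 5 ≤ p) {x : SL(2, ZMod p)} (hx : orderOf x = 4) :
    x * x = -1 := by
  refine SL2.eq_neg_one_of_mul_self (semiTorus_two_ne_zero hp5) ?_ fun e => ?_
  · rw [show x * x * (x * x) = x ^ orderOf x by rw [hx, pow_succ, pow_succ, pow_two, mul_assoc (x * x)], pow_orderOf_eq_one]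
  · have := orderOf_dvd_of_pow_eq_one (x := x) (n := 2) (by rw [pow_two]; exact e)
    rw [hx] at this
    omega

/-- **The centraliser of an element of order four.** -/
theorem card_cent_order_four (hp5 : 5 ≤ p) {x : SL(2, ZMod p)} (hx : orderOf x = 4) :
    Nat.card (Subgroup.centralizer ({x} : Set SL(2, ZMod p))) = sEven p ∧
      ∀ y z, Commute y x → Commute z x → Commute y z := by
  have hreg := SL2.regular_of_mul_self (semiTorus_two_ne_zero hp5) (mul_self_of_order_four hp5 hx)
  refine ⟨?_, fun y z hy hz => ?_⟩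
  · have h4 : 4 ∣ Nat.card (SL2.cent x) := hx ▸ SL2.orderOf_dvd_card_cent x
    have hodd : p % 2 = 1 := Nat.odd_iff.1 (hp.out.odd_of_ne_two (by omega))
    rcases (SL2.cent_regular hreg).2 with h | h <;> rw [Nat.card_zmod] at h <;>
      rw [h] at h4 ⊢ <;> unfold sEven <;> split_ifs <;> omega
  · exact SL2.cent_comm hreg.nonScalar (SL2.mem_cent_iff.2 hy.eq.symm) (SL2.mem_cent_iff.2 hz.eq.symm)

/-- Every automorphism of `SL₂(p)` is conjugation by an invertible matrix. -/
theorem exists_conjMat (hp5 : 5 ≤ p) (σ : MulAut SL(2, ZMod p)) :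
    ∃ g : GL (Fin 2) (ZMod p), ∀ y, σ y = AutPSL.conjMat g y := by
  obtain ⟨g, τ, hg⟩ := AutPSL.exists_normal_form_two p (AutPSL.descend σ)
  have hτ : τ = 1 := RingEquiv.ext fun x =>
    congrFun (congrArg DFunLike.coe (Subsingleton.elim τ.toRingHom (RingHom.id (ZMod p)))) x
  rw [hτ, map_one, mul_one] at hg
  refine ⟨g, fun y => ?_⟩
  set β : MulAut SL(2, ZMod p) := AutPSL.conjSL g
  have hc : ∀ s, (β s)⁻¹ * σ s ∈ Subgroup.center SL(2, ZMod p) := fun s => by
    refine QuotientGroup.eq.1 ?_
    rw [← AutPSL.descend_mkP, ← AutPSL.descend_mkP, hg]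
    rfl
  let χ : SL(2, ZMod p) →* Subgroup.center SL(2, ZMod p) :=
    MonoidHom.mk' (fun s => ⟨(β s)⁻¹ * σ s, hc s⟩) fun s t => Subtype.ext (by
      show (β (s * t))⁻¹ * σ (s * t) = (β s)⁻¹ * σ s * ((β t)⁻¹ * σ t)
      rw [map_mul, map_mul, _root_.mul_inv_rev, mul_assoc, ← mul_assoc (β s)⁻¹,
        ← mul_assoc ((β t)⁻¹), Subgroup.mem_center_iff.1 (hc s) (β t)⁻¹, mul_assoc])
  have hperf : commutator SL(2, ZMod p) = ⊤ := Classical.commutator_SL_eq_top (Or.inr
    ⟨2, semiTorus_two_ne_zero hp5, fun e => by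
      have h3 : ((3 : ℕ) : ZMod p) = 0 := by push_cast; linear_combination e
      have := Nat.le_of_dvd (by norm_num) ((ZMod.natCast_eq_zero_iff _ _).1 h3)
      omega⟩)
  have hker : commutator SL(2, ZMod p) ≤ χ.ker := by
    rw [commutator_eq_closure, Subgroup.closure_le]
    rintro _ ⟨a, b, rfl⟩
    rw [SetLike.mem_coe, MonoidHom.mem_ker, map_commutatorElement,
      commutatorElement_eq_one_iff_mul_comm]
    exact Subtype.ext (Subgroup.mem_center_iff.1 (χ b).2 _)
  rw [hperf] at hker
  have : χ y = 1 := hker (Subgroup.mem_top y)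
  exact (inv_mul_eq_one.1 (congrArg Subtype.val this)).symm

/-- **An outer involutory automorphism.** -/
theorem outer_fixed (hp5 : 5 ≤ p) (σ : MulAut SL(2, ZMod p)) (hσ : ∀ y, σ (σ y) = y) (hne : σ ≠ 1)
    (hno : ∀ e, orderOf e = 4 → ∃ y, σ y ≠ e * y * e⁻¹) :
    Nat.card {y : SL(2, ZMod p) // σ y = y} = sOdd p ∧
      (∀ y z, σ y = y → σ z = z → Commute y z) ∧
      ∀ z y, orderOf z = 4 → σ z = z⁻¹ → σ y = y → z * y * z⁻¹ = y⁻¹ := by
  have h2 := semiTorus_two_ne_zero hp5
  obtain ⟨g, hg⟩ := exists_conjMat hp5 σ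
  set M := (g : Matrix (Fin 2) (Fin 2) (ZMod p)) with hMdef
  set d := M.det with hd
  have hd0 : d ≠ 0 := fun e => by
    have := (g.isUnit.map Matrix.detMonoidHom).ne_zero
    simp only [Matrix.coe_detMonoidHom] at this
    exact this e
  -- the defining relation
  have hrel : ∀ y : SL(2, ZMod p), M * (y : Matrix (Fin 2) (Fin 2) (ZMod p)) =
      (σ y : Matrix (Fin 2) (Fin 2) (ZMod p)) * M := fun y => by
    rw [hg y, AutPSL.conjMat_coe, Matrix.mul_assoc _ _ M, Units.inv_mul, Matrix.mul_one]
  have hfix : ∀ y : SL(2, ZMod p), σ y = y ↔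
      (y : Matrix (Fin 2) (Fin 2) (ZMod p)) * M = M * (y : Matrix (Fin 2) (Fin 2) (ZMod p)) := by
    intro y
    constructor
    · intro e
      have := hrel y
      rw [e] at this
      exact this.symm
    · intro e
      rw [hg y]
      apply Subtype.ext
      rw [AutPSL.conjMat_coe, ← e, Matrix.mul_assoc, Units.mul_inv, Matrix.mul_one]
  have hns : SL2.NonScalar M := fun c hc => hne (MulEquiv.ext fun y => by
    rw [MulAut.one_apply, hfix, hc]
    simp)
  -- the trace vanishes
  have hsq : ∀ y : SL(2, ZMod p), M * M * (y : Matrix (Fin 2) (Fin 2) (ZMod p)) =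
      (y : Matrix (Fin 2) (Fin 2) (ZMod p)) * (M * M) := fun y => by
    rw [Matrix.mul_assoc, hrel y, ← Matrix.mul_assoc, hrel (σ y), hσ y, Matrix.mul_assoc]
  have htr : M.trace = 0 := by
    by_contra ht
    have hE := hsq ⟨!![1, 1; 0, 1], by simp [Matrix.det_fin_two_of]⟩
    have hF := hsq ⟨!![1, 0; 1, 1], by simp [Matrix.det_fin_two_of]⟩
    rw [SL2.cayley] at hE hF
    have e00 := congrFun (congrFun hE 0) 0
    have e01 := congrFun (congrFun hE 0) 1
    have f11 := congrFun (congrFun hF 1) 1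
    simp [Matrix.mul_apply, Fin.sum_univ_two] at e00 e01 f11
    rcases (SL2.nonScalar_iff M).1 hns with h | h | h
    · exact h (f11.resolve_left ht)
    · exact h (e00.resolve_left ht)
    · exact h (sub_eq_zero.1 ((mul_eq_zero.1
        (show M.trace * (M 0 0 - M 1 1) = 0 by linear_combination e01)).resolve_left ht))
  have hMM : M * M = (-d) • (1 : Matrix (Fin 2) (Fin 2) (ZMod p)) := by
    rw [SL2.cayley, htr, zero_smul, zero_sub, neg_smul]
  -- the determinant is not a square
  have hdns : ∀ s : ZMod p, d ≠ s * s := by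
    intro s hs
    have hs0 : s ≠ 0 := fun e => hd0 (by rw [hs, e, mul_zero])
    let e : SL(2, ZMod p) := ⟨s⁻¹ • M, by
      rw [Matrix.det_smul, Fintype.card_fin, ← hd, hs]; field_simp⟩
    have hee : e * e = -1 := by
      rw [← SL2.coe_eq_neg_one_iff, Matrix.SpecialLinearGroup.coe_mul]
      show s⁻¹ • M * (s⁻¹ • M) = -1
      rw [smul_mul_smul_comm, hMM, smul_smul, hs, show s⁻¹ * s⁻¹ * -(s * s) = (-1 : ZMod p) by field_simp,
        neg_one_smul]
    obtain ⟨y, hy⟩ := hno e (SL2.orderOf_of_mul_self h2 hee)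
    refine hy (eq_mul_inv_iff_mul_eq.2 (Subtype.ext ?_))
    rw [Matrix.SpecialLinearGroup.coe_mul, Matrix.SpecialLinearGroup.coe_mul]
    show (σ y : Matrix (Fin 2) (Fin 2) (ZMod p)) * (s⁻¹ • M) = s⁻¹ • M * _
    rw [Matrix.mul_smul, Matrix.smul_mul, hrel]
  have hcoord : ∀ y : SL(2, ZMod p), σ y = y → ∃ a b : ZMod p,
      (y : Matrix (Fin 2) (Fin 2) (ZMod p)) = a • 1 + b • M := fun y hy =>
    SL2.exists_eq_of_commute hns ((hfix y).1 hy)
  have hcommM : ∀ a b : ZMod p, (a • 1 + b • M) * M = M * (a • 1 + b • M) := fun a b => by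
    simp [Matrix.mul_add, Matrix.add_mul]
  have hcomm : ∀ y z, σ y = y → σ z = z → Commute y z := by
    intro y z hy hz
    obtain ⟨a, b, hab⟩ := hcoord y hy
    obtain ⟨a', b', hab'⟩ := hcoord z hz
    refine Subtype.ext ?_
    rw [Matrix.SpecialLinearGroup.coe_mul, Matrix.SpecialLinearGroup.coe_mul, hab, hab']
    simp only [Matrix.mul_add, Matrix.add_mul, Matrix.smul_mul, Matrix.mul_smul, Matrix.one_mul,
      Matrix.mul_one, smul_add, smul_smul]
    module
  refine ⟨?_, hcomm, ?_⟩
  · -- a fixed regular element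
    obtain ⟨m, hm0, hm⟩ : ∃ m : ZMod p, m ≠ 0 ∧ 1 + d * (m * m) ≠ 0 := by
      by_cases h : 1 + d = 0
      · refine ⟨2, h2, fun e => ?_⟩
        have h3 : ((3 : ℕ) : ZMod p) = 0 := by push_cast; linear_combination -e + 4 * h
        have := Nat.le_of_dvd (by norm_num) ((ZMod.natCast_eq_zero_iff _ _).1 h3)
        omega
      · exact ⟨1, one_ne_zero, by simpa using h⟩
    set a := (1 - d * (m * m)) / (1 + d * (m * m)) with ha
    set b := 2 * m / (1 + d * (m * m)) with hb
    have hab : a * a + d * (b * b) = 1 := by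
      rw [ha, hb, div_mul_div_comm, div_mul_div_comm, mul_div_assoc', ← add_div,
        div_eq_one_iff_eq (mul_ne_zero hm hm)]
      ring
    let y₀ : SL(2, ZMod p) := ⟨a • 1 + b • M, by
      rw [SL2.det_smul_one_add_smul, htr, ← hd]; linear_combination hab⟩
    have hb0 : b ≠ 0 := div_ne_zero (mul_ne_zero h2 hm0) hm
    have hy₀ : σ y₀ = y₀ := (hfix y₀).2 (hcommM a b)
    have hreg : SL2.Regular y₀ := by
      intro h4
      change (a • 1 + b • M).trace * (a • 1 + b • M).trace = 4 at h4
      rw [SL2.trace_smul_one_add_smul, htr] at h4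
      have h4' : (4 : ZMod p) * (d * (b * b)) = 0 := by linear_combination 4 * hab - h4
      rcases mul_eq_zero.1 h4' with e | e
      · exact h2 (mul_self_eq_zero.1 (by linear_combination e))
      · exact mul_ne_zero hd0 (mul_ne_zero hb0 hb0) e
    have hset : ∀ y, σ y = y ↔ y ∈ SL2.cent y₀ := by
      intro y
      refine ⟨fun hy => SL2.mem_cent_iff.2 (hcomm y₀ y hy₀ hy).eq, fun hy => (hfix y).2 ?_⟩
      obtain ⟨a', b', hab', -⟩ := SL2.exists_coords hreg.nonScalar hy
      rw [hab', show ((y₀ : SL(2, ZMod p)) : Matrix (Fin 2) (Fin 2) (ZMod p)) = a • 1 + b • M from rfl,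
        show a' • (1 : Matrix (Fin 2) (Fin 2) (ZMod p)) + b' • (a • 1 + b • M) =
          (a' + b' * a) • 1 + (b' * b) • M by rw [smul_add, smul_smul, smul_smul, add_smul, add_assoc]]
      exact hcommM _ _
    obtain ⟨hcyc, hcard⟩ := SL2.cent_regular hreg
    have hn4 : ¬ 4 ∣ Nat.card (SL2.cent y₀) := by
      intro h4
      obtain ⟨c, hc⟩ := hcyc.exists_ofOrder_eq_natCard
      obtain ⟨k, hk⟩ := h4
      set e : SL(2, ZMod p) := ((c ^ k : SL2.cent y₀) : SL(2, ZMod p))
      have he : orderOf e = 4 := by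
        rw [Subgroup.orderOf_coe, orderOf_pow_of_dvd (by
            rintro rfl; rw [mul_zero] at hk; exact Nat.card_pos.ne' hk) ⟨4, by rw [hc, hk, mul_comm]⟩,
          hc, hk, Nat.mul_div_cancel _ (Nat.pos_of_ne_zero (by
            rintro rfl; rw [mul_zero] at hk; exact Nat.card_pos.ne' hk))]
      have hee := mul_self_of_order_four hp5 he
      obtain ⟨a', b', hab'⟩ := hcoord e ((hset e).2 (c ^ k).2)
      have ht := SL2.trace_eq_zero_of_mul_self h2 hee
      rw [hab', SL2.trace_smul_one_add_smul, htr] at ht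
      have ha' : a' = 0 := (mul_eq_zero.1 (show (2 : ZMod p) * a' = 0 by linear_combination ht)).resolve_left h2
      have hdet : e.1.det = 1 := e.det_coe
      rw [show e.1 = a' • 1 + b' • M from hab', SL2.det_smul_one_add_smul, htr, ← hd, ha'] at hdet
      have hb' : b' ≠ 0 := fun e' => by rw [e'] at hdet; simp at hdet
      exact hdns b'⁻¹ (by field_simp; linear_combination hdet)
    have hodd : p % 2 = 1 := Nat.odd_iff.1 (hp.out.odd_of_ne_two (by omega))
    rw [show Nat.card {y : SL(2, ZMod p) // σ y = y} = Nat.card (SL2.cent y₀) from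
      Nat.card_congr (Equiv.subtypeEquivRight hset)]
    rcases hcard with h | h <;> rw [Nat.card_zmod] at h <;> rw [h] at hn4 ⊢ <;> unfold sOdd <;>
      split_ifs <;> omega
  · intro z y hz hσz hy
    obtain ⟨a, b, hab⟩ := hcoord y hy
    have hzi : z⁻¹ = -z := inv_eq_of_mul_eq_one_right (by rw [mul_neg, mul_self_of_order_four hp5 hz, neg_neg])
    have hMz := hrel z
    rw [hσz, hzi, Matrix.SpecialLinearGroup.coe_neg] at hMz
    rw [mul_inv_eq_iff_eq_mul]
    apply Subtype.ext
    rw [Matrix.SpecialLinearGroup.coe_mul, Matrix.SpecialLinearGroup.coe_mul, SL2.coe_inv_eq, hab,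
      SL2.trace_smul_one_add_smul, htr]
    simp only [Matrix.mul_add, Matrix.sub_mul, Matrix.add_mul, Matrix.smul_mul, Matrix.mul_smul,
      Matrix.one_mul, Matrix.mul_one, hMz, Matrix.neg_mul, smul_neg, mul_zero, add_zero, two_mul]
    module

end CfsgLib.SuzukiCyclic
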