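import Cfsg.Agent.Lib.SuzukiCyclic.SemiCentData
import Cfsg.Agent.Lib.SuzukiCyclic.SemiTorus
import Cfsg.Agent.Lib.SuzukiCyclic.Radical
import Cfsg.Agent.Lib.SuzukiCyclic.DihedralCore

/-!
# The centraliser of an involution with component `SL₂(p)`: the frame of a four group

For an involution `s ≠ t` of `C(t)` the centraliser of `⟨t, s⟩` is `T ∪ s T`, `T = C_L(s)` abelian of
order `2 u` with `u` odd, inverted by an element `z` of order four of `L`. A three-element `k` permuting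
`⟨t, s⟩` and inverted by `s z` centralises the elements of odd order of `T`, and a 2-group which
centralises one of them and contains `t`, `s` is `⟨t, s⟩`.
-/

set_option autoImplicit false
set_option linter.unusedSectionVars false
set_option linter.style.haveILetI false

universe u

namespace CfsgLib.SuzukiCyclic

open Cfsg CfsgLib
open scoped MatrixGroups

variable {G : Type u} [Group G] [Finite G]

theorem sOdd_facts {p : ℕ} (hp : p.Prime) (hp5 : 5 ≤ p) :
    sOdd p % 4 = 2 ∧ 6 ≤ sOdd p ∧ 4 ∣ sEven p ∧ sEven p ≤ sOdd p + 2 ∧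
      (∀ m : ℕ, m ∣ sOdd p → m ∣ sEven p → m ∣ 2) ∧ 3 ∣ sOdd p * sEven p := by
  have hodd : p % 2 = 1 := Nat.odd_iff.1 (hp.odd_of_ne_two (by omega))
  have h3 : p % 3 ≠ 0 := fun h => by
    rcases (Nat.dvd_prime hp).1 (Nat.dvd_of_mod_eq_zero h) with e | e <;> omega
  have hne : p = 5 ∨ 7 ≤ p := by
    rcases (show p = 5 ∨ p = 6 ∨ 7 ≤ p by omega) with e | e | e
    · exact Or.inl e
    · omega
    · exact Or.inr e
  refine ⟨?_, ?_, ?_, ?_, fun m h1 h2 => ?_, ?_⟩
  · unfold sOdd; split_ifs <;> omega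
  · unfold sOdd; split_ifs <;> omega
  · unfold sEven; split_ifs <;> omega
  · unfold sOdd sEven; split_ifs <;> omega
  · unfold sOdd at h1; unfold sEven at h2
    split_ifs at h1 h2 with h
    · have := Nat.dvd_sub h1 h2
      rwa [show p + 1 - (p - 1) = 2 by omega] at this
    · have := Nat.dvd_sub h2 h1
      rwa [show p + 1 - (p - 1) = 2 by omega] at this
  · rcases (show p % 3 = 1 ∨ p % 3 = 2 by omega) with h | h
    · have h' : 3 ∣ p - 1 := by omega
      unfold sOdd sEven; split_ifs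
      · exact h'.mul_left _
      · exact h'.mul_right _
    · have h' : 3 ∣ p + 1 := by omega
      unfold sOdd sEven; split_ifs
      · exact h'.mul_right _
      · exact h'.mul_left _

theorem eq_one_of_pow_coprime {g : G} {n : ℕ} (hn : g ^ n = 1) (hc : (orderOf g).Coprime n) : g = 1 :=
  orderOf_eq_one_iff.1 (Nat.eq_one_of_dvd_coprimes hc dvd_rfl (orderOf_dvd_of_pow_eq_one hn))

namespace CentData

variable {t : G} (d : CentData t)

instance : Fact d.p.Prime := d.fact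

theorem L_comm_t {l : G} (hl : l ∈ d.L) : Commute l t :=
  Subgroup.mem_centralizer_singleton_iff.1 (d.L_le hl)

theorem X_comm_t {x : G} (hx : x ∈ d.X) : Commute x t :=
  Subgroup.mem_centralizer_singleton_iff.1 (d.X_le hx)

theorem inf_bot {g : G} (hx : g ∈ d.X) (hl : g ∈ d.L) : g = 1 :=
  orderOf_eq_one_iff.1 (Nat.eq_one_of_dvd_coprimes d.coprime (d.X.orderOf_dvd_natCard hx)
    (d.L.orderOf_dvd_natCard hl))

theorem cent_non_central {a b c : G} (ha : a ∈ d.L) (hb : b ∈ d.L) (hc : c ∈ d.L) (ha2 : a * a ≠ 1)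
    (hab : Commute b a) (hac : Commute c a) : Commute b c := by
  obtain ⟨e⟩ := d.equiv
  have hns : SL2.NonScalar ((e ⟨a, ha⟩ : SL(2, ZMod d.p)) : Matrix (Fin 2) (Fin 2) (ZMod d.p)) := by
    by_contra hns
    refine ha2 ?_
    have h2 : e ⟨a, ha⟩ * e ⟨a, ha⟩ = 1 := by
      rcases SL2.eq_one_or_eq_neg_one_of_mem_center _ ((SL2.mem_center_iff_not_nonScalar _).2 hns) with
        h | h <;> rw [h] <;> simp
    rw [← map_mul] at h2
    exact congrArg Subtype.val (e.injective (h2.trans (map_one e).symm))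
  have hm : ∀ {y : G} (hy : y ∈ d.L), Commute y a → e ⟨y, hy⟩ ∈ SL2.cent (e ⟨a, ha⟩) := fun {y} hy h => by
    rw [SL2.mem_cent_iff, ← map_mul, ← map_mul]
    exact congrArg e (Subtype.ext h.eq.symm)
  have h : e ⟨b, hb⟩ * e ⟨c, hc⟩ = e ⟨c, hc⟩ * e ⟨b, hb⟩ :=
    SL2.cent_comm hns (hm hb hab) (hm hc hac)
  rw [← map_mul, ← map_mul] at h
  exact congrArg Subtype.val (e.injective h)

/-- The centraliser in `L` of an element of order four. -/
theorem four_facts {e : G} (he : e ∈ d.L) (he4 : orderOf e = 4) :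
    Nat.card ↥(d.L ⊓ Subgroup.centralizer ({e} : Set G)) = sEven d.p ∧
      ∀ a ∈ d.L, ∀ b ∈ d.L, Commute a e → Commute b e → Commute a b := by
  obtain ⟨f⟩ := d.equiv
  have ho : orderOf (f ⟨e, he⟩) = 4 := by rw [MulEquiv.orderOf_eq, Subgroup.orderOf_mk, he4]
  obtain ⟨hcard, hcomm⟩ := card_cent_order_four d.five ho
  have hiff : ∀ a : ↥d.L, Commute (f a) (f ⟨e, he⟩) ↔ Commute (a : G) e := fun a => by
    constructor
    · intro h
      have h' : a * ⟨e, he⟩ = ⟨e, he⟩ * a := f.injective (by rw [map_mul, map_mul]; exact h.eq)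
      exact congrArg Subtype.val h'
    · intro h
      exact (Commute.map (show Commute a ⟨e, he⟩ from Subtype.ext h.eq) f)
  refine ⟨?_, fun a ha b hb hae hbe => ?_⟩
  · rw [← hcard]
    refine Nat.card_congr ⟨fun a => ⟨f ⟨a, a.2.1⟩, Subgroup.mem_centralizer_singleton_iff.2
      ((hiff _).2 (Subgroup.mem_centralizer_singleton_iff.1 a.2.2)).eq⟩,
      fun y => ⟨(f.symm y : G), (f.symm y).2, Subgroup.mem_centralizer_singleton_iff.2
        ((hiff _).1 (by rw [f.apply_symm_apply]; exact Subgroup.mem_centralizer_singleton_iff.1 y.2)).eq⟩,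
      fun a => ?_, fun y => ?_⟩
    · apply Subtype.ext; simp
    · apply Subtype.ext; simp
  · exact congrArg Subtype.val (f.injective (show f (⟨a, ha⟩ * ⟨b, hb⟩) = f (⟨b, hb⟩ * ⟨a, ha⟩) by
      rw [map_mul, map_mul]; exact (hcomm _ _ ((hiff ⟨a, ha⟩).2 hae) ((hiff ⟨b, hb⟩).2 hbe)).eq))

theorem invol_L {s : G} (hsC : Commute s t) (hs : orderOf s = 2) (hst : s ≠ t) : s ∉ d.L := fun h =>
  (d.outer s (Subgroup.mem_centralizer_singleton_iff.2 hsC.eq) hs hst).2.1 1 (one_mem _) s h (one_mul s)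

/-- The only involution of `L` is `t`. -/
theorem sq_one {l : G} (hl : l ∈ d.L) (h : l * l = 1) : l = 1 ∨ l = t := by
  by_cases h1 : l = 1
  · exact Or.inl h1
  refine Or.inr ?_
  by_contra ht
  exact d.invol_L (d.L_comm_t hl) (orderOf_eq_prime (by rw [pow_two, h]) h1) ht hl

/-- The torus fixed by an outer involution. -/
theorem torus_facts {s : G} (hsC : Commute s t) (hs : orderOf s = 2) (hst : s ≠ t) :
    Nat.card ↥(d.L ⊓ Subgroup.centralizer ({s} : Set G)) = sOdd d.p ∧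
      (∀ a ∈ d.L, ∀ b ∈ d.L, Commute a s → Commute b s → Commute a b) ∧
      (∀ z ∈ d.L, orderOf z = 4 → s * z * s⁻¹ = z⁻¹ → ∀ a ∈ d.L, Commute a s → z * a * z⁻¹ = a⁻¹) := by
  obtain ⟨e⟩ := d.equiv
  have hsC' : s ∈ Subgroup.centralizer ({t} : Set G) := Subgroup.mem_centralizer_singleton_iff.2 hsC.eq
  obtain ⟨-, -, -, ⟨z₀, hz₀, hz₀4, hz₀s⟩, hno⟩ := d.outer s hsC' hs hst
  have hss : s * s = 1 := by rw [← pow_two, ← hs, pow_orderOf_eq_one]
  have hsL : ∀ l ∈ d.L, s * l * s⁻¹ ∈ d.L := d.norm_L s hsC'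
  let σ₀ : MulAut ↥d.L :=
    { toFun := fun l => ⟨s * l * s⁻¹, hsL l l.2⟩
      invFun := fun l => ⟨s * l * s⁻¹, hsL l l.2⟩
      left_inv := fun l => Subtype.ext (by
        show s * (s * l * s⁻¹) * s⁻¹ = (l : G)
        rw [show s * (s * (l : G) * s⁻¹) * s⁻¹ = (s * s) * l * (s * s)⁻¹ by group, hss]
        group)
      right_inv := fun l => Subtype.ext (by
        show s * (s * l * s⁻¹) * s⁻¹ = (l : G)
        rw [show s * (s * (l : G) * s⁻¹) * s⁻¹ = (s * s) * l * (s * s)⁻¹ by group, hss]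
        group)
      map_mul' := fun a b => Subtype.ext (by
        show s * ((a : G) * b) * s⁻¹ = s * a * s⁻¹ * (s * b * s⁻¹)
        group) }
  set σ : MulAut SL(2, ZMod d.p) := MulAut.congr e σ₀
  have hval : ∀ l : ↥d.L, σ (e l) = e ⟨s * l * s⁻¹, hsL l l.2⟩ := fun l => by
    simp [σ, σ₀]
  have hfix : ∀ l : ↥d.L, σ (e l) = e l ↔ Commute (l : G) s := fun l => by
    rw [hval, e.injective.eq_iff, Subtype.ext_iff]
    show s * (l : G) * s⁻¹ = l ↔ _
    rw [mul_inv_eq_iff_eq_mul]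
    exact ⟨fun h => h.symm, fun h => h.eq.symm⟩
  have hinv : ∀ y, σ (σ y) = y := fun y => by
    obtain ⟨l, rfl⟩ := e.surjective y
    rw [hval, hval]
    congr 1
    exact σ₀.left_inv l
  have hne : σ ≠ 1 := fun h => by
    have h' : e ⟨s * z₀ * s⁻¹, hsL z₀ hz₀⟩ = e ⟨z₀, hz₀⟩ := by
      rw [← hval ⟨z₀, hz₀⟩, h]; rfl
    have h'' : z₀⁻¹ = z₀ := hz₀s ▸ congrArg Subtype.val (e.injective h')
    have : z₀ ^ 2 = 1 := by rw [pow_two]; nth_rw 1 [← h'']; exact inv_mul_cancel z₀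
    have := orderOf_dvd_of_pow_eq_one this
    rw [hz₀4] at this
    omega
  obtain ⟨hcard, hcomm, hinvert⟩ := outer_fixed d.five σ hinv hne (fun y hy => by
    obtain ⟨l, rfl⟩ := e.surjective y
    rw [MulEquiv.orderOf_eq, ← Subgroup.orderOf_coe] at hy
    obtain ⟨m, hm, hne'⟩ := hno l l.2 hy
    refine ⟨e ⟨m, hm⟩, fun h => hne' ?_⟩
    rw [hval, ← map_inv, ← map_mul, ← map_mul] at h
    exact congrArg Subtype.val (e.injective h))
  refine ⟨?_, fun a ha b hb has hbs => ?_, fun z hz hz4 hzs a ha has => ?_⟩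
  · rw [← hcard]
    refine Nat.card_congr ⟨fun a => ⟨e ⟨a, a.2.1⟩,
      (hfix _).2 (Subgroup.mem_centralizer_singleton_iff.1 a.2.2)⟩,
      fun y => ⟨(e.symm y.1 : G), (e.symm y.1).2, Subgroup.mem_centralizer_singleton_iff.2
        ((hfix _).1 (by rw [e.apply_symm_apply]; exact y.2)).eq⟩, fun a => ?_, fun y => ?_⟩
    · apply Subtype.ext; simp
    · apply Subtype.ext; simp
  · exact congrArg Subtype.val (e.injective (show e (⟨a, ha⟩ * ⟨b, hb⟩) = e (⟨b, hb⟩ * ⟨a, ha⟩) by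
      rw [map_mul, map_mul]; exact (hcomm _ _ ((hfix ⟨a, ha⟩).2 has) ((hfix ⟨b, hb⟩).2 hbs)).eq))
  · have h := hinvert (e ⟨z, hz⟩) (e ⟨a, ha⟩) (by rw [MulEquiv.orderOf_eq, Subgroup.orderOf_mk, hz4])
      (by rw [hval, ← map_inv]; exact congrArg e (Subtype.ext hzs)) ((hfix ⟨a, ha⟩).2 has)
    rw [← map_inv, ← map_mul, ← map_mul, ← map_inv] at h
    exact congrArg Subtype.val (e.injective h)

/-- An element of odd order of `C(t)` is a product from `X` and `L`. -/
theorem odd_decomp {s : G} (hsC : Commute s t) (hs : orderOf s = 2) (hst : s ≠ t) {g : G}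
    (hg : Commute g t) (hodd : Odd (orderOf g)) : ∃ x ∈ d.X, ∃ l ∈ d.L, g = x * l := by
  have hsC' : s ∈ Subgroup.centralizer ({t} : Set G) := Subgroup.mem_centralizer_singleton_iff.2 hsC.eq
  obtain ⟨hdec, -, hX, -, -⟩ := d.outer s hsC' hs hst
  obtain ⟨x, hx, l, hl, rfl | rfl⟩ := hdec g (Subgroup.mem_centralizer_singleton_iff.2 hg.eq)
  · exact ⟨x, hx, l, hl, rfl⟩
  have hss : s * s = 1 := by rw [← pow_two, ← hs, pow_orderOf_eq_one]
  have hsq : (s * (x * l)) ^ 2 ∈ d.L := by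
    have hs' : s⁻¹ = s := inv_eq_of_mul_eq_one_right hss
    have e1 : (s * (x * l)) ^ 2 = s * x * s⁻¹ * (s * l * s⁻¹) * x * l := by
      rw [pow_two, hs']
      simp only [mul_assoc, show ∀ y : G, s * (s * y) = y from fun y => by rw [← mul_assoc, hss, one_mul]]
    rw [e1, hX x hx, mul_assoc _ (s * l * s⁻¹) x, ← d.comm x hx _ (d.norm_L s hsC' l hl), ← mul_assoc,
      inv_mul_cancel, one_mul]
    exact mul_mem (d.norm_L s hsC' l hl) hl
  obtain ⟨m, hm⟩ := exists_pow_eq_self_of_coprime (x := s * (x * l)) (n := 2)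
    (Nat.coprime_two_left.2 hodd)
  exact ⟨1, one_mem _, s * (x * l), hm ▸ pow_mem hsq m, (one_mul _).symm⟩

/-- An element of odd order of `C(t)` prime to `X` lies in `L`. -/
theorem mem_L_of_coprime {s : G} (hsC : Commute s t) (hs : orderOf s = 2) (hst : s ≠ t) {g : G}
    (hg : Commute g t) (hodd : Odd (orderOf g)) (hco : (orderOf g).Coprime (Nat.card d.X)) : g ∈ d.L := by
  obtain ⟨x, hx, l, hl, rfl⟩ := d.odd_decomp hsC hs hst hg hodd
  have hxl : Commute x l := d.comm x hx l hl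
  have h1 : x ^ orderOf (x * l) = (l ^ orderOf (x * l))⁻¹ := by
    rw [eq_inv_iff_mul_eq_one, ← hxl.mul_pow, pow_orderOf_eq_one]
  have h2 : x ^ orderOf (x * l) = 1 :=
    d.inf_bot (pow_mem hx _) (h1 ▸ inv_mem (pow_mem hl _))
  rw [eq_one_of_pow_coprime h2 (hco.symm.coprime_dvd_left (d.X.orderOf_dvd_natCard hx)), one_mul]
  exact hl

/-- The centraliser of the four group. -/
theorem cent_four {s : G} (hsC : Commute s t) (hs : orderOf s = 2) (hst : s ≠ t) {g : G}
    (hgt : Commute g t) (hgs : Commute g s) :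
    ∃ l ∈ d.L, Commute l s ∧ (g = l ∨ g = s * l) := by
  have hsC' : s ∈ Subgroup.centralizer ({t} : Set G) := Subgroup.mem_centralizer_singleton_iff.2 hsC.eq
  obtain ⟨hdec, -, hX, -, -⟩ := d.outer s hsC' hs hst
  obtain ⟨x, hx, l, hl, hg⟩ := hdec g (Subgroup.mem_centralizer_singleton_iff.2 hgt.eq)
  have hxl : Commute (x * l) s := by
    rcases hg with rfl | rfl
    · exact hgs
    · have := ((Commute.refl s).inv_left).mul_left hgs
      rwa [inv_mul_cancel_left] at this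
  have h1 : s * x * s⁻¹ * (s * l * s⁻¹) = x * l := by
    rw [show s * x * s⁻¹ * (s * l * s⁻¹) = s * (x * l) * s⁻¹ by group, ← hxl.eq, mul_inv_cancel_right]
  rw [hX x hx] at h1
  have h2 : x * x = s * l * s⁻¹ * l⁻¹ := by
    calc x * x = x * (x * l) * l⁻¹ := by group
      _ = x * (x⁻¹ * (s * l * s⁻¹)) * l⁻¹ := by rw [h1]
      _ = s * l * s⁻¹ * l⁻¹ := by group
  have hxx : x ^ 2 = 1 := by
    rw [pow_two]
    exact d.inf_bot (mul_mem hx hx) (h2 ▸ mul_mem (d.norm_L s hsC' l hl) (inv_mem hl))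
  have hx1 : x = 1 := eq_one_of_pow_coprime hxx
    (Nat.coprime_two_right.2 (d.odd_X.of_dvd_nat (d.X.orderOf_dvd_natCard hx)))
  subst hx1
  rw [one_mul] at hg hxl
  exact ⟨l, hl, hxl, hg⟩

/-- Half the order of the torus. -/
def half : ℕ := sOdd d.p / 2

theorem half_facts : sOdd d.p = 2 * d.half ∧ Odd d.half ∧ 3 ≤ d.half := by
  obtain ⟨h1, h2, -⟩ := sOdd_facts d.fact.out d.five
  refine ⟨?_, ?_, ?_⟩ <;> unfold half
  · omega
  · rw [Nat.odd_iff]; omega
  · omega

theorem pow_half {s l : G} (hsC : Commute s t) (hs : orderOf s = 2) (hst : s ≠ t) (hl : l ∈ d.L)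
    (hls : Commute l s) : l ^ d.half = 1 ∨ l ^ d.half = t := by
  refine d.sq_one (pow_mem hl _) ?_
  rw [← pow_add, ← two_mul, ← d.half_facts.1, ← (d.torus_facts hsC hs hst).1]
  exact congrArg Subtype.val (pow_card_eq_one'
    (x := (⟨l, hl, Subgroup.mem_centralizer_singleton_iff.2 hls.eq⟩ :
      ↥(d.L ⊓ Subgroup.centralizer ({s} : Set G)))))

theorem orderOf_dvd_half {s g : G} (hsC : Commute s t) (hs : orderOf s = 2) (hst : s ≠ t)
    (hgt : Commute g t) (hgs : Commute g s) (hodd : Odd (orderOf g)) :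
    g ∈ d.L ∧ orderOf g ∣ d.half := by
  obtain ⟨l, hl, hls, hg | hg⟩ := d.cent_four hsC hs hst hgt hgs
  · subst hg
    refine ⟨hl, ?_⟩
    have h : orderOf g ∣ Nat.card ↥(d.L ⊓ Subgroup.centralizer ({s} : Set G)) :=
      Subgroup.orderOf_dvd_natCard _ ⟨hl, Subgroup.mem_centralizer_singleton_iff.2 hls.eq⟩
    rw [(d.torus_facts hsC hs hst).1, d.half_facts.1] at h
    exact (Nat.coprime_two_right.2 hodd).dvd_of_dvd_mul_left h
  · exfalso
    subst hg
    have hss : s ^ 2 = 1 := by rw [← hs, pow_orderOf_eq_one]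
    obtain ⟨m, hm⟩ := exists_pow_eq_self_of_coprime (x := s * l) (n := 2) (Nat.coprime_two_left.2 hodd)
    rw [(show Commute s l from hls.symm).mul_pow, hss, one_mul] at hm
    have : s * l ∈ d.L := hm ▸ pow_mem (pow_mem hl 2) m
    exact d.invol_L hsC hs hst (by simpa using mul_mem this (inv_mem hl))

end CentData

/-- An involution of `C(t)` with an element of order four of `L` inverted by it and a three-element
permuting the four group, inverted by `s z`. -/
structure Frame {t : G} (d : CentData t) where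
  /-- The involution. -/
  s : G
  /-- The element of order four. -/
  z : G
  /-- The three-element. -/
  k : G
  order_t : orderOf t = 2
  s_t : Commute s t
  order_s : orderOf s = 2
  s_ne : s ≠ t
  z_mem : z ∈ d.L
  order_z : orderOf z = 4
  s_z : s * z * s⁻¹ = z⁻¹
  k_three : ∃ e : ℕ, orderOf k = 3 ^ e
  k_t : k * t * k⁻¹ = s
  k_s : k * s * k⁻¹ = t * s
  sz_k : s * z * k * (s * z)⁻¹ = k⁻¹

namespace Frame

variable {t : G} {d : CentData t} (f : Frame d)

include f in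
theorem tt : t * t = 1 := by rw [← pow_two, ← f.order_t, pow_orderOf_eq_one]

theorem ss : f.s * f.s = 1 := by rw [← pow_two, ← f.order_s, pow_orderOf_eq_one]

theorem s_inv : f.s⁻¹ = f.s := inv_eq_of_mul_eq_one_right f.ss

theorem z_sq : f.z * f.z = t := by
  have h4 : f.z ^ 4 = 1 := by rw [← f.order_z, pow_orderOf_eq_one]
  refine (d.sq_one (mul_mem f.z_mem f.z_mem) ?_).resolve_left fun h => ?_
  · rw [← h4]; simp [pow_succ, mul_assoc]
  · have := orderOf_dvd_of_pow_eq_one (x := f.z) (n := 2) (by rw [pow_two, h])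
    rw [f.order_z] at this
    omega

theorem ts_conj_s : f.k * (t * f.s) * f.k⁻¹ = t := by
  rw [show f.k * (t * f.s) * f.k⁻¹ = (f.k * t * f.k⁻¹) * (f.k * f.s * f.k⁻¹) by group, f.k_t, f.k_s,
    ← mul_assoc, f.s_t.eq, mul_assoc, f.ss, mul_one]

theorem k_odd : Odd (orderOf f.k) := by
  obtain ⟨e, he⟩ := f.k_three
  rw [he]
  exact Odd.pow (by decide)

theorem sz_sq : f.s * f.z * (f.s * f.z) = 1 := by
  have h := f.s_z
  rw [f.s_inv] at h
  rw [← mul_assoc, h, inv_mul_cancel]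

theorem sz_t : Commute (f.s * f.z) t := f.s_t.mul_left (d.L_comm_t f.z_mem)

theorem sz_s : f.s * f.z * f.s * (f.s * f.z)⁻¹ = t * f.s := by
  rw [inv_eq_of_mul_eq_one_right f.sz_sq]
  have h1 : f.z * f.s * f.s = f.z := by rw [mul_assoc, f.ss, mul_one]
  calc f.s * f.z * f.s * (f.s * f.z) = f.s * (f.z * f.s * f.s) * f.z := by group
    _ = f.s * (f.z * f.z) := by rw [h1, mul_assoc]
    _ = t * f.s := by rw [f.z_sq, f.s_t.eq]

/-- The torus elements of odd order are inverted by `s z`. -/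
theorem sz_torus {w : G} (hw : w ∈ d.L) (hws : Commute w f.s) :
    f.s * f.z * w * (f.s * f.z)⁻¹ = w⁻¹ := by
  have h := (d.torus_facts f.s_t f.order_s f.s_ne).2.2 f.z f.z_mem f.order_z f.s_z w hw hws
  rw [show f.s * f.z * w * (f.s * f.z)⁻¹ = f.s * (f.z * w * f.z⁻¹) * f.s⁻¹ by group, h,
    ← hws.inv_left.eq, mul_inv_cancel_right]

theorem k_conj_comm {g : G} (hgt : Commute g t) (hgs : Commute g f.s) :
    Commute (f.k * g * f.k⁻¹) t ∧ Commute (f.k * g * f.k⁻¹) f.s := by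
  refine ⟨?_, f.k_t ▸ hgt.conj f.k⟩
  have := (hgt.mul_right hgs).conj f.k
  rwa [f.ts_conj_s] at this

/-- `k` centralises the torus elements of odd order. -/
theorem k_comm (h : OddCyclic G) {w : G} (hw : w ∈ d.L) (hws : Commute w f.s) (hodd : Odd (orderOf w)) :
    Commute f.k w := by
  classical
  let T : Subgroup G :=
    { carrier := {g | g ∈ d.L ∧ Commute g f.s ∧ g ^ d.half = 1}
      one_mem' := ⟨one_mem _, Commute.one_left _, one_pow _⟩
      mul_mem' := by
        rintro a b ⟨ha, has, ha'⟩ ⟨hb, hbs, hb'⟩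
        refine ⟨mul_mem ha hb, has.mul_left hbs, ?_⟩
        rw [((d.torus_facts f.s_t f.order_s f.s_ne).2.1 a ha b hb has hbs).mul_pow, ha', hb', one_mul]
      inv_mem' := by
        rintro a ⟨ha, has, ha'⟩
        exact ⟨inv_mem ha, has.inv_left, by rw [inv_pow, ha', inv_one]⟩ }
  have hmem : ∀ g, g ∈ d.L → Commute g f.s → Odd (orderOf g) → g ∈ T := fun g hg hgs hgo =>
    ⟨hg, hgs, orderOf_dvd_iff_pow_eq_one.1
      (d.orderOf_dvd_half f.s_t f.order_s f.s_ne (d.L_comm_t hg) hgs hgo).2⟩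
  have hTodd : ∀ g ∈ T, Odd (orderOf g) := fun g hg =>
    d.half_facts.2.1.of_dvd_nat (orderOf_dvd_of_pow_eq_one hg.2.2)
  have hcardT : Odd (Nat.card T) := by
    rw [Nat.odd_iff]
    by_contra hne
    obtain ⟨g, hg⟩ := exists_prime_orderOf_dvd_card' (G := T) 2 (by omega)
    have := hTodd g g.2
    rw [Subgroup.orderOf_coe, hg] at this
    exact absurd this (by decide)
  haveI := OddCyclic.isZGroup h hcardT
  letI : CommGroup T := { (inferInstance : Group T) with
    mul_comm := fun a b => Subtype.ext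
      ((d.torus_facts f.s_t f.order_s f.s_ne).2.1 a a.2.1 b b.2.1 a.2.2.1 b.2.2.1).eq }
  haveI hcyc : IsCyclic T := by
    haveI : Group.IsNilpotent T := CommGroup.isNilpotent
    infer_instance
  -- `k` normalises `T`
  have hkT : ∀ g ∈ T, f.k * g * f.k⁻¹ ∈ T := fun g hg => by
    obtain ⟨h1, h2⟩ := f.k_conj_comm (d.L_comm_t hg.1) hg.2.1
    have ho : Odd (orderOf (f.k * g * f.k⁻¹)) := by
      rw [← MulAut.conj_apply, MulEquiv.orderOf_eq]; exact hTodd g hg
    exact hmem _ (d.orderOf_dvd_half f.s_t f.order_s f.s_ne h1 h2 ho).1 h2 ho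
  obtain ⟨g₀, hgen⟩ := hcyc.exists_generator
  obtain ⟨m, hm⟩ := Subgroup.mem_zpowers_iff.1 (hgen ⟨_, hkT g₀ g₀.2⟩)
  have hm' : (g₀ : G) ^ m = f.k * g₀ * f.k⁻¹ := congrArg Subtype.val hm
  have hact : ∀ g ∈ T, f.k * g * f.k⁻¹ = g ^ m := fun g hg => by
    obtain ⟨i, hi⟩ := Subgroup.mem_zpowers_iff.1 (hgen ⟨g, hg⟩)
    have hi' : (g₀ : G) ^ i = g := congrArg Subtype.val hi
    rw [← hi', ← conj_zpow, ← hm', ← zpow_mul, ← zpow_mul, mul_comm]
  have hwT := hmem w hw hws hodd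
  set r := f.s * f.z with hr
  have hrw : r * w * r⁻¹ = w⁻¹ := f.sz_torus hw hws
  have hkwT := hkT w hwT
  have hrk : r * (f.k * w * f.k⁻¹) * r⁻¹ = (f.k * w * f.k⁻¹)⁻¹ := f.sz_torus hkwT.1 hkwT.2.1
  have h2 : f.k⁻¹ * w⁻¹ * f.k = (f.k * w * f.k⁻¹)⁻¹ := by
    rw [← hrk, ← hrw]
    have e : r * f.k * r⁻¹ = f.k⁻¹ := f.sz_k
    calc f.k⁻¹ * (r * w * r⁻¹) * f.k = (r * f.k * r⁻¹) * (r * w * r⁻¹) * (r * f.k * r⁻¹)⁻¹ := by
          rw [e, inv_inv]
      _ = r * (f.k * w * f.k⁻¹) * r⁻¹ := by group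
  have h3 : Commute (f.k * f.k) w := by
    have h2' : f.k⁻¹ * w * f.k = f.k * w * f.k⁻¹ := by
      have := congrArg (·⁻¹) h2
      simpa [mul_inv_rev, inv_inv, mul_assoc] using this
    show f.k * f.k * w = w * (f.k * f.k)
    calc f.k * f.k * w = f.k * (f.k * w * f.k⁻¹) * f.k := by group
      _ = f.k * (f.k⁻¹ * w * f.k) * f.k := by rw [h2']
      _ = w * (f.k * f.k) := by group
  obtain ⟨i, hi⟩ := exists_pow_eq_self_of_coprime (x := f.k) (n := 2) (Nat.coprime_two_left.2 f.k_odd)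
  rw [← hi, pow_two]
  exact h3.pow_left i

/-- No element of order four of `C(t)` centralises a nontrivial torus element of odd order. -/
theorem no_four {w g : G} (hw : w ∈ d.L) (hws : Commute w f.s) (hodd : Odd (orderOf w)) (hw1 : w ≠ 1)
    (hg : Commute g t) (hg4 : orderOf g = 4) : ¬ Commute g w := fun hgw => by
  have hgL := d.four_mem g (Subgroup.mem_centralizer_singleton_iff.2 hg.eq) hg4
  have h1 := (d.orderOf_dvd_half f.s_t f.order_s f.s_ne (d.L_comm_t hw) hws hodd).2.trans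
    (show d.half ∣ sOdd d.p from ⟨2, by rw [d.half_facts.1, mul_comm]⟩)
  have h2 : orderOf w ∣ sEven d.p := (d.four_facts hgL hg4).1 ▸
    Subgroup.orderOf_dvd_natCard _ ⟨hw, Subgroup.mem_centralizer_singleton_iff.2 hgw.symm.eq⟩
  rcases (Nat.dvd_prime Nat.prime_two).1 ((sOdd_facts d.fact.out d.five).2.2.2.2.1 _ h1 h2) with e | e
  · exact hw1 (orderOf_eq_one_iff.1 e)
  · rw [e] at hodd; exact absurd hodd (by decide)

/-- A 2-group containing `t`, `s` and centralising a torus element of odd order is `⟨t, s⟩`. -/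
theorem two_group (h : OddCyclic G) {w : G} (hw : w ∈ d.L) (hws : Commute w f.s) (hodd : Odd (orderOf w))
    (hw1 : w ≠ 1) (P : Subgroup G) (hP : IsPGroup 2 P) (hPw : ∀ g ∈ P, Commute g w) (htP : t ∈ P)
    (hsP : f.s ∈ P) : ∀ g ∈ P, g = 1 ∨ g = t ∨ g = f.s ∨ g = t * f.s := by
  haveI := Fact.mk Nat.prime_two
  -- the centraliser of `t` in such a group
  have key : ∀ Q : Subgroup G, IsPGroup 2 Q → (∀ g ∈ Q, Commute g w) → f.s ∈ Q →
      ∀ g ∈ Q, Commute g t → g = 1 ∨ g = t ∨ g = f.s ∨ g = t * f.s := by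
    intro Q hQ hQw hsQ g hgQ hgt
    have hsq : ∀ a ∈ Q, Commute a t → a * a = 1 := by
      intro a ha hat
      obtain ⟨n, hn⟩ := IsPGroup.iff_orderOf.1 hQ ⟨a, ha⟩
      rw [Subgroup.orderOf_mk] at hn
      by_contra hne
      have hn2 : 2 ≤ n := by
        rcases (show n = 0 ∨ n = 1 ∨ 2 ≤ n by omega) with e | e | e
        · exact absurd (orderOf_eq_one_iff.1 (by rw [hn, e, pow_zero])) fun e1 => hne (by rw [e1, one_mul])
        · exact absurd (orderOf_dvd_iff_pow_eq_one.1 (show orderOf a ∣ 2 by rw [hn, e, pow_one])) (by rwa [pow_two])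
        · exact e
      refine f.no_four hw hws hodd hw1 (g := a ^ 2 ^ (n - 2)) (hat.pow_left _) ?_
        ((hQw a ha).pow_left _)
      rw [orderOf_pow' _ (by positivity), hn, Nat.gcd_eq_right (pow_dvd_pow 2 (by omega)),
        Nat.pow_div (by omega) two_pos, show n - (n - 2) = 2 by omega]
      rfl
    have hg2 := hsq g hgQ hgt
    have h3 := hsq _ (mul_mem hgQ hsQ) (hgt.mul_left f.s_t)
    have hgs : Commute g f.s := by
      have h4 : (g * f.s)⁻¹ = g * f.s := inv_eq_of_mul_eq_one_right h3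
      rw [mul_inv_rev, f.s_inv, inv_eq_of_mul_eq_one_right hg2] at h4
      exact h4.symm
    obtain ⟨l, hl, hls, rfl | rfl⟩ := d.cent_four f.s_t f.order_s f.s_ne hgt hgs
    · rcases d.sq_one hl hg2 with e | e
      · exact Or.inl e
      · exact Or.inr (Or.inl e)
    · have hl2 : l * l = 1 := by
        rw [← hg2, show f.s * l * (f.s * l) = f.s * (l * f.s) * l by group, hls.eq, ← mul_assoc, f.ss,
          one_mul]
      rcases d.sq_one hl hl2 with e | e
      · exact Or.inr (Or.inr (Or.inl (by rw [e, mul_one])))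
      · exact Or.inr (Or.inr (Or.inr (by rw [e, f.s_t.eq])))
  haveI : Nontrivial P := ⟨⟨⟨t, htP⟩, 1, fun e => by
    have := f.order_t
    rw [show t = 1 from congrArg Subtype.val e, orderOf_one] at this
    norm_num at this⟩⟩
  haveI := hP.center_nontrivial
  obtain ⟨c, hc⟩ := exists_ne (1 : Subgroup.center P)
  have hcP : ∀ g ∈ P, Commute g ((c : P) : G) := fun g hg =>
    congrArg Subtype.val (Subgroup.mem_center_iff.1 c.2 ⟨g, hg⟩)
  have hkw := f.k_comm h hw hws hodd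
  have hconj : ∀ (n : G), Commute n w → IsPGroup 2 (P.map (MulAut.conj n).toMonoidHom) ∧
      ∀ g ∈ P.map (MulAut.conj n).toMonoidHom, Commute g w := fun n hn => by
    refine ⟨hP.map _, ?_⟩
    rintro _ ⟨g, hg, rfl⟩
    show Commute (n * g * n⁻¹) w
    have := (hPw g hg).conj n
    rwa [hn.eq, mul_inv_cancel_right] at this
  have hts : f.k⁻¹ * t * f.k = t * f.s := by
    calc f.k⁻¹ * t * f.k = f.k⁻¹ * (f.k * (t * f.s) * f.k⁻¹) * f.k := by rw [f.ts_conj_s]
      _ = t * f.s := by group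
  have hst' : f.k⁻¹ * f.s * f.k = t := by
    calc f.k⁻¹ * f.s * f.k = f.k⁻¹ * (f.k * t * f.k⁻¹) * f.k := by rw [f.k_t]
      _ = t := by group
  have htss : f.k⁻¹ * (t * f.s) * f.k = f.s := by
    calc f.k⁻¹ * (t * f.s) * f.k = f.k⁻¹ * (f.k * f.s * f.k⁻¹) * f.k := by rw [f.k_s]
      _ = f.s := by group
  intro g hg
  rcases key P hP hPw hsP _ (c : P).2 (hcP t htP).symm with e | e | e | e
  · exact absurd (Subtype.ext (Subtype.ext e)) hc
  · exact key P hP hPw hsP g hg (e ▸ hcP g hg)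
  · -- conjugate by `k⁻¹`
    obtain ⟨h1, h2⟩ := hconj f.k⁻¹ hkw.inv_left
    have hs' : f.s ∈ P.map (MulAut.conj f.k⁻¹).toMonoidHom := ⟨t * f.s, mul_mem htP hsP, by
      show f.k⁻¹ * (t * f.s) * f.k⁻¹⁻¹ = f.s
      rw [inv_inv, htss]⟩
    have hc' : Commute (f.k⁻¹ * g * f.k⁻¹⁻¹) t := by
      have := (e ▸ hcP g hg : Commute g f.s).conj f.k⁻¹
      simpa [hst'] using this
    have := key _ h1 h2 hs' _ ⟨g, hg, rfl⟩ hc'
    rw [show ((MulAut.conj f.k⁻¹).toMonoidHom) g = f.k⁻¹ * g * f.k⁻¹⁻¹ from rfl, inv_inv] at this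
    have hback : g = f.k * (f.k⁻¹ * g * f.k) * f.k⁻¹ := by group
    rcases this with e' | e' | e' | e' <;> rw [e'] at hback
    · exact Or.inl (by rw [hback]; group)
    · exact Or.inr (Or.inr (Or.inl (hback.trans f.k_t)))
    · exact Or.inr (Or.inr (Or.inr (hback.trans f.k_s)))
    · exact Or.inr (Or.inl (hback.trans f.ts_conj_s))
  · -- conjugate by `k`
    obtain ⟨h1, h2⟩ := hconj f.k hkw
    have hs' : f.s ∈ P.map (MulAut.conj f.k).toMonoidHom := ⟨t, htP, f.k_t⟩
    have hc' : Commute (f.k * g * f.k⁻¹) t := by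
      have := (e ▸ hcP g hg : Commute g (t * f.s)).conj f.k
      rwa [f.ts_conj_s] at this
    have := key _ h1 h2 hs' _ ⟨g, hg, rfl⟩ hc'
    rw [show ((MulAut.conj f.k).toMonoidHom) g = f.k * g * f.k⁻¹ from rfl] at this
    have hback : g = f.k⁻¹ * (f.k * g * f.k⁻¹) * f.k := by group
    rcases this with e' | e' | e' | e' <;> rw [e'] at hback
    · exact Or.inl (by rw [hback]; group)
    · exact Or.inr (Or.inr (Or.inr (hback.trans hts)))
    · exact Or.inr (Or.inl (hback.trans hst'))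
    · exact Or.inr (Or.inr (Or.inl (hback.trans htss)))

end Frame

end CfsgLib.SuzukiCyclic
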