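import Cfsg.Agent.Lib.SuzukiCyclic.SemiFrame
import Cfsg.Agent.Lib.ZStar.UniqueInvol
import Cfsg.Agent.Lib.ZStar.Recognize

/-!
# Component `SL₂(p)`, `3` prime to the order of the torus

The three-element `k` has order three, `C(k)` has cyclic Sylow 2-subgroups with elements of order four
and a normal complement which contains a torus element `w` of prime order. The Frattini argument gives
an element `e` of order four of `C(k)` normalising `⟨w⟩`; `e²` centralises `w`, which puts `k`, `e`, `w`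
in the centraliser of an involution, where they must commute: impossible.
-/

set_option autoImplicit false
set_option linter.unusedSectionVars false
set_option linter.style.haveILetI false

universe u

namespace CfsgLib.SuzukiCyclic

open Cfsg CfsgLib

variable {G : Type u} [Group G] [Finite G]

theorem orderOf_conj_eq (g a : G) : orderOf (g * a * g⁻¹) = orderOf a := by
  rw [← MulAut.conj_apply, MulEquiv.orderOf_eq]

theorem commute_conj_iff' {g a b : G} (h : Commute a b) : Commute (g * a * g⁻¹) (g * b * g⁻¹) :=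
  h.conj g

namespace Frame

variable {t : G} {d : CentData t} (f : Frame d)

theorem k_cube_comm : Commute (f.k ^ 3) t ∧ Commute (f.k ^ 3) f.s := by
  have e1 : f.k ^ 3 * t * (f.k ^ 3)⁻¹ = t := by
    rw [show f.k ^ 3 * t * (f.k ^ 3)⁻¹ = f.k * (f.k * (f.k * t * f.k⁻¹) * f.k⁻¹) * f.k⁻¹ by
        simp [pow_succ, mul_assoc],
      f.k_t, f.k_s, f.ts_conj_s]
  have e2 : f.k ^ 3 * f.s * (f.k ^ 3)⁻¹ = f.s := by
    rw [show f.k ^ 3 * f.s * (f.k ^ 3)⁻¹ = f.k * (f.k * (f.k * f.s * f.k⁻¹) * f.k⁻¹) * f.k⁻¹ by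
        simp [pow_succ, mul_assoc],
      f.k_s, f.ts_conj_s, f.k_t]
  exact ⟨mul_inv_eq_iff_eq_mul.1 e1, mul_inv_eq_iff_eq_mul.1 e2⟩

/-- Corrects an element permuting `t`, `s`, `t s` by `k` and `s z` into the centraliser of the four
group. -/
theorem exists_fix {n : G} (h1 : n * t * n⁻¹ = t ∨ n * t * n⁻¹ = f.s ∨ n * t * n⁻¹ = t * f.s)
    (h2 : n * f.s * n⁻¹ = t ∨ n * f.s * n⁻¹ = f.s ∨ n * f.s * n⁻¹ = t * f.s) :
    ∃ i : ℕ, (Commute ((f.k ^ i)⁻¹ * n) t ∧ Commute ((f.k ^ i)⁻¹ * n) f.s) ∨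
      (Commute (f.s * f.z * ((f.k ^ i)⁻¹ * n)) t ∧ Commute (f.s * f.z * ((f.k ^ i)⁻¹ * n)) f.s) := by
  have hne : n * t * n⁻¹ ≠ n * f.s * n⁻¹ := fun e => f.s_ne (mul_left_cancel (mul_right_cancel e)).symm
  have ht0 : f.k ^ 0 * t * (f.k ^ 0)⁻¹ = t := by group
  have ht1 : f.k ^ 1 * t * (f.k ^ 1)⁻¹ = f.s := by rw [pow_one]; exact f.k_t
  have ht2 : f.k ^ 2 * t * (f.k ^ 2)⁻¹ = t * f.s := by
    rw [show f.k ^ 2 * t * (f.k ^ 2)⁻¹ = f.k * (f.k * t * f.k⁻¹) * f.k⁻¹ by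
      simp [pow_succ, mul_assoc], f.k_t, f.k_s]
  have hs1 : f.k ^ 1 * f.s * (f.k ^ 1)⁻¹ = t * f.s := by rw [pow_one]; exact f.k_s
  have hs2 : f.k ^ 2 * f.s * (f.k ^ 2)⁻¹ = t := by
    rw [show f.k ^ 2 * f.s * (f.k ^ 2)⁻¹ = f.k * (f.k * f.s * f.k⁻¹) * f.k⁻¹ by
      simp [pow_succ, mul_assoc], f.k_s, f.ts_conj_s]
  obtain ⟨i, hi⟩ : ∃ i, n * t * n⁻¹ = f.k ^ i * t * (f.k ^ i)⁻¹ := by
    rcases h1 with e | e | e
    · exact ⟨0, e.trans ht0.symm⟩
    · exact ⟨1, e.trans ht1.symm⟩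
    · exact ⟨2, e.trans ht2.symm⟩
  refine ⟨i, ?_⟩
  set m := (f.k ^ i)⁻¹ * n with hm
  have hmt : m * t * m⁻¹ = t := by
    rw [hm, show (f.k ^ i)⁻¹ * n * t * ((f.k ^ i)⁻¹ * n)⁻¹ = (f.k ^ i)⁻¹ * (n * t * n⁻¹) * f.k ^ i by group,
      hi]
    group
  have hms : m * f.s * m⁻¹ = f.s ∨ m * f.s * m⁻¹ = t * f.s := by
    have hV : ∀ (j : ℕ) (v : G), v = t ∨ v = f.s ∨ v = t * f.s →
        (f.k ^ j)⁻¹ * v * f.k ^ j = t ∨ (f.k ^ j)⁻¹ * v * f.k ^ j = f.s ∨
          (f.k ^ j)⁻¹ * v * f.k ^ j = t * f.s := by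
      intro j
      induction j with
      | zero => intro v hv; simpa using hv
      | succ j ih =>
        intro v hv
        have e : (f.k ^ (j + 1))⁻¹ * v * f.k ^ (j + 1) = (f.k ^ j)⁻¹ * (f.k⁻¹ * v * f.k) * f.k ^ j := by
          group
        rw [e]
        refine ih _ ?_
        rcases hv with hv | hv | hv <;> rw [hv]
        · right; right
          calc f.k⁻¹ * t * f.k = f.k⁻¹ * (f.k * (t * f.s) * f.k⁻¹) * f.k := by rw [f.ts_conj_s]
            _ = t * f.s := by group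
        · left
          calc f.k⁻¹ * f.s * f.k = f.k⁻¹ * (f.k * t * f.k⁻¹) * f.k := by rw [f.k_t]
            _ = t := by group
        · right; left
          calc f.k⁻¹ * (t * f.s) * f.k = f.k⁻¹ * (f.k * f.s * f.k⁻¹) * f.k := by rw [f.k_s]
            _ = f.s := by group
    have e : m * f.s * m⁻¹ = (f.k ^ i)⁻¹ * (n * f.s * n⁻¹) * f.k ^ i := by rw [hm]; group
    rcases hV i _ h2 with h | h | h
    · exfalso
      refine f.s_ne ?_
      have : m * f.s * m⁻¹ = m * t * m⁻¹ := by rw [e, h, hmt]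
      exact mul_left_cancel (mul_right_cancel this)
    · exact Or.inl (e.trans h)
    · exact Or.inr (e.trans h)
  rcases hms with h | h
  · exact Or.inl ⟨mul_inv_eq_iff_eq_mul.1 hmt, mul_inv_eq_iff_eq_mul.1 h⟩
  · refine Or.inr ⟨f.sz_t.mul_left (mul_inv_eq_iff_eq_mul.1 hmt), mul_inv_eq_iff_eq_mul.1 ?_⟩
    rw [show f.s * f.z * m * f.s * (f.s * f.z * m)⁻¹ = f.s * f.z * (m * f.s * m⁻¹) * (f.s * f.z)⁻¹ by group,
      h, show f.s * f.z * (t * f.s) * (f.s * f.z)⁻¹ =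
        (f.s * f.z * t * (f.s * f.z)⁻¹) * (f.s * f.z * f.s * (f.s * f.z)⁻¹) by group, f.sz_s,
      f.sz_t.eq, mul_inv_cancel_right, ← mul_assoc, f.tt, one_mul]

/-- `k`, `s z` and the centraliser of the four group act on a torus element of odd order by signs. -/
theorem torus_sign (h : OddCyclic G) {w n : G} (hw : w ∈ d.L) (hws : Commute w f.s)
    (hodd : Odd (orderOf w))
    (h1 : n * t * n⁻¹ = t ∨ n * t * n⁻¹ = f.s ∨ n * t * n⁻¹ = t * f.s)
    (h2 : n * f.s * n⁻¹ = t ∨ n * f.s * n⁻¹ = f.s ∨ n * f.s * n⁻¹ = t * f.s) :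
    n * w * n⁻¹ = w ∨ n * w * n⁻¹ = w⁻¹ := by
  have hcent : ∀ m : G, Commute m t → Commute m f.s → m * w * m⁻¹ = w := by
    intro m hmt hms
    obtain ⟨l, hl, hls, rfl | rfl⟩ := d.cent_four f.s_t f.order_s f.s_ne hmt hms
    · rw [((d.torus_facts f.s_t f.order_s f.s_ne).2.1 m hl w hw hls hws).eq, mul_inv_cancel_right]
    · rw [(hws.symm.mul_left ((d.torus_facts f.s_t f.order_s f.s_ne).2.1 l hl w hw hls hws)).eq,
        mul_inv_cancel_right]
  have hk : ∀ i : ℕ, ∀ v : G, Commute v f.k → f.k ^ i * v * (f.k ^ i)⁻¹ = v := fun i v hv => by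
    rw [(hv.symm.pow_left i).eq, mul_inv_cancel_right]
  have hkw := (f.k_comm h hw hws hodd).symm
  obtain ⟨i, ⟨a, b⟩ | ⟨a, b⟩⟩ := f.exists_fix h1 h2
  · left
    rw [show n * w * n⁻¹ = f.k ^ i * ((f.k ^ i)⁻¹ * n * w * ((f.k ^ i)⁻¹ * n)⁻¹) * (f.k ^ i)⁻¹ by group,
      hcent _ a b, hk i w hkw]
  · right
    set r := f.s * f.z
    set m := r * ((f.k ^ i)⁻¹ * n) with hm
    rw [show n * w * n⁻¹ = f.k ^ i * (r⁻¹ * (m * w * m⁻¹) * r) * (f.k ^ i)⁻¹ by rw [hm]; group,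
      hcent _ a b, inv_eq_of_mul_eq_one_right f.sz_sq]
    have h' : r * w * r = w⁻¹ := by
      have := f.sz_torus hw hws
      rwa [inv_eq_of_mul_eq_one_right f.sz_sq] at this
    rw [h', hk i _ hkw.inv_left]

include f in
/-- The elements of order three of `C(t)` lie in `L`. -/
theorem three_mem (hdvd : 3 ∣ Nat.card d.L) {y : G} (hy : Commute y t) (hy3 : orderOf y = 3) : y ∈ d.L := by
  refine d.mem_L_of_coprime f.s_t f.order_s f.s_ne hy (by rw [hy3]; decide) ?_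
  rw [hy3, Nat.prime_three.coprime_iff_not_dvd]
  intro hX
  have := Nat.dvd_gcd hX hdvd
  rw [d.coprime.gcd_eq_one] at this
  omega

theorem three_dvd_L (h3 : ¬ 3 ∣ d.half) :
    3 ∣ Nat.card ↥(d.L ⊓ Subgroup.centralizer ({f.z} : Set G)) ∧ 3 ∣ Nat.card d.L := by
  have h := (sOdd_facts d.fact.out d.five).2.2.2.2.2
  rw [d.half_facts.1] at h
  have h' : 3 ∣ sEven d.p := by
    rcases Nat.prime_three.dvd_mul.1 h with e | e
    · rcases Nat.prime_three.dvd_mul.1 e with e' | e'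
      · norm_num at e'
      · exact absurd e' h3
    · exact e
  rw [← (d.four_facts f.z_mem f.order_z).1] at h'
  exact ⟨h', h'.trans (Subgroup.card_dvd_of_le inf_le_left)⟩

/-- The 2-subgroups of `C(k)` are cyclic. -/
theorem cyclic_two (hone : ∀ x : G, orderOf x = 2 → IsConj t x) (h3 : ¬ 3 ∣ d.half)
    (hk : orderOf f.k = 3) (P : Subgroup G) (hP : IsPGroup 2 P) (hPk : ∀ g ∈ P, Commute g f.k) :
    IsCyclic P := by
  classical
  -- no four group
  have hfour : ∀ v v' : G, orderOf v = 2 → orderOf v' = 2 → Commute v v' → Commute v f.k →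
      Commute v' f.k → v = v' := by
    intro v v' hv hv' hvv hvk hv'k
    by_contra hne
    obtain ⟨n, hn⟩ := isConj_iff.1 (hone v hv)
    have hn' : n⁻¹ * v * n⁻¹⁻¹ = t := by rw [← hn]; group
    have a1 : Commute (n⁻¹ * f.k * n⁻¹⁻¹) t := hn' ▸ hvk.symm.conj n⁻¹
    have a2 : Commute (n⁻¹ * v' * n⁻¹⁻¹) t := hn' ▸ hvv.symm.conj n⁻¹
    have a3 : n⁻¹ * v' * n⁻¹⁻¹ ≠ t := fun e => hne
      (mul_left_cancel (mul_right_cancel (hn'.trans e.symm)))
    have hd := (d.orderOf_dvd_half a2 (by rw [orderOf_conj_eq, hv']) a3 a1 (hv'k.symm.conj n⁻¹)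
      (by rw [orderOf_conj_eq, hk]; decide)).2
    rw [orderOf_conj_eq, hk] at hd
    exact h3 hd
  by_cases hP1 : ∀ g ∈ P, g = 1
  · haveI : Subsingleton P := ⟨fun a b => Subtype.ext ((hP1 a a.2).trans (hP1 b b.2).symm)⟩
    exact isCyclic_of_subsingleton
  have huniq : ∀ x y : P, orderOf x = 2 → orderOf y = 2 → x = y := by
    haveI := Fact.mk Nat.prime_two
    haveI : Nontrivial P := by
      push Not at hP1
      obtain ⟨g, hg, hg1⟩ := hP1
      exact ⟨⟨⟨g, hg⟩, 1, fun e => hg1 (congrArg Subtype.val e)⟩⟩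
    haveI := hP.center_nontrivial
    obtain ⟨c, hc⟩ := exists_prime_orderOf_dvd_card' 2 (show 2 ∣ Nat.card (Subgroup.center P) from
      ((hP.to_subgroup _).nontrivial_iff_card.mp inferInstance).elim fun n hn =>
        hn.2 ▸ dvd_pow_self 2 hn.1.ne')
    have hc2 : orderOf ((c : P) : G) = 2 := by rw [Subgroup.orderOf_coe, Subgroup.orderOf_coe, hc]
    have key : ∀ x : P, orderOf x = 2 → (x : G) = ((c : P) : G) := fun x hx =>
      hfour _ _ (by rw [Subgroup.orderOf_coe, hx]) hc2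
        (congrArg Subtype.val (Subgroup.mem_center_iff.1 c.2 x)) (hPk _ x.2) (hPk _ (c : P).2)
    exact fun x y hx hy => Subtype.ext ((key x hx).trans (key y hy).symm)
  rcases ZStar.unique_involution_structure hP huniq with hc | ⟨a, n, hn, ha, -, hidx, hout⟩
  · exact hc
  exfalso
  obtain ⟨x, hx⟩ : ∃ x : P, x ∉ Subgroup.zpowers a := by
    by_contra hall
    push Not at hall
    rw [show Subgroup.zpowers a = ⊤ from eq_top_iff.mpr fun x _ => hall x, Subgroup.index_top] at hidx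
    omega
  have hinv := hout x hx
  obtain ⟨j, hj⟩ : x * x ∈ Subgroup.zpowers a := by rw [Subgroup.mul_mem_iff_of_index_two hidx]
  have hj' : a ^ j = x * x := hj
  have hx4 : x * x * (x * x) = 1 := by
    have : (x * x)⁻¹ = x * x := by
      rw [← hj', ← inv_zpow, ← hinv, conj_zpow, hj']; group
    nth_rewrite 1 [← this]
    exact inv_mul_cancel _
  set a4 := a ^ 2 ^ (n - 2) with ha4
  have ha4o : orderOf a4 = 4 := by
    rw [ha4, orderOf_pow' _ (by positivity), ha, Nat.gcd_eq_right (pow_dvd_pow 2 (by omega)),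
      Nat.pow_div (by omega) two_pos, show n - (n - 2) = 2 by omega]
    rfl
  have ha2o : orderOf (a4 * a4) = 2 := by
    rw [← pow_two, orderOf_pow' _ (by norm_num), ha4o]; rfl
  have hxx2 : orderOf (x * x) = 2 := orderOf_eq_prime (by rw [pow_two, hx4]) fun e => by
    refine hx ?_
    have hx2 : orderOf x = 2 := orderOf_eq_prime (by rw [pow_two, e]) fun e1 => hx (e1 ▸ one_mem _)
    rw [huniq x _ hx2 ha2o]
    exact mul_mem (pow_mem (Subgroup.mem_zpowers a) _) (pow_mem (Subgroup.mem_zpowers a) _)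
  have hxsq : x * x = a4 * a4 := huniq _ _ hxx2 ha2o
  -- conjugate the common square to `t`
  obtain ⟨g, hg⟩ := isConj_iff.1 (hone ((x * x : P) : G) (by rw [Subgroup.orderOf_coe, hxx2]))
  have hb : ∀ b : P, b * b = x * x → g⁻¹ * (b : G) * g⁻¹⁻¹ ∈ d.L ∧
      Commute (g⁻¹ * (b : G) * g⁻¹⁻¹) (g⁻¹ * f.k * g⁻¹⁻¹) := by
    intro b hbb
    have hbt : (g⁻¹ * (b : G) * g⁻¹⁻¹) * (g⁻¹ * (b : G) * g⁻¹⁻¹) = t := by
      have : ((b : G) * b) = g * t * g⁻¹ := by rw [hg, ← Subgroup.coe_mul, hbb]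
      rw [show g⁻¹ * (b : G) * g⁻¹⁻¹ * (g⁻¹ * (b : G) * g⁻¹⁻¹) = g⁻¹ * ((b : G) * b) * g by group, this]
      group
    refine ⟨d.four_mem _ (Subgroup.mem_centralizer_singleton_iff.2 (hbt ▸ (Commute.refl _).mul_right
      (Commute.refl _)).eq) ?_, (hPk _ b.2).conj g⁻¹⟩
    rw [orderOf_conj_eq, Subgroup.orderOf_coe]
    refine orderOf_eq_prime_pow (p := 2) (n := 1) (fun e => ?_) ?_
    · rw [pow_one, pow_two, hbb] at e
      rw [e, orderOf_one] at hxx2
      norm_num at hxx2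
    · rw [show (2 : ℕ) ^ (1 + 1) = 4 from rfl, show b ^ 4 = (b * b) * (b * b) by simp [pow_succ, mul_assoc], hbb, hx4]
  obtain ⟨hxL, hxk⟩ := hb x rfl
  obtain ⟨haL, hak⟩ := hb a4 hxsq.symm
  have hky : orderOf (g⁻¹ * f.k * g⁻¹⁻¹) = 3 := by rw [orderOf_conj_eq, hk]
  have hkt : Commute (g⁻¹ * f.k * g⁻¹⁻¹) t := by
    have hgt : g⁻¹ * ((x * x : P) : G) * g⁻¹⁻¹ = t := by rw [← hg]; group
    exact hgt ▸ (hPk _ (x * x).2).symm.conj g⁻¹
  have hkL := f.three_mem (f.three_dvd_L h3).2 hkt hky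
  have hk2 : (g⁻¹ * f.k * g⁻¹⁻¹) * (g⁻¹ * f.k * g⁻¹⁻¹) ≠ 1 := fun e => by
    have := orderOf_dvd_of_pow_eq_one (x := g⁻¹ * f.k * g⁻¹⁻¹) (n := 2) (by rw [pow_two, e])
    rw [hky] at this
    omega
  have hcomm := d.cent_non_central hkL hxL haL hk2 hxk hak
  have hxa : Commute x a4 := by
    refine Subtype.ext ?_
    have := hcomm.conj g
    simpa [mul_assoc] using this.eq
  have : a4⁻¹ = a4 := by
    rw [ha4, ← inv_pow, ← hinv, conj_pow, ← ha4, hxa.eq, mul_inv_cancel_right]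
  have h2 : a4 ^ 2 = 1 := by rw [pow_two]; nth_rewrite 1 [← this]; exact inv_mul_cancel _
  have := orderOf_dvd_of_pow_eq_one h2
  rw [ha4o] at this
  omega

/-- An element of order four of `C(k)` normalising `⟨w⟩`. -/
theorem exists_four_normalizing (h : OddCyclic G) (hone : ∀ x : G, orderOf x = 2 → IsConj t x)
    (h3 : ¬ 3 ∣ d.half) (hk : orderOf f.k = 3) {x : G} (hx : orderOf x = 4) (hxk : Commute x f.k)
    {w : G} {q : ℕ} (hq : q.Prime) (hq2 : q ≠ 2) (hw : orderOf w = q) (hwk : Commute w f.k) :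
    ∃ e : G, orderOf e = 4 ∧ Commute e f.k ∧ e * w * e⁻¹ ∈ Subgroup.zpowers w := by
  classical
  haveI := Fact.mk Nat.prime_two
  haveI := Fact.mk hq
  set Ck := Subgroup.centralizer ({f.k} : Set G) with hCk
  obtain ⟨P⟩ : Nonempty (Sylow 2 ↥Ck) := inferInstance
  have hPc : IsCyclic (P : Subgroup ↥Ck) := by
    haveI := f.cyclic_two hone h3 hk ((P : Subgroup ↥Ck).map Ck.subtype) (P.2.map _) (by
      rintro _ ⟨g, -, rfl⟩
      exact Subgroup.mem_centralizer_singleton_iff.1 g.2)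
    exact isCyclic_of_injective
      ((P : Subgroup ↥Ck).equivMapOfInjective Ck.subtype Ck.subtype_injective).toMonoidHom
      (MulEquiv.injective _)
  obtain ⟨P₀, K, hK, hc⟩ := ZStar.hasNormalPComplement_of_cyclic P hPc
  haveI := hK
  obtain ⟨n, hn⟩ := P₀.2.exists_card_eq
  have hidx : K.index = 2 ^ n := by rw [← hn]; exact hc.symm.index_eq_card
  have hodd : ∀ g : ↥Ck, Odd (orderOf g) → g ∈ K := fun g hg => by
    rw [← QuotientGroup.eq_one_iff]
    refine orderOf_eq_one_iff.1 (Nat.eq_one_of_dvd_coprimes (a := orderOf g) (b := 2 ^ n)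
      ((Nat.coprime_two_right.2 hg).pow_right n) (orderOf_map_dvd (QuotientGroup.mk' K) g) ?_)
    rw [← hidx, Subgroup.index_eq_card]
    exact orderOf_dvd_natCard _
  have hKodd : ∀ g ∈ K, orderOf g ≠ 2 := fun g hg e => by
    have h2 : 2 ∣ Nat.card K := e ▸ K.orderOf_dvd_natCard hg
    have hmul : 2 ^ (n + 1) ∣ Nat.card ↥Ck := by
      rw [← hc.card_mul_card, hn, pow_succ, mul_comm]
      exact Nat.mul_dvd_mul_right h2 _
    have := P₀.pow_dvd_card_of_pow_dvd_card hmul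
    rw [hn, Nat.pow_dvd_pow_iff_le_right one_lt_two] at this
    omega
  set w' : ↥Ck := ⟨w, Subgroup.mem_centralizer_singleton_iff.2 hwk.eq⟩ with hw'
  set x' : ↥Ck := ⟨x, Subgroup.mem_centralizer_singleton_iff.2 hxk.eq⟩ with hx'
  have hwo : orderOf w' = q := by rw [hw', Subgroup.orderOf_mk, hw]
  have hwK : w' ∈ K := hodd w' (hwo ▸ hq.odd_of_ne_two hq2)
  obtain ⟨R, hR⟩ := (IsPGroup.of_card (p := q) (n := 1) (G := Subgroup.zpowers (⟨w', hwK⟩ : K))
    (by rw [Nat.card_zpowers, Subgroup.orderOf_mk, hwo, pow_one])).exists_le_sylow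
  have hwR : w' ∈ (R : Subgroup K).map K.subtype :=
    ⟨⟨w', hwK⟩, hR (Subgroup.mem_zpowers _), rfl⟩
  obtain ⟨m, hm, c, hc', hmc⟩ := Subgroup.mem_sup_of_normal_right.1
    (show x' ∈ Subgroup.normalizer ((R : Subgroup K).map K.subtype : Set ↥Ck) ⊔ K by
      rw [Sylow.normalizer_sup_eq_top]; exact Subgroup.mem_top _)
  -- the odd part is killed
  have hq2' : (QuotientGroup.mk' K m) = QuotientGroup.mk' K x' := by
    rw [← hmc, map_mul, (QuotientGroup.eq_one_iff (N := K) c).2 hc' |> fun e =>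
      (show QuotientGroup.mk' K c = 1 from e), mul_one]
  have hx2 : x' ^ 2 ∉ K := fun hm2 => hKodd _ hm2 (by
    rw [orderOf_pow' _ (by norm_num), hx', Subgroup.orderOf_mk, hx]; rfl)
  obtain ⟨a, o, ho, hoo⟩ : ∃ a o, Odd o ∧ orderOf m = 2 ^ a * o := by
    obtain ⟨a, o, ho, hao⟩ := Nat.exists_eq_pow_mul_and_not_dvd (orderOf_pos m).ne' 2 (by norm_num)
    exact ⟨a, o, Nat.odd_iff.2 (by omega), hao⟩
  set m₂ := m ^ o with hm₂
  have hm₂o : orderOf m₂ = 2 ^ a := by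
    rw [hm₂, orderOf_pow_of_dvd (Nat.pos_iff_ne_zero.1 ho.pos) ⟨2 ^ a, by rw [hoo]; ring⟩, hoo,
      Nat.mul_div_cancel _ ho.pos]
  have ha2 : 2 ≤ a := by
    by_contra hlt
    refine hx2 ((QuotientGroup.eq_one_iff _).1 ?_)
    have h1 : m₂ ^ 2 = 1 := orderOf_dvd_iff_pow_eq_one.1 (hm₂o ▸ (pow_dvd_pow 2 (show a ≤ 1 by omega)).trans
      (pow_one 2).dvd)
    have h4 : (QuotientGroup.mk' K x') ^ 4 = 1 := by
      rw [← map_pow, show x' ^ 4 = 1 from Subtype.ext (by simpa [hx', ← hx] using pow_orderOf_eq_one x),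
        map_one]
    obtain ⟨j, rfl⟩ := ho
    have h2 : (QuotientGroup.mk' K x') ^ ((2 * j + 1) * 2) = 1 := by
      rw [← hq2', ← map_pow, pow_mul, ← hm₂, h1, map_one]
    show QuotientGroup.mk' K (x' ^ 2) = 1
    rw [map_pow]
    rwa [show (2 * j + 1) * 2 = 4 * j + 2 by ring, pow_add, pow_mul, h4, one_pow, one_mul] at h2
  refine ⟨((m₂ ^ 2 ^ (a - 2) : ↥Ck) : G), ?_, Subgroup.mem_centralizer_singleton_iff.1
    (m₂ ^ 2 ^ (a - 2) : ↥Ck).2, ?_⟩
  · rw [Subgroup.orderOf_coe, orderOf_pow' _ (by positivity), hm₂o,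
      Nat.gcd_eq_right (pow_dvd_pow 2 (by omega)), Nat.pow_div (by omega) two_pos,
      show a - (a - 2) = 2 by omega]
    rfl
  · set e := m₂ ^ 2 ^ (a - 2) with he
    have hem : e ∈ Subgroup.normalizer ((R : Subgroup K).map K.subtype : Set ↥Ck) :=
      pow_mem (pow_mem hm _) _
    have hmem : e * w' * e⁻¹ ∈ (R : Subgroup K).map K.subtype :=
      (Subgroup.mem_normalizer_iff.1 hem w').1 hwR
    obtain ⟨S, hS⟩ := ((R.2.map K.subtype).map Ck.subtype).exists_le_sylow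
    haveI := h q hq hq2 S
    refine mem_zpowers_of_commute h hq hq2 hw (by rw [orderOf_conj_eq, hw]) ?_
    haveI : IsMulCommutative (S : Subgroup G) := IsCyclic.isMulCommutative
    exact congrArg Subtype.val (mul_comm' (⟨w, hS ⟨w', hwR, rfl⟩⟩ : (S : Subgroup G))
      ⟨_, hS ⟨_, hmem, rfl⟩⟩)

include f in
/-- **`3` divides the order of the torus.** -/
theorem three_dvd_half (h : OddCyclic G) (hone : ∀ x : G, orderOf x = 2 → IsConj t x) : 3 ∣ d.half := by
  classical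
  by_contra h3
  haveI := Fact.mk Nat.prime_two
  haveI := Fact.mk Nat.prime_three
  -- `k` has order three
  have hk : orderOf f.k = 3 := by
    obtain ⟨e, he⟩ := f.k_three
    obtain ⟨h1, h2⟩ := f.k_cube_comm
    have hd := (d.orderOf_dvd_half f.s_t f.order_s f.s_ne h1 h2
      (f.k_odd.of_dvd_nat (orderOf_pow_dvd 3))).2
    have h31 : orderOf (f.k ^ 3) = 1 := by
      obtain ⟨i, -, hi⟩ := (Nat.dvd_prime_pow Nat.prime_three).1 (he ▸ orderOf_pow_dvd 3)
      rcases Nat.eq_zero_or_pos i with rfl | hi0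
      · exact hi
      · exact absurd ((dvd_pow_self 3 hi0.ne').trans (hi ▸ hd)) h3
    refine orderOf_eq_prime (orderOf_eq_one_iff.1 h31) fun e1 => f.s_ne ?_
    have := f.k_t
    rw [e1] at this
    simpa using this.symm
  -- an element of order four in `C(k)`
  obtain ⟨h3z, h3L⟩ := f.three_dvd_L h3
  obtain ⟨y, hy⟩ := exists_prime_orderOf_dvd_card' 3 h3z
  have hy' : orderOf (y : G) = 3 := by rw [Subgroup.orderOf_coe, hy]
  obtain ⟨P, hP⟩ := (IsPGroup.of_card (p := 3) (n := 1) (G := Subgroup.zpowers (y : G))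
    (by rw [Nat.card_zpowers, hy', pow_one])).exists_le_sylow
  obtain ⟨Q, hQ⟩ := (IsPGroup.of_card (p := 3) (n := 1) (G := Subgroup.zpowers f.k)
    (by rw [Nat.card_zpowers, hk, pow_one])).exists_le_sylow
  obtain ⟨g, hg⟩ := MulAction.exists_smul_eq G P Q
  have hyQ : g * (y : G) * g⁻¹ ∈ (Q : Subgroup G) :=
    hg ▸ ⟨y, hP (Subgroup.mem_zpowers _), rfl⟩
  haveI := h 3 Nat.prime_three (by norm_num) Q
  haveI : IsMulCommutative (Q : Subgroup G) := IsCyclic.isMulCommutative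
  obtain ⟨i, hi⟩ := mem_zpowers_of_commute h Nat.prime_three (by norm_num)
    (show orderOf (g * (y : G) * g⁻¹) = 3 by rw [orderOf_conj_eq, hy']) hk
    (congrArg Subtype.val (mul_comm' (⟨_, hyQ⟩ : (Q : Subgroup G)) ⟨f.k, hQ (Subgroup.mem_zpowers _)⟩))
  have hxk : Commute (g * f.z * g⁻¹) f.k := hi ▸
    ((show Commute f.z (y : G) from (Subgroup.mem_centralizer_singleton_iff.1 y.2.2).symm).conj g).zpow_right i
  -- a torus element of prime order
  obtain ⟨hu, huo, hu3⟩ := d.half_facts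
  obtain ⟨q, hq, hqd⟩ := Nat.exists_prime_and_dvd (n := d.half) (by omega)
  have hq2 : q ≠ 2 := fun e => by
    subst e; obtain ⟨c, hc⟩ := huo; omega
  haveI := Fact.mk hq
  obtain ⟨w, hw⟩ := exists_prime_orderOf_dvd_card' (G := ↥(d.L ⊓ Subgroup.centralizer ({f.s} : Set G))) q
    (by rw [(d.torus_facts f.s_t f.order_s f.s_ne).1, hu]; exact hqd.mul_left 2)
  have hw' : orderOf (w : G) = q := by rw [Subgroup.orderOf_coe, hw]
  have hwL : (w : G) ∈ d.L := w.2.1
  have hws : Commute (w : G) f.s := Subgroup.mem_centralizer_singleton_iff.1 w.2.2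
  have hwodd : Odd (orderOf (w : G)) := hw' ▸ hq.odd_of_ne_two hq2
  have hw1 : (w : G) ≠ 1 := fun e => hq.ne_one (by rw [← hw', e, orderOf_one])
  obtain ⟨e, he4, hek, hew⟩ := f.exists_four_normalizing h hone h3 hk
    (show orderOf (g * f.z * g⁻¹) = 4 by rw [orderOf_conj_eq, f.order_z]) hxk hq hq2 hw'
    (f.k_comm h hwL hws hwodd).symm
  -- `e²` centralises `w`: move the four group
  set Cw := Subgroup.centralizer ({(w : G)} : Set G) with hCw
  have htC : t ∈ Cw := Subgroup.mem_centralizer_singleton_iff.2 (d.L_comm_t hwL).symm.eq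
  have hsC : f.s ∈ Cw := Subgroup.mem_centralizer_singleton_iff.2 hws.symm.eq
  have hVp : IsPGroup 2 ↥(Subgroup.closure ({t, f.s} : Set G)) := by
    intro a
    refine ⟨1, Subtype.ext ?_⟩
    have hab : ∀ b ∈ Subgroup.closure ({t, f.s} : Set G), b * b = 1 ∧ Commute b t ∧ Commute b f.s := by
      intro b hb
      induction hb using Subgroup.closure_induction with
      | mem b hb =>
        rcases hb with rfl | rfl
        · exact ⟨f.tt, Commute.refl _, f.s_t.symm⟩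
        · exact ⟨f.ss, f.s_t, Commute.refl _⟩
      | one => exact ⟨one_mul 1, Commute.one_left _, Commute.one_left _⟩
      | mul a b ha hb iha ihb =>
        have hcm : Commute a b := by
          have : ∀ c ∈ Subgroup.closure ({t, f.s} : Set G), Commute a c := fun c hc => by
            induction hc using Subgroup.closure_induction with
            | mem c hc => rcases hc with rfl | rfl; exacts [iha.2.1, iha.2.2]
            | one => exact Commute.one_right a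
            | mul x y _ _ ix iy => exact ix.mul_right iy
            | inv x _ ix => exact ix.inv_right
          exact this b hb
        refine ⟨?_, iha.2.1.mul_left ihb.2.1, iha.2.2.mul_left ihb.2.2⟩
        rw [mul_assoc, ← mul_assoc b, hcm.symm.eq, mul_assoc, ihb.1, mul_one, iha.1]
      | inv a _ iha => exact ⟨by rw [← mul_inv_rev, iha.1, inv_one], iha.2.1.inv_left, iha.2.2.inv_left⟩
    show (a : G) ^ 2 ^ 1 = 1
    rw [pow_one, pow_two]
    exact (hab a a.2).1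
  have hVC : Subgroup.closure ({t, f.s} : Set G) ≤ Cw := by
    rw [Subgroup.closure_le]
    rintro b (rfl | rfl)
    exacts [htC, hsC]
  have heC : ∀ b ∈ Cw, e * b * e⁻¹ ∈ Cw := fun b hb => by
    obtain ⟨j, hj⟩ := hew
    refine Subgroup.mem_centralizer_singleton_iff.2 ?_
    have hc := (show Commute b (w : G) from Subgroup.mem_centralizer_singleton_iff.1 hb).conj e
    rw [← hj] at hc
    have hj' : Commute (e * b * e⁻¹) (w : G) := by
      have hne : ((w : G) ^ j) ≠ 1 := fun h1 => hw1 (conj_eq_one_iff.1 (hj ▸ h1 : e * (w : G) * e⁻¹ = 1))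
      have hmem : (w : G) ∈ Subgroup.zpowers ((w : G) ^ j) :=
        mem_zpowers_of_commute h hq hq2 (orderOf_eq_prime (by
          rw [← zpow_natCast, ← zpow_mul, mul_comm, zpow_mul, zpow_natCast, ← hw', pow_orderOf_eq_one,
            one_zpow]) hne) hw' ((Commute.refl (w : G)).zpow_left j)
      obtain ⟨i, hi⟩ := hmem
      exact hi ▸ hc.zpow_right i
    exact hj'.eq
  obtain ⟨P₁, hP₁⟩ := (hVp.comap_subtype (K := Cw)).exists_le_sylow
  have hQ2 : IsPGroup 2 ↥((Subgroup.closure ({t, f.s} : Set G)).map (MulAut.conj e).toMonoidHom) :=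
    hVp.map _
  have hQC : (Subgroup.closure ({t, f.s} : Set G)).map (MulAut.conj e).toMonoidHom ≤ Cw := by
    rintro _ ⟨b, hb, rfl⟩
    exact heC b (hVC hb)
  obtain ⟨P₂, hP₂⟩ := (hQ2.comap_subtype (K := Cw)).exists_le_sylow
  obtain ⟨c, hc⟩ := MulAction.exists_smul_eq ↥Cw P₂ P₁
  have hin : ∀ b ∈ Subgroup.closure ({t, f.s} : Set G), ∀ hb : b ∈ Cw, (⟨b, hb⟩ : ↥Cw) ∈ (P₁ : Subgroup ↥Cw) :=
    fun b hb _ => hP₁ hb
  have hmove : ∀ b ∈ Subgroup.closure ({t, f.s} : Set G), orderOf b = 2 →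
      (c : G) * e * b * ((c : G) * e)⁻¹ = t ∨ (c : G) * e * b * ((c : G) * e)⁻¹ = f.s ∨
        (c : G) * e * b * ((c : G) * e)⁻¹ = t * f.s := by
    intro b hb hb2
    have h1 : (⟨e * b * e⁻¹, heC b (hVC hb)⟩ : ↥Cw) ∈ (P₂ : Subgroup ↥Cw) :=
      hP₂ ⟨b, hb, rfl⟩
    have h2 : c * ⟨e * b * e⁻¹, heC b (hVC hb)⟩ * c⁻¹ ∈ (P₁ : Subgroup ↥Cw) := hc ▸ ⟨_, h1, rfl⟩
    have h3 := f.two_group h hwL hws hwodd hw1 ((P₁ : Subgroup ↥Cw).map Cw.subtype) (P₁.2.map _)
      (by rintro _ ⟨a, -, rfl⟩; exact Subgroup.mem_centralizer_singleton_iff.1 a.2)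
      ⟨⟨t, htC⟩, hin t (Subgroup.subset_closure (Or.inl rfl)) htC, rfl⟩
      ⟨⟨f.s, hsC⟩, hin f.s (Subgroup.subset_closure (Or.inr rfl)) hsC, rfl⟩ _ ⟨_, h2, rfl⟩
    have heq : Cw.subtype (c * ⟨e * b * e⁻¹, heC b (hVC hb)⟩ * c⁻¹) = (c : G) * e * b * ((c : G) * e)⁻¹ := by
      show (c : G) * (e * b * e⁻¹) * (c : G)⁻¹ = _
      group
    rw [heq] at h3
    refine h3.resolve_left fun h1' => ?_
    rw [conj_eq_one_iff] at h1'
    rw [h1', orderOf_one] at hb2
    norm_num at hb2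
  have hsign := f.torus_sign h hwL hws hwodd
    (hmove t (Subgroup.subset_closure (Or.inl rfl)) f.order_t)
    (hmove f.s (Subgroup.subset_closure (Or.inr rfl)) f.order_s)
  have hce : (c : G) * e * (w : G) * ((c : G) * e)⁻¹ = e * (w : G) * e⁻¹ := by
    obtain ⟨j, hj⟩ := hew
    have hcw : Commute (c : G) ((w : G) ^ j) :=
      (show Commute (c : G) (w : G) from Subgroup.mem_centralizer_singleton_iff.1 c.2).zpow_right j
    rw [show (c : G) * e * (w : G) * ((c : G) * e)⁻¹ = (c : G) * (e * (w : G) * e⁻¹) * (c : G)⁻¹ by group]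
    rw [← hj]
    show (c : G) * (w : G) ^ j * (c : G)⁻¹ = (w : G) ^ j
    rw [hcw.eq, mul_inv_cancel_right]
  rw [hce] at hsign
  have hee : Commute (e * e) (w : G) := by
    refine mul_inv_eq_iff_eq_mul.1 ?_
    rw [show e * e * (w : G) * (e * e)⁻¹ = e * (e * (w : G) * e⁻¹) * e⁻¹ by group]
    rcases hsign with hs | hs
    · rw [hs, hs]
    · rw [hs, show e * (w : G)⁻¹ * e⁻¹ = (e * (w : G) * e⁻¹)⁻¹ by group, hs, inv_inv]
  -- in the centraliser of `e²`
  have he2 : orderOf (e * e) = 2 := by rw [← pow_two, orderOf_pow' _ (by norm_num), he4]; rfl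
  obtain ⟨a, ha⟩ := isConj_iff.1 (hone _ he2)
  have hat : a⁻¹ * (e * e) * a⁻¹⁻¹ = t := by rw [← ha]; group
  set e' := a⁻¹ * e * a⁻¹⁻¹ with he'
  set k' := a⁻¹ * f.k * a⁻¹⁻¹ with hk'
  set w' := a⁻¹ * (w : G) * a⁻¹⁻¹ with hw''
  have het : Commute e' t := hat ▸ ((Commute.refl e).mul_right (Commute.refl e)).conj a⁻¹
  have he'4 : orderOf e' = 4 := by rw [he', orderOf_conj_eq, he4]
  have he'L : e' ∈ d.L := d.four_mem _ (Subgroup.mem_centralizer_singleton_iff.2 het.eq) he'4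
  have hkt : Commute k' t := hat ▸ (hek.symm.mul_right hek.symm).conj a⁻¹
  have hk'3 : orderOf k' = 3 := by rw [hk', orderOf_conj_eq, hk]
  have hk'L := f.three_mem h3L hkt hk'3
  have hwt : Commute w' t := hat ▸ hee.symm.conj a⁻¹
  have hw'o : orderOf w' = q := by rw [hw'', orderOf_conj_eq, hw']
  have hw'L : w' ∈ d.L := by
    refine d.mem_L_of_coprime f.s_t f.order_s f.s_ne hwt (hw'o ▸ hq.odd_of_ne_two hq2) ?_
    rw [hw'o, hq.coprime_iff_not_dvd]
    intro hX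
    have hL : q ∣ Nat.card d.L := hw' ▸ d.L.orderOf_dvd_natCard hwL
    have := Nat.dvd_gcd hX hL
    rw [d.coprime.gcd_eq_one, Nat.dvd_one] at this
    exact hq.ne_one this
  have hk2 : k' * k' ≠ 1 := fun h1 => by
    have := orderOf_dvd_of_pow_eq_one (x := k') (n := 2) (by rw [pow_two, h1])
    rw [hk'3] at this
    omega
  have hew' : Commute e' w' := d.cent_non_central hk'L he'L hw'L hk2 (hek.conj a⁻¹)
    ((f.k_comm h hwL hws hwodd).symm.conj a⁻¹)
  have hdvd : q ∣ sEven d.p := (d.four_facts he'L he'4).1 ▸ hw'o ▸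
    Subgroup.orderOf_dvd_natCard _ ⟨hw'L, Subgroup.mem_centralizer_singleton_iff.2 hew'.symm.eq⟩
  have hd2 := (sOdd_facts d.fact.out d.five).2.2.2.2.1 q (hu ▸ hqd.mul_left 2) hdvd
  exact hq2 ((Nat.prime_dvd_prime_iff_eq hq Nat.prime_two).1 hd2)

end Frame

end CfsgLib.SuzukiCyclic
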