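import Cfsg.Agent.Lib.SuzukiCyclic.TwoFamilies
import Cfsg.Agent.Lib.SmallTwo.QuasiDihedral
import Cfsg.Agent.Lib.ZStar.Basic

/-!
# Semidihedral Sylow 2-subgroups: the family at an element of order four

For `a` of order `|S| / 2` in `S` the centraliser `M` of `a ^ 2` has the cyclic Sylow 2-subgroup
`⟨a⟩`, hence a linear character with `a ↦ I`. An element outside its kernel has `a ^ 2` as a power,
so these elements form a trivial intersection set whose normaliser is `M` with one further coset,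
that of a reflection `r`.
-/

set_option autoImplicit false
set_option linter.unusedSectionVars false
set_option linter.style.haveILetI false

universe u

namespace CfsgLib.SuzukiCyclic

open Cfsg

variable {G : Type u} [Group G] [Finite G]

/-- `l ^ (2 ^ (j + 1)) ≡ 1` modulo `2 ^ (j + 2)` for odd `l`. -/
theorem int_pow_two_pow_modEq {l : ℤ} (hl : Odd l) :
    ∀ j : ℕ, (2 : ℤ) ^ (j + 2) ∣ l ^ (2 ^ (j + 1)) - 1 := by
  intro j
  induction j with
  | zero =>
    obtain ⟨c, rfl⟩ := hl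
    exact ⟨c * c + c, by ring⟩
  | succ j ih =>
    obtain ⟨e, he⟩ := (hl.pow (n := 2 ^ (j + 1))).add_one
    obtain ⟨d, hd⟩ := ih
    refine ⟨d * e, ?_⟩
    rw [pow_succ 2 (j + 1), pow_mul,
      show (l ^ 2 ^ (j + 1)) ^ 2 - 1 = (l ^ 2 ^ (j + 1) - 1) * (l ^ 2 ^ (j + 1) + 1) by ring, hd, he]
    ring

/-- A cyclic group has at most one subgroup of each order. -/
theorem cyclic_subgroup_unique {C : Type*} [Group C] [Finite C] [IsCyclic C] {H K : Subgroup C}
    (h : Nat.card H = Nat.card K) : H = K := by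
  classical
  letI := Fintype.ofFinite C
  set d := Nat.card H with hd
  have key : ∀ L : Subgroup C, Nat.card L = d → (L : Set C) = {x : C | x ^ d = 1} := by
    intro L hL
    refine Set.eq_of_subset_of_ncard_le (fun x hx => ?_) ?_ (Set.toFinite _)
    · rw [Set.mem_setOf_eq, ← hL]
      exact congrArg Subtype.val (pow_card_eq_one' (x := (⟨x, hx⟩ : L)))
    · rw [← Nat.card_coe_set_eq (L : Set C)]
      show _ ≤ Nat.card L
      rw [hL, Set.ncard_eq_toFinset_card', Set.toFinset_setOf]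
      exact IsCyclic.card_pow_eq_one_le (hd ▸ Nat.card_pos)
  exact SetLike.coe_injective ((key H rfl).trans (key K h.symm).symm)

theorem exists_sigma [IsSimpleGroup G] (hna : ¬ IsMulCommutative G) (S : Sylow 2 G)
    (hS : Cfsg.IsQuasiDihedral ↥(S : Subgroup G)) :
    ∃ (x : G) (F : Family G), orderOf x = 4 ∧
      F.M ≤ Subgroup.centralizer ({x} : Set G) ∧ F.HasFour ∧ 0 < Nat.card F.invols ∧
      2 * Nat.card F.invols ≤ Nat.card F.M := by
  classical
  haveI := Fact.mk Nat.prime_two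
  obtain ⟨n, ⟨D⟩⟩ := SmallTwo.qd_exists hS
  obtain ⟨m, rfl⟩ : ∃ m, n = m + 3 := ⟨n - 3, by have := D.hn; omega⟩
  set a : G := (D.x : G) with hadef
  set y₁ : G := (D.y : G) with hydef
  have ha : orderOf a = 2 ^ (m + 3) := by rw [Subgroup.orderOf_coe, D.hx]
  have hq : D.q = 2 ^ (m + 1) := by rw [SmallTwo.QD.q, show m + 3 - 2 = m + 1 by omega]
  have hdvd : ∀ {i : ℤ}, a ^ i = 1 ↔ (2 : ℤ) ^ (m + 3) ∣ i := fun {i} => by
    rw [← orderOf_dvd_iff_zpow_eq_one, ha]; push_cast; rfl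
  have hyy : y₁ * y₁ = 1 := congrArg Subtype.val D.yy
  have hconj : ∀ i : ℤ, y₁ * a ^ i * y₁⁻¹ = a ^ (i * (2 * 2 ^ (m + 1) - 1)) := fun i => by
    have := congrArg Subtype.val (D.conj_zpow' i)
    rw [hq] at this
    simpa using this
  set b := a ^ (2 : ℤ) with hb
  have hyb : y₁ * b * y₁⁻¹ = b⁻¹ := by
    rw [hb, hconj, ← zpow_neg, ← mul_inv_eq_one, ← zpow_neg, ← zpow_add, hdvd]
    exact ⟨1, by ring⟩
  have hb4 : ¬ b * b = 1 := by
    rw [hb, ← zpow_add, hdvd]
    intro h
    have h8 : (8 : ℤ) ∣ 2 + 2 := Dvd.dvd.trans ⟨2 ^ m, by ring⟩ h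
    norm_num at h8
  -- the centraliser of `b`
  set M := Subgroup.centralizer ({b} : Set G) with hM
  have hMb : ∀ {g : G}, g ∈ M ↔ Commute g b := fun {g} => Subgroup.mem_centralizer_singleton_iff
  have haM : a ∈ M := hMb.2 ((Commute.refl a).zpow_right 2)
  set aM : M := ⟨a, haM⟩
  have haMo : orderOf aM = 2 ^ (m + 3) := by rw [← Subgroup.orderOf_coe]; exact ha
  have hyM : y₁ ∉ M := fun h => hb4 (by
    have := hMb.1 h
    rw [this.eq, mul_inv_cancel_right] at hyb
    exact eq_inv_iff_mul_eq_one.1 hyb)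
  -- the Sylow subgroup of `M`
  obtain ⟨P, hP⟩ := (IsPGroup.of_card (p := 2) (G := Subgroup.zpowers aM) (n := m + 3)
    (by rw [Nat.card_zpowers, haMo])).exists_le_sylow
  have hcardS : Nat.card (S : Subgroup G) = 2 ^ (m + 4) := D.card
  have hPcard : Nat.card (P : Subgroup M) = 2 ^ (m + 3) := by
    set P' := (P : Subgroup M).map M.subtype with hP'
    have hP'c : Nat.card P' = Nat.card (P : Subgroup M) :=
      Subgroup.card_map_of_injective M.subtype_injective
    obtain ⟨T, hT⟩ := (P.2.map M.subtype).exists_le_sylow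
    have hTS : Nat.card (T : Subgroup G) = 2 ^ (m + 4) := by
      rw [Nat.card_congr (T.equiv S).toEquiv, hcardS]
    obtain ⟨j, hj⟩ := IsPGroup.iff_card.1 P.2
    have h1 : 2 ^ (m + 3) ≤ 2 ^ j := by
      rw [← hj, ← haMo, ← Nat.card_zpowers]; exact Subgroup.card_le_of_le hP
    have h2 : 2 ^ j ≤ 2 ^ (m + 4) := by
      rw [← hj, ← hP'c, ← hTS]; exact Subgroup.card_le_of_le hT
    rw [Nat.pow_le_pow_iff_right (by norm_num)] at h1 h2
    rcases (show j = m + 3 ∨ j = m + 4 by omega) with rfl | rfl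
    · exact hj
    exfalso
    have hPT : P' = (T : Subgroup G) := Subgroup.eq_of_le_of_card_ge hT (by rw [hTS, hP'c, hj])
    have hbP : b ∈ (T : Subgroup G) := by
      rw [← hPT]
      exact ⟨aM ^ (2 : ℤ), hP (Subgroup.zpow_mem _ (Subgroup.mem_zpowers aM) 2), by simp [aM, hb]⟩
    have hbc : (⟨b, hbP⟩ : (T : Subgroup G)) ∈ Subgroup.center ↥(T : Subgroup G) := by
      refine Subgroup.mem_center_iff.2 fun g => Subtype.ext ?_
      obtain ⟨g', -, hg'⟩ : (g : G) ∈ P' := by rw [hPT]; exact g.2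
      exact (hMb.1 (hg' ▸ g'.2)).eq
    have hc2 : Nat.card (Subgroup.center ↥(T : Subgroup G)) = 2 := by
      obtain ⟨D'⟩ : Nonempty (SmallTwo.QD ↥(T : Subgroup G) (m + 3)) :=
        ⟨{ hn := D.hn
           card := hTS
           x := (S.equiv T) D.x
           y := (S.equiv T) D.y
           hx := by rw [MulEquiv.orderOf_eq, D.hx]
           hy := by rw [MulEquiv.orderOf_eq, D.hy]
           hyx := by rw [← map_inv, ← map_mul, ← map_mul, D.hyx, map_pow] }⟩
      exact D'.card_center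
    have h4 := Subgroup.orderOf_dvd_natCard _ hbc
    rw [hc2] at h4
    rw [Subgroup.orderOf_mk] at h4
    exact hb4 (by rw [← pow_two, orderOf_dvd_iff_pow_eq_one.1 h4])
  have hPz : (P : Subgroup M) = Subgroup.zpowers aM := (Subgroup.eq_of_le_of_card_ge hP (by
    rw [hPcard, Nat.card_zpowers, haMo])).symm
  obtain ⟨P₀, O, hO, hc⟩ := ZStar.hasNormalPComplement_of_cyclic P (by rw [hPz]; infer_instance)
  haveI := hO
  set f := QuotientGroup.mk' O with hf
  have hR : Nat.card (M ⧸ O) = 2 ^ (m + 3) := by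
    rw [← Subgroup.index_eq_card, hc.symm.index_eq_card, Nat.card_congr (P₀.equiv P).toEquiv, hPcard]
  have hOodd : Odd (Nat.card O) := by
    rw [← hc.index_eq_card, ← Nat.not_even_iff_odd, even_iff_two_dvd]
    exact P₀.not_dvd_index
  -- odd order and kernel
  have hker : ∀ {z : M}, Odd (orderOf z) ↔ f z = 1 := fun {z} => by
    refine ⟨fun ho => orderOf_eq_one_iff.1 (Nat.eq_one_of_dvd_coprimes
      ((Nat.coprime_two_left.2 ho).pow_left (m + 3)) (hR ▸ orderOf_dvd_natCard (f z))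
      (orderOf_map_dvd f z)), fun h => ?_⟩
    exact hOodd.of_dvd_nat (O.orderOf_dvd_natCard ((QuotientGroup.eq_one_iff z).1 h))
  have htwo : ∀ {z : M}, f z = 1 → z ^ 2 ^ (m + 3) = 1 → z = 1 := fun {z} h1 h2 =>
    orderOf_eq_one_iff.1 (Nat.eq_one_of_dvd_coprimes ((Nat.coprime_two_right.2 (hker.2 h1)).pow_right _)
      dvd_rfl (orderOf_dvd_of_pow_eq_one h2))
  have hfa : orderOf (f aM) = 2 ^ (m + 3) := by
    refine Nat.dvd_antisymm (haMo ▸ orderOf_map_dvd f aM) ?_
    rw [← haMo]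
    refine orderOf_dvd_of_pow_eq_one (htwo (by rw [map_pow, pow_orderOf_eq_one]) ?_)
    rw [← pow_mul, mul_comm, pow_mul, ← haMo, pow_orderOf_eq_one, one_pow]
  have hgen : ∀ z : M ⧸ O, z ∈ Subgroup.zpowers (f aM) := fun z => by
    have : Subgroup.zpowers (f aM) = ⊤ := Subgroup.eq_top_of_card_eq _ (by
      rw [Nat.card_zpowers, hfa, hR])
    exact this ▸ Subgroup.mem_top z
  have hlog : ∀ z : M, ∃ i : ℤ, f z = f aM ^ i := fun z => by
    obtain ⟨i, hi⟩ := hgen (f z)
    exact ⟨i, hi.symm⟩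
  have hfd : ∀ {i : ℤ}, f aM ^ i = 1 ↔ (2 : ℤ) ^ (m + 3) ∣ i := fun {i} => by
    rw [← orderOf_dvd_iff_zpow_eq_one, hfa]; push_cast; rfl
  -- the character
  set iu : ℂˣ := Units.mk0 Complex.I Complex.I_ne_zero with hiu
  have hiu2 : iu ^ (2 : ℤ) = -1 := Units.ext (by simp [hiu, zpow_two])
  have hiu4 : iu ^ (4 : ℕ) = 1 := Units.ext (by simp [hiu])
  have hord : orderOf iu ∣ orderOf (f aM) := by
    rw [hfa]
    exact (orderOf_dvd_of_pow_eq_one hiu4).trans ⟨2 * 2 ^ m, by ring⟩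
  let om : M →* ℂˣ := (monoidHomOfForallMemZpowers hgen hord).comp f
  have hom : ∀ (z : M) (i : ℤ), f z = f aM ^ i → om z = iu ^ i := fun z i hi => by
    show monoidHomOfForallMemZpowers hgen hord (f z) = _
    rw [hi, map_zpow, monoidHomOfForallMemZpowers_apply_gen]
  have hom4 : ∀ {i : ℤ}, iu ^ i = 1 ↔ (4 : ℤ) ∣ i := fun {i} => by
    refine ⟨fun h => ?_, ?_⟩
    · rw [← orderOf_dvd_iff_zpow_eq_one, orderOf_eq_prime_pow (p := 2) (n := 1) ?_ hiu4] at h
      · exact_mod_cast h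
      · intro e
        have e' := congrArg Units.val hiu2
        rw [pow_one, pow_two, ← zpow_two] at e
        rw [e] at e'
        norm_num at e'
    · rintro ⟨c, rfl⟩
      rw [zpow_mul, show (4 : ℤ) = ((4 : ℕ) : ℤ) from rfl, zpow_natCast, hiu4, one_zpow]
  -- conjugation by the reflection
  have hrmem : ∀ z ∈ M, y₁ * z * y₁⁻¹ ∈ M := fun z hz => hMb.2 (by
    have e : Commute (y₁ * z * y₁⁻¹) (y₁ * b * y₁⁻¹) := Commute.conj (hMb.1 hz) y₁
    rw [hyb] at e
    exact Commute.inv_right_iff.1 e)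
  have hflog : ∀ (z : M) (i : ℤ), f z = f aM ^ i →
      f ⟨y₁ * z * y₁⁻¹, hrmem z z.2⟩ = f aM ^ (i * (2 * 2 ^ (m + 1) - 1)) := by
    intro z i hi
    set o := (aM ^ i)⁻¹ * z with ho
    have hoo : Odd (orderOf o) := hker.2 (by rw [ho, map_mul, map_inv, map_zpow, hi, inv_mul_cancel])
    have hsplit : (⟨y₁ * z * y₁⁻¹, hrmem z z.2⟩ : M) =
        aM ^ (i * (2 * 2 ^ (m + 1) - 1)) * ⟨y₁ * o * y₁⁻¹, hrmem o o.2⟩ := by
      refine Subtype.ext ?_
      rw [Subgroup.coe_mul, Subgroup.coe_zpow, ← hconj]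
      show y₁ * z * y₁⁻¹ = y₁ * a ^ i * y₁⁻¹ * (y₁ * o * y₁⁻¹)
      rw [show (o : G) = (a ^ i)⁻¹ * z by simp [ho, aM]]
      group
    rw [hsplit, map_mul, map_zpow, (hker (z := ⟨y₁ * o * y₁⁻¹, hrmem o o.2⟩)).1 (by
      rw [← Subgroup.orderOf_coe]
      show Odd (orderOf (y₁ * o * y₁⁻¹))
      rw [← MulAut.conj_apply, MulEquiv.orderOf_eq, Subgroup.orderOf_coe]
      exact hoo), mul_one]
  have hpow2 : (4 : ℤ) ∣ 2 ^ (m + 3) := ⟨2 * 2 ^ m, by ring⟩
  -- `b` is a power of every element outside the kernel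
  have hbpow : ∀ z : M, om z ≠ 1 → b ∈ Subgroup.zpowers (z : G) := by
    intro z hz
    obtain ⟨i, hi⟩ := hlog z
    rw [hom z i hi, Ne, hom4] at hz
    obtain ⟨c, k, hk, hck⟩ : ∃ c k : ℤ, Odd k ∧ c * i = 2 * k := by
      rcases Int.even_or_odd i with ⟨l, hl⟩ | h
      · refine ⟨1, l, ?_, by omega⟩
        rw [← Int.not_even_iff_odd]
        rintro ⟨r, hr⟩
        exact hz ⟨r, by omega⟩
      · exact ⟨2, i, h, by ring⟩
    set u := Nat.card O with hu
    set w := z ^ (c * (u : ℤ)) with hw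
    have hz1 : (z ^ (2 ^ (m + 3))) ^ u = 1 := by
      have hmem : z ^ (2 ^ (m + 3)) ∈ O :=
        (QuotientGroup.eq_one_iff _).1 (by rw [← hR]; exact pow_card_eq_one' (x := f z))
      exact congrArg Subtype.val (pow_card_eq_one' (x := (⟨_, hmem⟩ : O)))
    have hw1 : w ^ (2 ^ (m + 3)) = 1 := by
      rw [hw, ← zpow_natCast, ← zpow_mul, show c * (u : ℤ) * ((2 ^ (m + 3) : ℕ) : ℤ) =
        (((2 ^ (m + 3)) * u : ℕ) : ℤ) * c by push_cast; ring, zpow_mul, zpow_natCast, pow_mul, hz1,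
        one_zpow]
    set k' := k * (u : ℤ) with hk'
    have hk'o : Odd k' := hk.mul (by exact_mod_cast hOodd)
    have hfw : f w = f aM ^ (2 * k') := by
      rw [hw, map_zpow, hi, ← zpow_mul, show i * (c * (u : ℤ)) = 2 * k' by rw [hk', ← mul_assoc, mul_comm i c, hck]; ring]
    have hcomm : Commute w (aM ^ (2 * k')) := by
      refine Subtype.ext ?_
      show (w : G) * (aM ^ (2 * k') : M) = (aM ^ (2 * k') : M) * (w : G)
      rw [show ((aM ^ (2 * k') : M) : G) = b ^ k' by
        rw [Subgroup.coe_zpow, hb]; exact zpow_mul a 2 k']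
      exact ((hMb.1 w.2).zpow_right k').eq
    have hw2 : w = aM ^ (2 * k') := by
      refine mul_inv_eq_one.1 (htwo (by rw [map_mul, map_inv, hfw, map_zpow, mul_inv_cancel]) ?_)
      rw [hcomm.inv_right.mul_pow, hw1, one_mul, inv_pow, ← zpow_natCast, ← zpow_mul, mul_comm,
        zpow_mul, zpow_natCast, ← haMo, pow_orderOf_eq_one, one_zpow, inv_one]
    have hbz : b ^ k' ∈ Subgroup.zpowers (z : G) := by
      refine ⟨c * (u : ℤ), ?_⟩
      have := congrArg Subtype.val hw2
      rw [hw, Subgroup.coe_zpow, Subgroup.coe_zpow] at this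
      show (z : G) ^ (c * (u : ℤ)) = b ^ k'
      rw [this, hb]
      exact zpow_mul a 2 k'
    obtain ⟨r, hr⟩ : ∃ r : ℤ, (2 : ℤ) ^ (m + 3) ∣ 2 * (k' * r) - 2 := by
      refine ⟨k' ^ (2 ^ (m + 1) - 1), ?_⟩
      obtain ⟨d, hd⟩ := int_pow_two_pow_modEq hk'o m
      refine ⟨d, ?_⟩
      rw [← pow_succ', Nat.sub_add_cancel Nat.one_le_two_pow,
        show (2 : ℤ) ^ (m + 3) * d = 2 * (2 ^ (m + 2) * d) by ring, ← hd]
      ring
    have : b = (b ^ k') ^ r := by
      rw [hb, ← zpow_mul, ← zpow_mul, ← mul_inv_eq_one, ← zpow_neg, ← zpow_add, hdvd]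
      exact dvd_neg.1 (by simpa [neg_add_eq_sub, mul_assoc, add_comm] using hr)
    rw [this]
    exact Subgroup.zpow_mem _ hbz r
  -- the normaliser of `⟨b⟩`
  set Nm := Subgroup.normalizer (Subgroup.zpowers b : Set G) with hNm
  have hNconj : ∀ g : G, g ∈ Nm → ∃ l : ℤ, Odd l ∧ g * b * g⁻¹ = b ^ l := fun g hg => by
    obtain ⟨l, hl⟩ := (Subgroup.mem_normalizer_iff.1 hg b).1 (Subgroup.mem_zpowers b)
    refine ⟨l, ?_, hl.symm⟩
    rw [← Int.not_even_iff_odd]
    rintro ⟨e, rfl⟩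
    have h1 : (g * b * g⁻¹) ^ ((2 : ℤ) ^ (m + 1)) = 1 := by
      rw [← hl, hb, ← zpow_mul, ← zpow_mul, hdvd]
      exact ⟨e, by ring⟩
    rw [conj_zpow, conj_eq_one_iff, hb, ← zpow_mul, hdvd] at h1
    have h2 := Int.le_of_dvd (by positivity) h1
    have hring : (2 : ℤ) ^ (m + 3) = 2 * (2 * 2 ^ (m + 1)) := by ring
    rw [hring] at h2
    have : (0 : ℤ) < 2 ^ (m + 1) := by positivity
    omega
  have hyN : y₁ ∈ Nm := Subgroup.mem_normalizer_fintype fun z hz => by
    obtain ⟨l, rfl⟩ := Subgroup.mem_zpowers_iff.1 hz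
    rw [← conj_zpow, hyb]
    exact Subgroup.zpow_mem _ (inv_mem (Subgroup.mem_zpowers b)) l
  have hMN : M ≤ Nm := fun z hz => Subgroup.mem_normalizer_fintype fun w hw => by
    obtain ⟨l, rfl⟩ := Subgroup.mem_zpowers_iff.1 hw
    rw [((hMb.1 hz).zpow_right l).eq, mul_inv_cancel_right]
    exact Subgroup.zpow_mem _ (Subgroup.mem_zpowers b) l
  haveI hMn : (M.subgroupOf Nm).Normal := ⟨fun z hz g => by
    obtain ⟨l, -, hl⟩ := hNconj (g⁻¹ : Nm) (g⁻¹).2
    refine Subgroup.mem_subgroupOf.2 (hMb.2 ?_)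
    have hl' : b = (g : G) * b ^ l * (g : G)⁻¹ := by
      rw [← hl]; push_cast; group
    have e : Commute ((g : G) * (z : G) * (g : G)⁻¹) ((g : G) * b ^ l * (g : G)⁻¹) :=
      Commute.conj ((hMb.1 (Subgroup.mem_subgroupOf.1 hz)).zpow_right l) _
    rw [← hl'] at e
    simpa using e⟩
  have hidx : (M.subgroupOf Nm).index = 2 := by
    have hp : IsPGroup 2 (Nm ⧸ M.subgroupOf Nm) := by
      intro z
      induction z using QuotientGroup.induction_on with
      | _ g =>
        refine ⟨m + 1, (QuotientGroup.eq_one_iff _).2 (Subgroup.mem_subgroupOf.2 (hMb.2 ?_))⟩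
        obtain ⟨l, hlo, hl⟩ := hNconj g g.2
        have hpow : ∀ i : ℕ, (g : G) ^ i * b * ((g : G) ^ i)⁻¹ = b ^ (l ^ i) := by
          intro i
          induction i with
          | zero => simp
          | succ i ih =>
            rw [pow_succ', show (g : G) * (g : G) ^ i * b * ((g : G) * (g : G) ^ i)⁻¹ =
              (g : G) * ((g : G) ^ i * b * ((g : G) ^ i)⁻¹) * (g : G)⁻¹ by group, ih, ← conj_zpow, hl,
              ← zpow_mul]
            congr 1; ring
        obtain ⟨d, hd⟩ := int_pow_two_pow_modEq hlo m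
        have e := hpow (2 ^ (m + 1))
        rw [show b ^ (l ^ 2 ^ (m + 1)) = b by
          rw [hb, ← zpow_mul, ← mul_inv_eq_one, ← zpow_neg, ← zpow_add, hdvd]
          exact ⟨d, by rw [show 2 * l ^ 2 ^ (m + 1) + -2 = 2 * (l ^ 2 ^ (m + 1) - 1) by ring, hd]; ring⟩] at e
        rw [Subgroup.coe_pow]
        exact mul_inv_eq_iff_eq_mul.1 e
    obtain ⟨j, hj⟩ := IsPGroup.iff_card.1 hp
    rw [← Subgroup.index_eq_card] at hj
    have hc1 : Nat.card (M.subgroupOf Nm) = Nat.card M :=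
      Nat.card_congr (Subgroup.subgroupOfEquivOfLe hMN).toEquiv
    have hd : 2 ^ (m + 3 + j) ∣ Nat.card G := by
      refine dvd_trans ?_ (Subgroup.card_subgroup_dvd_card Nm)
      rw [← (M.subgroupOf Nm).card_mul_index, hj, hc1, pow_add]
      exact mul_dvd_mul_right (hPcard ▸ Subgroup.card_subgroup_dvd_card _) _
    have h2 : m + 3 + j ≤ m + 4 := by
      have h := (Nat.prime_two.pow_dvd_iff_le_factorization Nat.card_pos.ne').1 hd
      have hf' : 2 ^ (Nat.card G).factorization 2 = 2 ^ (m + 4) := S.card_eq_multiplicity ▸ hcardS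
      have := Nat.pow_right_injective (le_refl 2) hf'
      omega
    rcases (show j = 0 ∨ j = 1 by omega) with rfl | rfl
    · exfalso
      rw [pow_zero, Subgroup.index_eq_one] at hj
      have : (⟨y₁, hyN⟩ : Nm) ∈ M.subgroupOf Nm := hj ▸ Subgroup.mem_top _
      exact hyM this
    · rw [hj, pow_one]
  have hy1' : y₁⁻¹ = y₁ := inv_eq_of_mul_eq_one_right hyy
  -- the family
  let F : Family G :=
    { M := M
      om := om
      r := y₁
      r_sq := hyy
      r_notMem := hyM
      r_mem := hrmem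
      om_r := fun z => by
        obtain ⟨i, hi⟩ := hlog z
        rw [hom _ _ (hflog z i hi), hom z i hi, ← zpow_neg, ← mul_inv_eq_one, ← zpow_neg, ← zpow_add,
          hom4]
        exact ⟨i * 2 ^ m, by ring⟩
      exists_sq_ne := ⟨aM, by
        rw [hom aM 1 (zpow_one _).symm, zpow_one, ← zpow_natCast, show ((2 : ℕ) : ℤ) = 2 from rfl, Ne,
          hom4]
        decide⟩
      ti := fun g z z' hz hz' hg => by
        have h1 : g * b * g⁻¹ ∈ Subgroup.zpowers (z' : G) := by
          obtain ⟨i, hi⟩ := Subgroup.mem_zpowers_iff.1 (hbpow z hz)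
          exact ⟨i, by rw [← hi, ← conj_zpow, hg]⟩
        have h2 := hbpow z' hz'
        have hgN : g ∈ Nm := by
          haveI : IsCyclic ↥(Subgroup.zpowers (z' : G)) := inferInstance
          have hle : Subgroup.zpowers (g * b * g⁻¹) ≤ Subgroup.zpowers (z' : G) := Subgroup.zpowers_le.2 h1
          have hle' : Subgroup.zpowers b ≤ Subgroup.zpowers (z' : G) := Subgroup.zpowers_le.2 h2
          have heq : Subgroup.zpowers (g * b * g⁻¹) = Subgroup.zpowers b := by
            have hcard : Nat.card ((Subgroup.zpowers (g * b * g⁻¹)).subgroupOf (Subgroup.zpowers (z' : G))) =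
                Nat.card ((Subgroup.zpowers b).subgroupOf (Subgroup.zpowers (z' : G))) := by
              rw [Nat.card_congr (Subgroup.subgroupOfEquivOfLe hle).toEquiv,
                Nat.card_congr (Subgroup.subgroupOfEquivOfLe hle').toEquiv, Nat.card_zpowers,
                Nat.card_zpowers, ← MulAut.conj_apply, MulEquiv.orderOf_eq]
            have := cyclic_subgroup_unique hcard
            rw [← Subgroup.map_subgroupOf_eq_of_le hle, this, Subgroup.map_subgroupOf_eq_of_le hle']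
          refine Subgroup.mem_normalizer_fintype fun w hw => ?_
          obtain ⟨l, rfl⟩ := Subgroup.mem_zpowers_iff.1 hw
          rw [← conj_zpow]
          exact Subgroup.zpow_mem _ (heq ▸ Subgroup.mem_zpowers _) l
        by_cases hgM : g ∈ M
        · exact Or.inl hgM
        · refine Or.inr ?_
          have h := (Subgroup.mul_mem_iff_of_index_two hidx (a := ⟨y₁, hyN⟩) (b := ⟨g, hgN⟩)).2
            (iff_of_false (fun e => hyM e) (fun e => hgM e))
          exact h
      om_invol := fun z hz => by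
        obtain ⟨i, hi⟩ := hlog z
        rw [hom z i hi, hom4]
        have e : f aM ^ (2 * i) = 1 := by
          rw [two_mul, zpow_add, ← hi, ← map_mul, show z * z = 1 from Subtype.ext hz, map_one]
        obtain ⟨d, hd⟩ := hfd.1 e
        exact ⟨2 ^ m * d, mul_left_cancel₀ (two_ne_zero' ℤ) (by rw [hd]; ring)⟩
      not_inverted := fun i z hz _ hinv => hz (by
        obtain ⟨j, hj⟩ := hlog z
        rw [hom z j hj, hom4]
        have e : f z = (f z)⁻¹ := by
          have e1 : i * z * i⁻¹ = z⁻¹ := Subtype.ext hinv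
          have e2 := congrArg f e1
          rw [map_mul, map_mul, map_inv, map_inv] at e2
          obtain ⟨l, hl⟩ := hlog i
          rwa [hj, hl, ← zpow_add, ← zpow_neg, ← zpow_add, add_neg_cancel_comm, ← hj] at e2
        have e' : f aM ^ (2 * j) = 1 := by
          rw [two_mul, zpow_add, ← hj, ← eq_inv_iff_mul_eq_one]; exact e
        obtain ⟨d, hd⟩ := hfd.1 e'
        exact ⟨2 ^ m * d, mul_left_cancel₀ (two_ne_zero' ℤ) (by rw [hd]; ring)⟩) }
  refine ⟨b ^ ((2 : ℤ) ^ m), F, ?_, ?_, ?_, ?_, ?_⟩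
  · refine orderOf_eq_prime_pow (p := 2) (n := 1) ?_ ?_
    · rw [hb, ← zpow_mul, ← zpow_natCast, ← zpow_mul, hdvd]
      intro h
      have := Int.le_of_dvd (by positivity) h
      push_cast at this
      have h0 : (0 : ℤ) < 2 ^ m := by positivity
      rw [show (2 : ℤ) ^ (m + 3) = 8 * 2 ^ m by ring] at this
      linarith
    · rw [hb, ← zpow_mul, ← zpow_natCast, ← zpow_mul, hdvd]
      exact ⟨1, by push_cast; ring⟩
  · exact fun z hz => Subgroup.mem_centralizer_singleton_iff.2 ((hMb.1 hz).zpow_right _).eq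
  · intro z hz
    have : b ^ ((2 : ℤ) ^ m) ∈ Submonoid.powers (z : G) := by
      rw [mem_powers_iff_mem_zpowers]
      exact Subgroup.zpow_mem _ (hbpow z hz) _
    obtain ⟨e, he⟩ := this
    refine ⟨e, ?_⟩
    rw [show (z : G) ^ e = b ^ ((2 : ℤ) ^ m) from he]
    refine orderOf_eq_prime_pow (p := 2) (n := 1) ?_ ?_
    · rw [hb, ← zpow_mul, ← zpow_natCast, ← zpow_mul, hdvd]
      intro h
      have := Int.le_of_dvd (by positivity) h
      push_cast at this
      have h0 : (0 : ℤ) < 2 ^ m := by positivity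
      rw [show (2 : ℤ) ^ (m + 3) = 8 * 2 ^ m by ring] at this
      linarith
    · rw [hb, ← zpow_mul, ← zpow_natCast, ← zpow_mul, hdvd]
      exact ⟨1, by push_cast; ring⟩
  · haveI : Nonempty F.invols := ⟨⟨y₁, show y₁ * y₁ ∈ M ∧ y₁ * y₁ = 1 from
      ⟨by rw [hyy]; exact one_mem M, hyy⟩⟩⟩
    exact Nat.card_pos
  · -- the involutions of the coset lie over the kernel of `om ^ 2`
    let K : Subgroup M := MonoidHom.ker ((powMonoidHom 2 : ℂˣ →* ℂˣ).comp om)
    have hK : K ≠ ⊤ := fun e => by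
      have : aM ∈ K := e ▸ Subgroup.mem_top _
      rw [MonoidHom.mem_ker, MonoidHom.comp_apply, powMonoidHom_apply, hom aM 1 (zpow_one _).symm,
        zpow_one, ← zpow_natCast, hom4] at this
      exact absurd this (by decide)
    have hle : Nat.card F.invols ≤ Nat.card K := by
      refine Nat.card_le_card_of_injective (fun i => ⟨⟨y₁ * (i : G), i.2.1⟩, ?_⟩) fun i j e => ?_
      · obtain ⟨i, hi1, hi2⟩ := i
        obtain ⟨j, hj⟩ := hlog ⟨y₁ * i, hi1⟩
        rw [MonoidHom.mem_ker, MonoidHom.comp_apply, powMonoidHom_apply, hom _ j hj, ← zpow_natCast,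
          ← zpow_mul, hom4]
        have e : f aM ^ (j * (2 * 2 ^ (m + 1) - 1) + j) = 1 := by
          rw [zpow_add, ← hflog _ j hj, ← hj, ← map_mul, ← map_one f]
          congr 1
          refine Subtype.ext ?_
          show y₁ * (y₁ * i) * y₁⁻¹ * (y₁ * i) = 1
          rw [← mul_assoc y₁ y₁ i, hyy, one_mul, hy1', mul_assoc, ← mul_assoc y₁ y₁ i, hyy, one_mul, hi2]
        obtain ⟨d, hd⟩ := hfd.1 e
        have hj2 : j = 2 * d := by
          have h0 : (2 : ℤ) ^ (m + 2) ≠ 0 := by positivity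
          exact mul_left_cancel₀ h0 (by linear_combination hd)
        exact ⟨d, by subst hj2; push_cast; ring⟩
      · exact Subtype.ext (mul_left_cancel (congrArg (fun w : K => ((w : M) : G)) e))
    have h2 : 2 * Nat.card K ≤ Nat.card M := by
      rw [← K.card_mul_index, mul_comm 2]
      refine Nat.mul_le_mul_left _ ?_
      have h0 : K.index ≠ 0 := Subgroup.index_ne_zero_of_finite
      have h1 : K.index ≠ 1 := fun e => hK (Subgroup.index_eq_one.1 e)
      omega
    exact le_trans (Nat.mul_le_mul_left 2 hle) h2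

end CfsgLib.SuzukiCyclic
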