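import Cfsg.Agent.Lib.SuzukiCyclic.SemiBasic
import Cfsg.Agent.Lib.SuzukiCyclic.SemiSigma
import Cfsg.Agent.Lib.SuzukiCyclic.SemiKill
import Cfsg.Agent.Lib.SuzukiCyclic.SemiFamilyA
import Cfsg.Agent.Lib.SuzukiCyclic.FamilyRatio

/-!
# Semidihedral Sylow 2-subgroups: component `SL₂(p)` in the centraliser of an involution

`3` divides the order `u` of the odd torus, so `R = C(k)` gives a family with `|R| ≥ 3 u`, and the family
of the centraliser of an element of order four has order at most `4 (u + 1) < 6 u`.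
-/

set_option autoImplicit false
set_option linter.unusedSectionVars false
set_option linter.style.haveILetI false

universe u

namespace CfsgLib.SuzukiCyclic

open Cfsg CfsgLib

variable {G : Type u} [Group G] [Finite G]

/-- An involution of `C(t)` other than `t`. -/
theorem exists_second_invol (S : Sylow 2 G) (hS : Cfsg.IsQuasiDihedral ↥(S : Subgroup G)) {t : G}
    (ht : orderOf t = 2) : ∃ s : G, orderOf s = 2 ∧ Commute s t ∧ s ≠ t := by
  haveI := Fact.mk Nat.prime_two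
  obtain ⟨S', htS, hS'⟩ := sd_sylow_ge S hS
    (IsPGroup.of_card (p := 2) (n := 1) (G := Subgroup.zpowers t) (by rw [Nat.card_zpowers, ht, pow_one]))
  obtain ⟨n, hn, hcard, x, y, hx, hy, hyx⟩ := hS'
  have hyo : orderOf (y : G) = 2 := by rw [Subgroup.orderOf_coe, hy]
  haveI : Nontrivial (S' : Subgroup G) := by
    refine ⟨⟨y, 1, fun e => ?_⟩⟩
    rw [e, orderOf_one] at hy
    norm_num at hy
  haveI := S'.2.center_nontrivial
  obtain ⟨c, hc⟩ := exists_prime_orderOf_dvd_card' 2 (show 2 ∣ Nat.card (Subgroup.center ↥(S' : Subgroup G)) from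
    ((S'.2.to_subgroup _).nontrivial_iff_card.mp inferInstance).elim fun m hm =>
      hm.2 ▸ dvd_pow_self 2 hm.1.ne')
  set c' : G := ((c : (S' : Subgroup G)) : G) with hc'
  have hco : orderOf c' = 2 := by rw [hc', Subgroup.orderOf_coe, Subgroup.orderOf_coe, hc]
  have hcen : ∀ a ∈ (S' : Subgroup G), Commute c' a := fun a ha =>
    (congrArg Subtype.val (Subgroup.mem_center_iff.1 c.2 ⟨a, ha⟩)).symm
  by_cases hct : c' = t
  · refine ⟨y, hyo, (hct ▸ hcen y y.2).symm, fun e => ?_⟩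
    have hxy : Commute y x := Subtype.ext (by
      show (y : G) * x = x * y
      rw [e, ← hct]; exact (hcen x x.2).eq)
    rw [hxy.eq, mul_inv_cancel_right] at hyx
    have h4 : 4 ≤ 2 ^ (n - 1) :=
      le_trans (by norm_num) (Nat.pow_le_pow_right two_pos (show 2 ≤ n - 1 by omega))
    obtain ⟨j, hj⟩ : ∃ j, 2 ^ (n - 1) = j + 2 := ⟨2 ^ (n - 1) - 2, by omega⟩
    have hd : x ^ j = 1 := by
      rw [hj, show j + 2 - 1 = j + 1 by omega, pow_succ] at hyx
      exact mul_eq_right.mp hyx.symm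
    have hle := Nat.le_of_dvd (by omega) (orderOf_dvd_of_pow_eq_one hd)
    rw [hx, show 2 ^ n = 2 ^ (n - 1) * 2 by rw [← pow_succ, Nat.sub_add_cancel (by omega)]] at hle
    omega
  · exact ⟨c', hco, hcen t (htS (Subgroup.mem_zpowers t)), hct⟩

/-- A three-element permuting `t`, `s`, `t s`, inverted by `r`. -/
theorem exists_inverted {t s k r : G} (htt : t * t = 1) (hss : s * s = 1) (hts : Commute t s) (hne : t ≠ s)
    (hrr : r * r = 1) (hrt : r * t * r⁻¹ = t) (hrs : r * s * r⁻¹ = t * s) (hkt : k * t * k⁻¹ = s)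
    (hks : k * s * k⁻¹ = t * s) :
    ∃ k' : G, (∃ e, orderOf k' = 3 ^ e) ∧ k' * t * k'⁻¹ = s ∧ k' * s * k'⁻¹ = t * s ∧
      r * k' * r⁻¹ = k'⁻¹ := by
  have hri : r⁻¹ = r := inv_eq_of_mul_eq_one_right hrr
  have hktl : k * (t * s) * k⁻¹ = t := by
    rw [show k * (t * s) * k⁻¹ = (k * t * k⁻¹) * (k * s * k⁻¹) by group, hkt, hks, ← mul_assoc, ← hts.eq,
      mul_assoc, hss, mul_one]
  have hrts : r * (t * s) * r⁻¹ = s := by
    rw [show r * (t * s) * r⁻¹ = (r * t * r⁻¹) * (r * s * r⁻¹) by group, hrt, hrs, ← mul_assoc, htt, one_mul]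
  set q := k⁻¹ * r * k * r⁻¹ with hq
  have hqt : q * t * q⁻¹ = s := by
    calc q * t * q⁻¹ = k⁻¹ * (r * (k * (r⁻¹ * (r * t * r⁻¹) * r) * k⁻¹) * r⁻¹) * k := by
          rw [hrt, hq]; group
      _ = k⁻¹ * (r * (k * t * k⁻¹) * r⁻¹) * k := by group
      _ = k⁻¹ * (k * s * k⁻¹) * k := by rw [hkt, hrs, hks]
      _ = s := by group
  have hqs : q * s * q⁻¹ = t * s := by
    calc q * s * q⁻¹ = k⁻¹ * (r * (k * (r⁻¹ * (r * (t * s) * r⁻¹) * r) * k⁻¹) * r⁻¹) * k := by
          rw [hrts, hq]; group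
      _ = k⁻¹ * (r * (k * (t * s) * k⁻¹) * r⁻¹) * k := by group
      _ = k⁻¹ * (k * (t * s) * k⁻¹) * k := by rw [hktl, hrt]
      _ = t * s := by group
  have hqr : r * q * r⁻¹ = q⁻¹ := by
    rw [hq]; simp only [mul_inv_rev, inv_inv, hri, mul_assoc]
    rw [hrr, mul_one]
  have hqts : q * (t * s) * q⁻¹ = t := by
    rw [show q * (t * s) * q⁻¹ = (q * t * q⁻¹) * (q * s * q⁻¹) by group, hqt, hqs, ← mul_assoc, ← hts.eq,
      mul_assoc, hss, mul_one]
  have hcube : Commute (q ^ 3) t ∧ Commute (q ^ 3) s := by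
    constructor
    · refine mul_inv_eq_iff_eq_mul.1 ?_
      rw [show q ^ 3 * t * (q ^ 3)⁻¹ = q * (q * (q * t * q⁻¹) * q⁻¹) * q⁻¹ by simp [pow_succ, mul_assoc],
        hqt, hqs, hqts]
    · refine mul_inv_eq_iff_eq_mul.1 ?_
      rw [show q ^ 3 * s * (q ^ 3)⁻¹ = q * (q * (q * s * q⁻¹) * q⁻¹) * q⁻¹ by simp [pow_succ, mul_assoc],
        hqs, hqts, hqt]
  obtain ⟨a, o, ho, hao⟩ := Nat.exists_eq_pow_mul_and_not_dvd (orderOf_pos q).ne' 3 (by norm_num)
  have ho0 : o ≠ 0 := fun e => by rw [e, mul_zero] at hao; exact (orderOf_pos q).ne' hao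
  obtain ⟨m, j, hm⟩ : ∃ m j, o * m = 3 * j + 1 := by
    rcases (show o % 3 = 1 ∨ o % 3 = 2 by omega) with e | e
    · exact ⟨1, o / 3, by omega⟩
    · exact ⟨2, 2 * (o / 3) + 1, by omega⟩
  have hconj : ∀ v : G, Commute (q ^ 3) v → q ^ (3 * j + 1) * v * (q ^ (3 * j + 1))⁻¹ = q * v * q⁻¹ := by
    intro v hv
    have hc : q ^ (3 * j) * v * (q ^ (3 * j))⁻¹ = v := by
      rw [pow_mul, (hv.pow_left j).eq, mul_inv_cancel_right]
    rw [pow_succ', show q * q ^ (3 * j) * v * (q * q ^ (3 * j))⁻¹ =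
      q * (q ^ (3 * j) * v * (q ^ (3 * j))⁻¹) * q⁻¹ by group, hc]
  refine ⟨q ^ (o * m), ?_, ?_, ?_, ?_⟩
  · have h3 : (q ^ (o * m)) ^ 3 ^ a = 1 := by
      rw [← pow_mul, show o * m * 3 ^ a = orderOf q * m by rw [hao]; ring, pow_mul, pow_orderOf_eq_one,
        one_pow]
    obtain ⟨e, -, he⟩ := (Nat.dvd_prime_pow Nat.prime_three).1 (orderOf_dvd_of_pow_eq_one h3)
    exact ⟨e, he⟩
  · rw [hm, hconj t hcube.1, hqt]
  · rw [hm, hconj s hcube.2, hqs]
  · rw [← conj_pow, hqr, inv_pow]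

/-- The centraliser of an element of order four is small. -/
theorem card_cent_four_le {t : G} (d : CentData t) (hone : ∀ x : G, orderOf x = 2 → IsConj t x) {s : G}
    (hs : orderOf s = 2) (hst : Commute s t) (hne : s ≠ t) (hX : d.X = ⊥) {x : G} (hx : orderOf x = 4) :
    Nat.card ↥(Subgroup.centralizer ({x} : Set G)) ≤ 2 * sEven d.p := by
  classical
  obtain ⟨g, hg⟩ := isConj_iff.1 (hone (x * x) (by
    rw [← pow_two, orderOf_pow' _ (by norm_num), hx]; rfl))
  set x' := g⁻¹ * x * g⁻¹⁻¹ with hx'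
  have hx2 : x' * x' = t := by
    rw [hx', show g⁻¹ * x * g⁻¹⁻¹ * (g⁻¹ * x * g⁻¹⁻¹) = g⁻¹ * (x * x) * g by group, ← hg]
    group
  have hx4 : orderOf x' = 4 := by rw [hx', ← MulAut.conj_apply, MulEquiv.orderOf_eq, hx]
  have hxt : Commute x' t := hx2 ▸ (Commute.refl x').mul_right (Commute.refl x')
  have hxL := d.four_mem x' (Subgroup.mem_centralizer_singleton_iff.2 hxt.eq) hx4
  have hcard : Nat.card ↥(Subgroup.centralizer ({x} : Set G)) =
      Nat.card ↥(Subgroup.centralizer ({x'} : Set G)) := by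
    refine Nat.card_congr ⟨fun a => ⟨g⁻¹ * a * g⁻¹⁻¹, Subgroup.mem_centralizer_singleton_iff.2
        ((show Commute (a : G) x from Subgroup.mem_centralizer_singleton_iff.1 a.2).conj g⁻¹).eq⟩,
      fun a => ⟨g * a * g⁻¹, Subgroup.mem_centralizer_singleton_iff.2 ?_⟩, fun a => ?_, fun a => ?_⟩
    · have := ((show Commute (a : G) x' from Subgroup.mem_centralizer_singleton_iff.1 a.2).conj g).eq
      rwa [show g * x' * g⁻¹ = x by rw [hx']; group] at this
    · apply Subtype.ext; simp [mul_assoc]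
    · apply Subtype.ext; simp [mul_assoc]
  rw [hcard, ← (d.four_facts hxL hx4).1]
  have hdec : ∀ a ∈ Subgroup.centralizer ({x'} : Set G), ∃ l ∈ d.L, a = l ∨ a = s * l := by
    intro a ha
    have hax : Commute a x' := Subgroup.mem_centralizer_singleton_iff.1 ha
    obtain ⟨y, hy, l, hl, e⟩ := (d.outer s (Subgroup.mem_centralizer_singleton_iff.2 hst.eq) hs hne).1 a
      (Subgroup.mem_centralizer_singleton_iff.2 (hx2 ▸ hax.mul_right hax).eq)
    rw [hX, Subgroup.mem_bot] at hy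
    subst hy
    rw [one_mul] at e
    exact ⟨l, hl, e⟩
  set H := Subgroup.centralizer ({x'} : Set G) with hH
  by_cases hall : ∀ a ∈ H, a ∈ d.L
  · refine le_trans ?_ (Nat.le_mul_of_pos_left _ two_pos)
    exact Nat.le_of_dvd Nat.card_pos (Subgroup.card_dvd_of_le fun a ha => ⟨hall a ha, ha⟩)
  push Not at hall
  obtain ⟨a₀, ha₀, ha₀L⟩ := hall
  obtain ⟨l₀, hl₀, e₀ | e₀⟩ := hdec a₀ ha₀
  · exact absurd (e₀ ▸ hl₀) ha₀L
  have hin : ∀ a : H, (a : G) ∉ d.L → a₀⁻¹ * (a : G) ∈ d.L ⊓ H := by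
    intro a haL
    obtain ⟨l, hl, e | e⟩ := hdec a a.2
    · exact absurd (e ▸ hl) haL
    refine Subgroup.mem_inf.2 ⟨?_, H.mul_mem (H.inv_mem ha₀) a.2⟩
    rw [e, e₀, show (s * l₀)⁻¹ * (s * l) = l₀⁻¹ * l by group]
    exact d.L.mul_mem (d.L.inv_mem hl₀) hl
  let φ : H → ↥(d.L ⊓ H) × Bool := fun a =>
    if ha : (a : G) ∈ d.L then (⟨a, ha, a.2⟩, false) else (⟨a₀⁻¹ * a, hin a ha⟩, true)
  have hφ : Function.Injective φ := by
    intro a b hab
    by_cases ha : (a : G) ∈ d.L <;> by_cases hb : (b : G) ∈ d.L <;> simp [φ, ha, hb] at hab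
    · have e := congrArg Subtype.val hab
      exact Subtype.ext e
    · exact hab
  refine (Nat.card_le_card_of_injective φ hφ).trans ?_
  rw [Nat.card_prod, Nat.card_eq_fintype_card (α := Bool), Fintype.card_bool, mul_comm]

/-- The centraliser of an involution is not of this kind. -/
theorem false_of_centData [IsSimpleGroup G] (hna : ¬ IsMulCommutative G) (h : OddCyclic G)
    (ih : SmallerShape G) (S : Sylow 2 G) (hS : Cfsg.IsQuasiDihedral ↥(S : Subgroup G)) {t : G}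
    (ht : orderOf t = 2) (d : CentData t) : False := by
  have hone : ∀ x : G, orderOf x = 2 → IsConj t x := fun x hx => sd_invol_conj hna S hS ht hx
  obtain ⟨s, hs, hst, hne⟩ := exists_second_invol S hS ht
  obtain ⟨-, -, -, ⟨z, hz, hz4, hzs⟩, -⟩ :=
    d.outer s (Subgroup.mem_centralizer_singleton_iff.2 hst.eq) hs hne
  obtain ⟨k₀, -, hk₀t, hk₀s⟩ := sd_fused hna S hS ht hs hst.symm hne.symm
  have hss : s * s = 1 := by rw [← pow_two, ← hs, pow_orderOf_eq_one]
  have htt : t * t = 1 := by rw [← pow_two, ← ht, pow_orderOf_eq_one]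
  have hzz : z * z = t := by
    have h4 : z ^ 4 = 1 := by rw [← hz4, pow_orderOf_eq_one]
    refine (d.sq_one (mul_mem hz hz) (by rw [← h4]; simp [pow_succ, mul_assoc])).resolve_left fun e => ?_
    have := orderOf_dvd_of_pow_eq_one (x := z) (n := 2) (by rw [pow_two, e])
    rw [hz4] at this
    omega
  have hsi : s⁻¹ = s := inv_eq_of_mul_eq_one_right hss
  have hrr : s * z * (s * z) = 1 := by
    have h' := hzs
    rw [hsi] at h'
    rw [← mul_assoc, h', inv_mul_cancel]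
  have hrt : s * z * t * (s * z)⁻¹ = t := by
    rw [(hst.mul_left (d.L_comm_t hz)).eq, mul_inv_cancel_right]
  have hrs : s * z * s * (s * z)⁻¹ = t * s := by
    rw [inv_eq_of_mul_eq_one_right hrr, show s * z * s * (s * z) = s * (z * (s * s)) * z by group, hss,
      mul_one, mul_assoc, hzz, hst.eq]
  obtain ⟨k, hk3, hkt, hks, hkr⟩ := exists_inverted htt hss hst.symm hne.symm hrr hrt hrs hk₀t hk₀s
  let f : Frame d :=
    { s := s, z := z, k := k, order_t := ht, s_t := hst, order_s := hs, s_ne := hne, z_mem := hz,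
      order_z := hz4, s_z := hzs, k_three := hk3, k_t := hkt, k_s := hks, sz_k := hkr }
  have h3 := f.three_dvd_half h hone
  obtain ⟨hX, F₂, hno, hall, hcard⟩ := f.exists_three_family hna h ih h3
  obtain ⟨x, F₁, hx, hM, h4, hpos, hhalf⟩ := exists_sigma hna S hS
  refine false_of_families hna ht hone F₁ F₂ h4 hno hpos hhalf hall ?_
  have h1 := Nat.le_of_dvd Nat.card_pos (Subgroup.card_dvd_of_le hM)
  have h2 := card_cent_four_le d hone hs hst hne hX hx
  obtain ⟨-, -, -, h5, -⟩ := sOdd_facts d.fact.out d.five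
  obtain ⟨h6, -, h7⟩ := d.half_facts
  omega

end CfsgLib.SuzukiCyclic
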