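import Cfsg.Agent.S2879
import Cfsg.Agent.S1193
import Cfsg.Agent.Lib.SmallTwo.LocalIndex
import Cfsg.Agent.Lib.GL2.QuaternionEight

/-!
# A solvable group without odd core, Sylow 2-subgroup quasi-dihedral, a central involution, not a 2-group

It has order 48, its 2-core is `Q₈`, self-centralising and in the derived subgroup; elements of order 3
have centralisers of order 6 and one of them is inverted by a given non-central involution.
-/

set_option autoImplicit false
set_option linter.style.haveILetI false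

namespace CfsgLib.SuzukiCyclic

open QuaternionGroup CfsgLib.GL2
open scoped commutatorElement

local notation "Q8" => QuaternionGroup 2

/-- An automorphism of order three, as a Boolean. -/
def isThree (A B : Q8) : Bool :=
  validPair A B && !agree (ext8 A B) id && agree ((ext8 A B)^[3]) id

/-- The three statements, as a Boolean. -/
def q8Check : Bool :=
  all8.all fun A => all8.all fun B => !isThree A B ||
    ((all8.all fun C => all8.all fun D => !validPair C D ||
        ((!agree (ext8 C D ∘ ext8 A B) (ext8 A B ∘ ext8 C D) || agree ((ext8 C D)^[3]) id) &&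
          (!agree ((ext8 C D)^[2]) id || innerPair (ext8 C D) ||
            all8.any fun q => agree
              ((fun x => ext8 C D (q * ext8 A B (q⁻¹ * x * q) * q⁻¹))^[2]) id))) &&
      all8.all fun x => all8.any fun q => all8.any fun r =>
        decide (x = q⁻¹ * ext8 A B q * (r⁻¹ * ext8 A B r)))

theorem q8Check_eq : q8Check = true := by decide +kernel

theorem q8_iterate (φ : MulAut Q8) (n : ℕ) : (φ ^ n : MulAut Q8) = (φ : Q8 → Q8)^[n] := by
  induction n with
  | zero => rfl
  | succ n ih => rw [pow_succ, MulAut.coe_mul, ih, Function.iterate_succ]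

theorem q8_agree (φ : MulAut Q8) (f : Q8 → Q8) (hf : (φ : Q8 → Q8) = f) : agree f id = true ↔ φ = 1 := by
  subst hf
  simp only [agree, List.all_eq_true, decide_eq_true_eq]
  exact ⟨fun h => MulEquiv.ext fun x => h x (mem_all8 x), fun h x _ => by rw [h]; rfl⟩

/-- Facts on an automorphism of order three of `Q₈`. -/
theorem q8_facts (β : MulAut Q8) (h3 : β ^ 3 = 1) (h1 : β ≠ 1) :
    (∀ γ : MulAut Q8, β * γ = γ * β → γ ^ 3 = 1) ∧
    (∀ γ : MulAut Q8, γ ^ 2 = 1 → (∀ q, γ ≠ MulAut.conj q) →
      ∃ q, (γ * (MulAut.conj q * β * (MulAut.conj q)⁻¹)) ^ 2 = 1) ∧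
    ∀ x, ∃ q r, x = q⁻¹ * β q * (r⁻¹ * β r) := by
  have hvalid : ∀ φ : MulAut Q8, validPair (φ (a 1)) (φ (xa 0)) = true := fun φ => by
    simp only [validPair, ext8_eq, Bool.and_eq_true, List.all_eq_true, List.any_eq_true,
      decide_eq_true_eq]
    exact ⟨fun x _ y _ => map_mul φ x y, fun y _ => ⟨φ.symm y, mem_all8 _, by simp⟩⟩
  have h := q8Check_eq
  simp only [q8Check, List.all_eq_true] at h
  have h' := h (β (a 1)) (mem_all8 _) (β (xa 0)) (mem_all8 _)
  have hthree : isThree (β (a 1)) (β (xa 0)) = true := by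
    have e1 : agree (β : Q8 → Q8) id = false := by
      rw [← Bool.not_eq_true, q8_agree β _ rfl]
      exact h1
    rw [isThree, ext8_eq, hvalid, e1, (q8_agree (β ^ 3) _ (q8_iterate β 3)).2 h3]
    rfl
  simp only [hthree, Bool.not_true, Bool.false_or, Bool.and_eq_true, List.all_eq_true, List.any_eq_true,
    decide_eq_true_eq, ext8_eq] at h'
  obtain ⟨hA, hC⟩ := h'
  refine ⟨fun γ hc => ?_, fun γ h2 hin => ?_, fun x => ?_⟩
  · have hg := hA (γ (a 1)) (mem_all8 _) (γ (xa 0)) (mem_all8 _)
    simp only [hvalid, ext8_eq, Bool.not_true, Bool.false_or, Bool.and_eq_true, Bool.or_eq_true,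
      Bool.not_eq_true'] at hg
    rcases hg.1 with e | e
    · exfalso
      simp only [agree, List.all_eq_false, decide_eq_true_eq] at e
      obtain ⟨x, -, hx⟩ := e
      exact hx (DFunLike.congr_fun hc.symm x)
    · exact (q8_agree (γ ^ 3) _ (q8_iterate γ 3)).1 e
  · have hg := hA (γ (a 1)) (mem_all8 _) (γ (xa 0)) (mem_all8 _)
    simp only [hvalid, ext8_eq, Bool.not_true, Bool.false_or, Bool.and_eq_true, Bool.or_eq_true,
      Bool.not_eq_true'] at hg
    rcases hg.2 with (e | e) | e
    · rw [(q8_agree (γ ^ 2) _ (q8_iterate γ 2)).2 h2] at e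
      exact absurd e Bool.noConfusion
    · exfalso
      simp only [innerPair, agree, List.any_eq_true, List.all_eq_true, decide_eq_true_eq] at e
      obtain ⟨q, -, hq⟩ := e
      exact hin q (MulEquiv.ext fun x => hq x (mem_all8 x))
    · simp only [List.any_eq_true] at e
      obtain ⟨q, -, hq⟩ := e
      refine ⟨q, (q8_agree _ _ ((q8_iterate _ 2).trans ?_)).1 hq⟩
      rfl
  · obtain ⟨q, -, r, -, e⟩ := hC x (mem_all8 x)
    exact ⟨q, r, e⟩

theorem q8_central : ∀ x : Q8, (∀ y, x * y = y * x) → x = 1 ∨ x = a 2 := by decide +kernel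

theorem q8_invol : ∀ x : Q8, x * x = 1 → x = 1 ∨ x = a 2 := by decide +kernel

universe u

/-- The structure of the quotient. -/
theorem quot_facts {X : Type u} [Group X] [Finite X] (hsol : Group.IsSolvable X)
    (hO : Cfsg.oddCore X = ⊥) (T : Sylow 2 X) (hT : Cfsg.IsQuasiDihedral ↥(T : Subgroup X))
    {τ : X} (hτ2 : orderOf τ = 2) (hτT : τ ∈ (T : Subgroup X)) (hτc : ∀ x, Commute τ x)
    (hodd : ∃ g : X, g ≠ 1 ∧ Odd (orderOf g)) :
    Nat.card X = 48 ∧
    (∀ y : X, orderOf y = 3 → Nat.card ↥(Subgroup.centralizer ({y} : Set X)) ≤ 6) ∧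
    (∀ x : X, orderOf x = 4 → Nat.card ↥(Subgroup.centralizer ({x} : Set X)) ≤ 8) ∧
    (∀ σ ∈ (T : Subgroup X), orderOf σ = 2 → σ ≠ τ → ∃ y : X, orderOf y = 3 ∧ σ * y * σ⁻¹ = y⁻¹) ∧
    ∀ σ ∈ (T : Subgroup X), orderOf σ = 2 → σ ≠ τ → ∀ x ∈ (T : Subgroup X),
      x ∈ commutator X ∨ x * σ ∈ commutator X := by
  classical
  haveI : Fact (Nat.Prime 2) := ⟨Nat.prime_two⟩
  haveI : Fact (Nat.Prime 3) := ⟨Nat.prime_three⟩
  set P := Cfsg.pCore 2 X with hPdef
  haveI hPn : P.Normal := Fitting.pCore_normal (G := X) 2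
  have hPp : IsPGroup 2 P := Fitting.pCore_isPGroup (G := X) 2
  have hcent : Subgroup.centralizer (P : Set X) ≤ P :=
    PSolvable.centralizer_pCore_le (PSolvable.isPSolvable_of_isSolvable hsol) hO
  have hPT : P ≤ (T : Subgroup X) := by
    obtain ⟨P', hP'⟩ := hPp.exists_le_sylow
    obtain ⟨x, rfl⟩ := MulAction.exists_smul_eq X P' T
    intro q hq
    have h1 : x⁻¹ * q * x ∈ (P' : Subgroup X) := hP' (by simpa using hPn.conj_mem q hq x⁻¹)
    rw [Sylow.coe_subgroup_smul, Subgroup.mem_pointwise_smul_iff_inv_smul_mem, MulAut.smul_def,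
      MulAut.conj_inv_apply]
    exact h1
  have hττ : τ * τ = 1 := by rw [← pow_two, ← hτ2, pow_orderOf_eq_one]
  have hτP : τ ∈ P := by
    have hn : (Subgroup.zpowers τ).Normal := ⟨fun w hw g => by
      obtain ⟨i, rfl⟩ := hw
      show g * τ ^ i * g⁻¹ ∈ _
      rw [← ((hτc g).zpow_left i).eq, mul_inv_cancel_right]
      exact Subgroup.zpow_mem_zpowers τ i⟩
    exact CfsgLib.Fitting.le_pCore hn (IsPGroup.of_card (n := 1)
      (by rw [Nat.card_zpowers, hτ2, pow_one])) (Subgroup.mem_zpowers τ)
  let θ : X →* MulAut P := MulAut.conjNormal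
  have hθ : ∀ (x : X) (q : P), ((θ x q : P) : X) = x * q * x⁻¹ := fun x q =>
    MulAut.conjNormal_apply x q
  have hker : ∀ x, θ x = 1 → x ∈ Subgroup.centralizer (P : Set X) := fun x hx q hq => by
    have h1 := congrArg (fun φ : MulAut P => ((φ ⟨q, hq⟩ : P) : X)) hx
    simp only [hθ, MulAut.one_apply] at h1
    exact (mul_inv_eq_iff_eq_mul.mp h1).symm
  have hPodd : ∀ x ∈ P, Odd (orderOf x) → x = 1 := fun x hx hc => by
    obtain ⟨j, hj⟩ := IsPGroup.iff_orderOf.mp hPp ⟨x, hx⟩
    rw [← Subgroup.orderOf_coe] at hj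
    exact orderOf_eq_one_iff.mp (Nat.eq_one_of_dvd_coprimes
      ((Nat.coprime_two_right.2 hc).pow_right j) dvd_rfl hj.dvd)
  obtain ⟨g, hg1, hgodd⟩ := hodd
  have hgθ : θ g ≠ 1 := fun h => hg1 (hPodd g (hcent (hker g h)) hgodd)
  obtain ⟨n, ⟨d⟩⟩ := SmallTwo.qd_exists hT
  obtain ⟨f⟩ : Nonempty (P ≃* Q8) := by
    obtain ⟨r, hidx, hout, -⟩ := Cfsg.Agent.S2879.exists_cyclic_index_two T.2 (Or.inr hT)
    set R := ((Subgroup.zpowers r).map (T : Subgroup X).subtype).subgroupOf P with hR
    haveI : IsCyclic R := by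
      haveI : IsCyclic ((Subgroup.zpowers r).map (T : Subgroup X).subtype) :=
        isCyclic_of_surjective _ ((T : Subgroup X).subtype.subgroupMap_surjective (Subgroup.zpowers r))
      exact isCyclic_of_injective ((P.subtype.subgroupComap _)) fun u v h => by
        exact Subtype.ext (Subtype.ext (congrArg Subtype.val h :))
    obtain ⟨c, hc⟩ := (Subgroup.isCyclic_iff_exists_zpowers_eq_top (H := R)).mp inferInstance
    refine Cfsg.Agent.S2879.quaternion_of_odd_aut hPp c ?_ (fun x hx => ?_) ⟨τ, hτP⟩ ?_ ?_ (θ g) ?_ ?_ hgθ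
    · rw [hc, hR]
      show ((Subgroup.zpowers r).map (T : Subgroup X).subtype).relIndex P ∣ 2
      haveI hn2 : (Subgroup.zpowers r).Normal := Subgroup.normal_of_index_eq_two hidx
      have h3 : (Subgroup.zpowers r).relIndex (P.subgroupOf (T : Subgroup X)) ∣ (Subgroup.zpowers r).index :=
        Subgroup.relIndex_dvd_index_of_normal _ _
      rw [hidx] at h3
      have h4 := Subgroup.relIndex_map_map_of_injective (Subgroup.zpowers r) (P.subgroupOf (T : Subgroup X))
        (T : Subgroup X).subtype_injective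
      rw [Subgroup.map_subgroupOf_eq_of_le hPT] at h4
      rwa [h4]
    · rw [hc] at hx
      have hx' : (⟨x, hPT x.2⟩ : (T : Subgroup X)) ∉ Subgroup.zpowers r := fun h => hx ⟨_, h, rfl⟩
      have := hout _ hx'
      rwa [← Subgroup.orderOf_coe, Subgroup.orderOf_coe x] at this
    · exact Subgroup.mem_center_iff.mpr fun x => Subtype.ext (hτc x).eq.symm
    · rw [← Subgroup.orderOf_coe]; exact hτ2
    · exact (Nat.coprime_two_right.2 hgodd).coprime_dvd_left (orderOf_map_dvd θ g)
    · exact Subtype.ext (by rw [hθ]; exact mul_inv_eq_iff_eq_mul.2 (hτc g).eq.symm)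
  let tr : X →* MulAut Q8 := (MulAut.congr f).toMonoidHom.comp θ
  have htr : ∀ x q, tr x (f q) = f (θ x q) := fun x q => by
    show f (θ x (f.symm (f q))) = _
    rw [f.symm_apply_apply]
  have hfτ : f ⟨τ, hτP⟩ = a 2 := by
    refine (q8_invol _ ?_).resolve_left fun e => ?_
    · rw [← map_mul, show (⟨τ, hτP⟩ : P) * ⟨τ, hτP⟩ = 1 from Subtype.ext hττ, map_one]
    · have := congrArg Subtype.val (f.injective (e.trans (map_one f).symm))
      simp only [Subgroup.coe_one] at this
      rw [this, orderOf_one] at hτ2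
      norm_num at hτ2
  have hinvP : ∀ x ∈ P, x * x = 1 → x = 1 ∨ x = τ := by
    intro x hx hxx
    rcases q8_invol (f ⟨x, hx⟩) (by
      rw [← map_mul, show (⟨x, hx⟩ : P) * ⟨x, hx⟩ = 1 from Subtype.ext hxx, map_one]) with e | e
    · exact Or.inl (congrArg Subtype.val (f.injective (e.trans (map_one f).symm)))
    · exact Or.inr (congrArg Subtype.val (f.injective (e.trans hfτ.symm)))
  have htrker : ∀ x, tr x = 1 → x = 1 ∨ x = τ := by
    intro x hx
    have hx' : θ x = 1 := MulEquiv.ext fun q => f.injective (by rw [← htr, hx]; rfl)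
    have hxP := hcent (hker x hx')
    rcases q8_central (f ⟨x, hxP⟩) (fun y => by
      obtain ⟨⟨q, hq⟩, rfl⟩ := f.surjective y
      rw [← map_mul, ← map_mul]
      exact congrArg f (Subtype.ext (hker x hx' q hq).symm)) with e | e
    · exact Or.inl (congrArg Subtype.val (f.injective (e.trans (map_one f).symm)))
    · exact Or.inr (congrArg Subtype.val (f.injective (e.trans hfτ.symm)))
  have hP8 : Nat.card P = 8 := by
    rw [Nat.card_congr f.toEquiv, Nat.card_eq_fintype_card, QuaternionGroup.card]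
  have hindex : P.index ∣ 6 := by
    have h := (SmallTwo.relIndex_quaternion_dvd P f).2
    rwa [Subgroup.normalizer_eq_top, sup_eq_left.2 hcent, Subgroup.relIndex_top_right] at h
  have hXP := P.card_mul_index
  rw [hP8] at hXP
  have hTdvd : 2 ^ (n + 1) ∣ Nat.card X := d.card ▸ Subgroup.card_subgroup_dvd_card _
  have h16 : 16 ∣ Nat.card X := dvd_trans (by
    rw [show (16 : ℕ) = 2 ^ 4 from rfl]
    exact pow_dvd_pow 2 (by have := d.hn; omega)) hTdvd
  have hX : Nat.card X = 48 := by
    have hle := Nat.le_of_dvd (by norm_num) hindex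
    have hne : P.index ≠ 2 := fun e => by
      rw [e] at hXP
      refine hg1 (orderOf_eq_one_iff.mp ?_)
      exact Nat.eq_one_of_dvd_coprimes (a := orderOf g) (b := 16) (by
        rw [show (16 : ℕ) = 2 ^ 4 from rfl]
        exact (Nat.coprime_two_right.2 hgodd).pow_right 4) dvd_rfl
        (by simpa [← hXP] using orderOf_dvd_natCard g)
    interval_cases h : P.index <;> omega
  have hord3 : ∀ y : X, orderOf y = 3 → tr y ^ 3 = 1 ∧ tr y ≠ 1 := fun y hy =>
    ⟨by rw [← map_pow, ← hy, pow_orderOf_eq_one, map_one], fun h => by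
      rcases htrker y h with e | e
      · rw [e, orderOf_one] at hy; omega
      · rw [e, hτ2] at hy; omega⟩
  have hcy : ∀ y : X, orderOf y = 3 → ∀ c, Commute c y → c ^ 6 = 1 := by
    intro y hy c hc
    obtain ⟨b3, b1⟩ := hord3 y hy
    have h := (q8_facts _ b3 b1).1 (tr c) (by rw [← map_mul, ← map_mul, hc.eq])
    rw [← map_pow] at h
    rcases htrker _ h with e | e
    · rw [show 6 = 3 * 2 from rfl, pow_mul, e, one_pow]
    · rw [show 6 = 3 * 2 from rfl, pow_mul, e, pow_two, hττ]
  have hb : ∀ y : X, orderOf y = 3 → Nat.card ↥(Subgroup.centralizer ({y} : Set X)) ≤ 6 := by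
    intro y hy
    set A := Subgroup.centralizer ({y} : Set X) with hA
    have hd : Nat.card A ∣ 48 := hX ▸ Subgroup.card_subgroup_dvd_card A
    have hno4 : ¬ 4 ∣ Nat.card A := by
      intro h4
      obtain ⟨B, hB⟩ := Sylow.exists_subgroup_card_pow_prime (G := A) 2 (n := 2)
        (show 2 ^ 2 ∣ Nat.card A from h4)
      have hcard : Nat.card B ≤ Nat.card ↥(Subgroup.zpowers τ) := by
        refine Nat.card_le_card_of_injective (fun b => (⟨((b : A) : X), ?_⟩ : Subgroup.zpowers τ)) ?_
        · set x := ((b : A) : X) with hxdef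
          have h4x : x ^ 4 = 1 := by
            rw [← orderOf_dvd_iff_pow_eq_one, hxdef, Subgroup.orderOf_coe, Subgroup.orderOf_coe]
            exact (orderOf_dvd_natCard b).trans (by rw [hB]; norm_num)
          have hcx : Commute x y := Subgroup.mem_centralizer_singleton_iff.1 (b : A).2
          have h6 := hcy y hy x hcx
          have h2 : x ^ 2 = 1 := by
            rw [show (6 : ℕ) = 4 + 2 from rfl, pow_add, h4x, one_mul] at h6
            exact h6
          have h3 : tr x ^ 3 = 1 := by
            obtain ⟨b3, b1⟩ := hord3 y hy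
            exact (q8_facts _ b3 b1).1 (tr x) (by rw [← map_mul, ← map_mul, hcx.eq])
          rw [← map_pow, show x ^ 3 = x by rw [pow_succ, h2, one_mul]] at h3
          rcases htrker x h3 with e | e <;> rw [e]
          · exact one_mem _
          · exact Subgroup.mem_zpowers τ
        · intro b b' e
          exact Subtype.ext (Subtype.ext (congrArg (fun z : Subgroup.zpowers τ => (z : X)) e))
      rw [hB, Nat.card_zpowers, hτ2] at hcard
      omega
    have hle := Nat.le_of_dvd (by norm_num) hd
    by_contra hgt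
    interval_cases h : Nat.card A <;> omega
  refine ⟨hX, hb, ?_, ?_, ?_⟩
  · intro x hx
    set A := Subgroup.centralizer ({x} : Set X) with hA
    have hd : Nat.card A ∣ 48 := hX ▸ Subgroup.card_subgroup_dvd_card A
    have h3 : ¬ 3 ∣ Nat.card A := by
      intro h3
      obtain ⟨⟨y, hyA⟩, hy⟩ := exists_prime_orderOf_dvd_card' (G := A) 3 h3
      rw [Subgroup.orderOf_mk] at hy
      have h6 := hcy y hy x (show Commute y x from Subgroup.mem_centralizer_singleton_iff.1 hyA).symm
      have := orderOf_dvd_of_pow_eq_one h6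
      rw [hx] at this
      omega
    have h16' : Nat.card A ≠ 16 := by
      intro e
      have hAc : Nat.card A = 2 ^ (Nat.card X).factorization 2 := by
        rw [e, hX, show 48 = 2 ^ 4 * 3 from rfl, Nat.factorization_mul (by norm_num) (by norm_num),
          Finsupp.add_apply, Nat.prime_two.factorization_pow,
          Nat.prime_three.factorization]
        simp
      let U : Sylow 2 X := Sylow.ofCard A hAc
      let ε := (Sylow.equiv U T).toMonoidHom
      have hxA : x ∈ A := Subgroup.mem_centralizer_singleton_iff.2 rfl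
      set x' := Sylow.equiv U T ⟨x, hxA⟩ with hx'
      have hx'c : x' ∈ Subgroup.center (T : Subgroup X) := by
        refine Subgroup.mem_center_iff.2 fun z => ?_
        obtain ⟨⟨z', hz'⟩, rfl⟩ := (Sylow.equiv U T).surjective z
        rw [hx', ← map_mul, ← map_mul]
        exact congrArg (Sylow.equiv U T) (Subtype.ext (Subgroup.mem_centralizer_singleton_iff.1 hz'))
      have hc2 : Nat.card (Subgroup.center (T : Subgroup X)) = 2 := (Cfsg.Agent.S1193.result hT n d.card).2.2.2.1
      have := Subgroup.orderOf_dvd_natCard _ hx'c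
      rw [hc2, hx', MulEquiv.orderOf_eq] at this
      have h2 : orderOf x ∣ 2 := (dvd_of_eq (Subgroup.orderOf_coe _)).trans this
      rw [hx] at h2
      omega
    have hle := Nat.le_of_dvd (by norm_num) hd
    by_contra hgt
    interval_cases h : Nat.card A <;> omega
  · intro σ hσT hσ2 hστ
    obtain ⟨y, hy⟩ := exists_prime_orderOf_dvd_card' (G := X) 3 (by rw [hX]; norm_num)
    obtain ⟨b3, b1⟩ := hord3 y hy
    have hσσ : σ * σ = 1 := by rw [← pow_two, ← hσ2, pow_orderOf_eq_one]
    have hσP : σ ∉ P := fun h => by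
      rcases hinvP σ h hσσ with e | e
      · rw [e, orderOf_one] at hσ2; omega
      · exact hστ e
    have htrP : ∀ q : P, tr q = MulAut.conj (f q) := fun q => MulEquiv.ext fun v => by
      obtain ⟨w, rfl⟩ := f.surjective v
      rw [htr, MulAut.conj_apply, ← map_inv, ← map_mul, ← map_mul]
      exact congrArg f (Subtype.ext (by rw [hθ]; rfl))
    obtain ⟨q, hq⟩ := (q8_facts _ b3 b1).2.1 (tr σ)
      (by rw [← map_pow, pow_two, hσσ, map_one]) (fun q e => by
        obtain ⟨p, rfl⟩ := f.surjective q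
        rw [← htrP] at e
        have h0 : tr ((p : X)⁻¹ * σ) = 1 := by rw [map_mul, map_inv, e, inv_mul_cancel]
        refine hσP ?_
        rcases htrker _ h0 with e' | e'
        · rw [show σ = p by rw [← inv_mul_eq_one.1 e']]; exact p.2
        · rw [show σ = p * τ by rw [← e']; group]; exact mul_mem p.2 hτP)
    obtain ⟨p, rfl⟩ := f.surjective q
    rw [← htrP, ← map_inv, ← map_mul, ← map_mul, ← map_mul, ← map_pow] at hq
    set y' := (p : X) * y * (p : X)⁻¹ with hy'
    have hy'o : orderOf y' = 3 := by rw [hy', ← MulAut.conj_apply, MulEquiv.orderOf_eq, hy]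
    refine ⟨y', hy'o, ?_⟩
    have hσi : σ⁻¹ = σ := inv_eq_of_mul_eq_one_right hσσ
    have key : ∀ w, (w = 1 ∨ w = τ) → (σ * y') ^ 2 = w → σ * y' * σ⁻¹ = y'⁻¹ := by
      intro w hw he
      have hwc : ∀ x, Commute w x := fun x => by
        rcases hw with rfl | rfl
        · exact Commute.one_left x
        · exact hτc x
      have h1 : σ * y' * σ⁻¹ = w * y'⁻¹ := by rw [← he, pow_two, hσi]; group
      have h3 : y' ^ 3 = 1 := hy'o ▸ pow_orderOf_eq_one y'
      have hw3 : w ^ 3 = 1 := by
        have e := congrArg (· ^ 3) h1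
        rwa [conj_pow, h3, mul_one, mul_inv_cancel, (hwc y'⁻¹).mul_pow, inv_pow, h3, inv_one, mul_one,
          eq_comm] at e
      rcases hw with rfl | rfl
      · rw [h1, one_mul]
      · rw [pow_succ, pow_two, hττ, one_mul] at hw3
        rw [h1, hw3, one_mul]
    exact key _ (htrker _ hq) rfl
  · intro σ hσT hσ2 hστ x hxT
    obtain ⟨y, hy⟩ := exists_prime_orderOf_dvd_card' (G := X) 3 (by rw [hX]; norm_num)
    obtain ⟨b3, b1⟩ := hord3 y hy
    have hPc : ∀ p ∈ P, p ∈ commutator X := by
      intro p hp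
      obtain ⟨q, r, e⟩ := (q8_facts _ b3 b1).2.2 (f ⟨p, hp⟩)
      obtain ⟨q, rfl⟩ := f.surjective q
      obtain ⟨r, rfl⟩ := f.surjective r
      rw [htr, htr, ← map_inv, ← map_inv, ← map_mul, ← map_mul, ← map_mul] at e
      have e' := congrArg Subtype.val (f.injective e)
      simp only [Subgroup.coe_mul, Subgroup.coe_inv, hθ] at e'
      have hcm : ∀ q : P, (q : X)⁻¹ * (y * q * y⁻¹) ∈ commutator X := fun q => by
        have : ⁅(q : X)⁻¹, y⁆ ∈ commutator X := by
          rw [commutator_def]
          exact Subgroup.commutator_mem_commutator (Subgroup.mem_top _) (Subgroup.mem_top _)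
        rwa [commutatorElement_def, inv_inv, mul_assoc, mul_assoc, ← mul_assoc y] at this
      rw [e']
      exact mul_mem (hcm q) (hcm r)
    have hT16 : Nat.card (T : Subgroup X) = 16 := by
      rw [T.card_eq_multiplicity, hX, show 48 = 2 ^ 4 * 3 from rfl,
        Nat.factorization_mul (by norm_num) (by norm_num),
        Finsupp.add_apply, Nat.prime_two.factorization_pow, Nat.prime_three.factorization]
      simp
    have hidx : (P.subgroupOf (T : Subgroup X)).index = 2 := by
      have h := (P.subgroupOf (T : Subgroup X)).card_mul_index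
      rw [Nat.card_congr (Subgroup.subgroupOfEquivOfLe hPT).toEquiv, hP8, hT16] at h
      omega
    have hσP : σ ∉ P := fun h => by
      rcases hinvP σ h (by rw [← pow_two, ← hσ2, pow_orderOf_eq_one]) with e | e
      · rw [e, orderOf_one] at hσ2; omega
      · exact hστ e
    by_cases hxP : x ∈ P
    · exact Or.inl (hPc x hxP)
    · refine Or.inr (hPc _ ?_)
      have h := (Subgroup.mul_mem_iff_of_index_two hidx (a := (⟨x, hxT⟩ : (T : Subgroup X)))
        (b := ⟨σ, hσT⟩)).2 (iff_of_false (fun h => hxP h) (fun h => hσP h))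
      exact h

end CfsgLib.SuzukiCyclic
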