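import Cfsg.Agent.Lib.SuzukiCyclic.SemiBasic
import Cfsg.Agent.Lib.SuzukiCyclic.SemiQuot
import Cfsg.Agent.Lib.SuzukiCyclic.SemiSigma
import Cfsg.Agent.Lib.SuzukiCyclic.FamilyRatio
import Cfsg.Agent.Lib.SuzukiCyclic.DihedralCore
import Cfsg.Agent.Lib.Invol.SolvableCore
import Cfsg.Agent.Lib.ZStar.Basic

/-!
# A quasi-dihedral Sylow 2-subgroup, odd Sylow subgroups cyclic: `C(t)` is not solvable

`C/O` has order 48, `O` is cyclic, inverted by an involution `s` and centralised by a 3-element `z`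
inverted by `s`; `C(z)` is abelian of order `6 |O|`, giving a family which contradicts the one at an
element of order four.
-/

set_option autoImplicit false
set_option linter.style.haveILetI false
set_option linter.unusedSectionVars false

namespace CfsgLib.SuzukiCyclic

open Cfsg CfsgLib CfsgLib.SmallTwo
open scoped commutatorElement

universe u

variable {G : Type u} [Group G] [Finite G]

/-- A Sylow 2-subgroup centralising a given involution. -/
theorem sd_sylow_cent [IsSimpleGroup G] (hna : ¬ IsMulCommutative G) (S : Sylow 2 G)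
    (hS : Cfsg.IsQuasiDihedral ↥(S : Subgroup G)) {t : G} (ht : orderOf t = 2) :
    ∃ S₁ : Sylow 2 G, (S₁ : Subgroup G) ≤ Subgroup.centralizer ({t} : Set G) ∧ t ∈ (S₁ : Subgroup G) ∧
      Cfsg.IsQuasiDihedral ↥(S₁ : Subgroup G) := by
  haveI : Fact (Nat.Prime 2) := ⟨Nat.prime_two⟩
  obtain ⟨n, ⟨d⟩⟩ := qd_exists hS
  have hz : d.x ^ (2 * d.q) ∈ Subgroup.center ↥(S : Subgroup G) := by
    rw [d.center_eq]; exact Subgroup.mem_zpowers _
  obtain ⟨g, hg⟩ := isConj_iff.1 (sd_invol_conj hna S hS d.orderOf_z ht)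
  refine ⟨g • S, fun a ha => Subgroup.mem_centralizer_singleton_iff.2 ?_, ?_, ?_⟩
  · rw [Sylow.coe_subgroup_smul, Subgroup.mem_pointwise_smul_iff_inv_smul_mem] at ha
    have hc' : Commute ((MulAut.conj g)⁻¹ • a) ((d.x ^ (2 * d.q) : ↥(S : Subgroup G)) : G) :=
      congrArg Subtype.val (Subgroup.mem_center_iff.1 hz ⟨_, ha⟩)
    rw [MulAut.smul_def, MulAut.inv_apply, MulAut.conj_symm_apply] at hc'
    have h' := (Commute.conj_iff g).2 hc'
    rw [hg, show g * (g⁻¹ * a * g) * g⁻¹ = a by group] at h'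
    exact h'.eq
  · rw [Sylow.coe_subgroup_smul, Subgroup.mem_pointwise_smul_iff_inv_smul_mem, MulAut.smul_def,
      MulAut.inv_apply, MulAut.conj_symm_apply, ← hg]
    convert (d.x ^ (2 * d.q) : ↥(S : Subgroup G)).2 using 1
    group
  · let d' := d.mapEquiv (Sylow.equiv S (g • S))
    exact ⟨n, d'.hn, d'.card, d'.x, d'.y, d'.hx, d'.hy, d'.hyx⟩

/-- A 3-element of the centraliser of `t` outside any odd normal subgroup of it. -/
theorem sd_exists_three [IsSimpleGroup G] (hna : ¬ IsMulCommutative G) {S : Sylow 2 G} {t : G}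
    (ht : orderOf t = 2) (htS : t ∈ (S : Subgroup G))
    (hSC : (S : Subgroup G) ≤ Subgroup.centralizer ({t} : Set G))
    (hS : Cfsg.IsQuasiDihedral ↥(S : Subgroup G)) :
    ∃ k : G, (∃ e, orderOf k = 3 ^ e) ∧ Commute k t ∧
      ∀ U : Subgroup G, Odd (Nat.card U) →
        (∀ g : G, Commute g t → ∀ x ∈ U, g * x * g⁻¹ ∈ U) → k ∉ U := by
  haveI : Fact (Nat.Prime 3) := ⟨Nat.prime_three⟩
  obtain ⟨n, ⟨d⟩⟩ := qd_exists hS
  obtain ⟨-, -, ⟨f⟩, hQS⟩ := d.four_spec
  set Q := d.quat 1 with hQ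
  have h6 := (d.six_six_of_no_index_two (no_index_two hna)).2
  set N := Subgroup.normalizer (Q : Set G) with hN
  set K := (Q ⊔ Subgroup.centralizer (Q : Set G)).subgroupOf N with hK
  haveI hKn : K.Normal := (relIndex_quaternion_dvd Q f).1
  have hq6 : Nat.card (↥N ⧸ K) = 6 := by rw [← Subgroup.index_eq_card]; exact h6
  obtain ⟨q, hq⟩ := exists_prime_orderOf_dvd_card' (G := ↥N ⧸ K) 3 (by rw [hq6]; norm_num)
  obtain ⟨g, rfl⟩ := QuotientGroup.mk'_surjective K q
  obtain ⟨a, m, hm, -, -, hk⟩ := Transfer.exists_pow_coprime_part (p := 3) g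
  have hkK : g ^ m ∉ K := by
    intro h
    have h1 : (QuotientGroup.mk' K g) ^ m = 1 := by
      rw [← map_pow, QuotientGroup.mk'_apply, QuotientGroup.eq_one_iff]; exact h
    exact hm (hq ▸ orderOf_dvd_of_pow_eq_one h1)
  set k : G := ((g ^ m : ↥N) : G) with hkdef
  have hkN : k ∈ N := (g ^ m : ↥N).2
  have htQ : t ∈ Q := by
    have hc : (⟨t, htS⟩ : ↥(S : Subgroup G)) ∈ Subgroup.center ↥(S : Subgroup G) :=
      Subgroup.mem_center_iff.2 fun x => Subtype.ext
        (Subgroup.mem_centralizer_singleton_iff.1 (hSC x.2))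
    rw [d.center_eq] at hc
    refine ⟨⟨t, htS⟩, ?_, rfl⟩
    exact (Subgroup.zpowers_le.2 (d.r_mem_small.mpr (dvd_mul_left _ 2))) hc
  have hktQ : k * t * k⁻¹ ∈ Q := (Subgroup.mem_normalizer_iff.1 hkN t).1 htQ
  have htt : t * t = 1 := by rw [← pow_two, ← ht, pow_orderOf_eq_one]
  have ht1 : t ≠ 1 := fun e => by rw [e, orderOf_one] at ht; omega
  have hu : ∀ x (hx : x ∈ Q), x * x = 1 → x ≠ 1 → f ⟨x, hx⟩ = QuaternionGroup.a 2 := fun x hx hxx hx1 =>
    (q8_invol _ (by rw [← map_mul, show (⟨x, hx⟩ : Q) * ⟨x, hx⟩ = 1 from Subtype.ext hxx, map_one])).resolve_left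
      fun e => hx1 (congrArg Subtype.val (f.injective (e.trans (map_one f).symm)))
  have hkt : Commute k t := by
    have e := f.injective ((hu _ hktQ (by
      rw [show k * t * k⁻¹ * (k * t * k⁻¹) = k * (t * t) * k⁻¹ by group, htt, mul_one, mul_inv_cancel])
      (fun e => ht1 (conj_eq_one_iff.1 e))).trans (hu t htQ htt ht1).symm)
    exact mul_inv_eq_iff_eq_mul.1 (congrArg Subtype.val e)
  refine ⟨k, ⟨a, by rw [hkdef, Subgroup.orderOf_coe, hk]⟩, hkt, fun U hU hUn hkU => hkK ?_⟩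
  refine Subgroup.mem_subgroupOf.2 (Subgroup.mem_sup_right ?_)
  refine Subgroup.mem_centralizer_iff.2 fun x hx => ?_
  have hxC : Commute x t := Subgroup.mem_centralizer_singleton_iff.1 (hSC (hQS hx))
  have h1 : k * x * k⁻¹ * x⁻¹ ∈ (S : Subgroup G) :=
    mul_mem (hQS ((Subgroup.mem_normalizer_iff.1 hkN x).1 hx)) (inv_mem (hQS hx))
  have h2 : k * x * k⁻¹ * x⁻¹ ∈ U := by
    rw [show k * x * k⁻¹ * x⁻¹ = k * (x * k⁻¹ * x⁻¹) by group]
    exact mul_mem hkU (hUn x hxC _ (inv_mem hkU))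
  have e := eq_one_of_odd_of_mem_sylow (hU.of_dvd_nat (U.orderOf_dvd_natCard h2)) h1
  exact (mul_inv_eq_iff_eq_mul.1 (mul_inv_eq_one.1 e)).symm

/-- An element normalising a subgroup of prime order with square one centralises or inverts it. -/
theorem invol_on_prime {p : ℕ} (hp : p.Prime) {w g : G} (hw : orderOf w = p) (hg : g * g = 1)
    (h : g * w * g⁻¹ ∈ Subgroup.zpowers w) : Commute g w ∨ g * w * g⁻¹ = w⁻¹ := by
  obtain ⟨i, hi⟩ := h
  replace hi : g * w * g⁻¹ = w ^ i := hi.symm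
  have h2 : w ^ (i * i) = w ^ (1 : ℤ) := by
    rw [zpow_mul, ← hi, conj_zpow, ← hi, zpow_one,
      show g * (g * w * g⁻¹) * g⁻¹ = (g * g) * w * (g * g)⁻¹ by group, hg, one_mul, inv_one, mul_one]
  rw [← orderOf_dvd_sub_iff_zpow_eq_zpow, hw, show i * i - 1 = (i - 1) * (i + 1) by ring] at h2
  rcases Int.Prime.dvd_mul' hp h2 with h3 | h3
  · left
    have e : w ^ i = w ^ (1 : ℤ) := by
      rw [← orderOf_dvd_sub_iff_zpow_eq_zpow, hw]; exact h3
    exact mul_inv_eq_iff_eq_mul.1 (hi.trans (e.trans (zpow_one w)))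
  · right
    have e : w ^ i = w ^ (-1 : ℤ) := by
      rw [← orderOf_dvd_sub_iff_zpow_eq_zpow, hw]; simpa using h3
    rw [hi, e, zpow_neg, zpow_one]

/-- An element of odd order inverts only elements of order at most two. -/
theorem sq_eq_one_of_odd_inverts {g w : G} (hg : Odd (orderOf g)) (h : g * w * g⁻¹ = w⁻¹) : w * w = 1 := by
  obtain ⟨l, hl⟩ := hg
  have h2 : Commute (g * g) w := by
    refine mul_inv_eq_iff_eq_mul.1 ?_
    rw [show g * g * w * (g * g)⁻¹ = g * (g * w * g⁻¹) * g⁻¹ by group, h,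
      show g * w⁻¹ * g⁻¹ = (g * w * g⁻¹)⁻¹ by group, h, inv_inv]
  have h3 : Commute g w := by
    have h4 := h2.pow_left (l + 1)
    rwa [← pow_two, ← pow_mul, show 2 * (l + 1) = orderOf g + 1 by omega, pow_succ, pow_orderOf_eq_one,
      one_mul] at h4
  rw [h3.eq, mul_inv_cancel_right] at h
  exact eq_inv_iff_mul_eq_one.1 h

set_option maxHeartbeats 1600000 in
/-- With a quasi-dihedral Sylow 2-subgroup and cyclic odd Sylow subgroups, `C(t)` is not solvable. -/
theorem semidihedral_solvable [IsSimpleGroup G] (hna : ¬ IsMulCommutative G) (h : OddCyclic G)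
    (S : Sylow 2 G) (hS : Cfsg.IsQuasiDihedral ↥(S : Subgroup G)) {t : G} (ht : orderOf t = 2)
    (hsol : IsSolvable ↥(Subgroup.centralizer ({t} : Set G))) : False := by
  classical
  haveI : Fact (Nat.Prime 2) := ⟨Nat.prime_two⟩
  haveI : Fact (Nat.Prime 3) := ⟨Nat.prime_three⟩
  obtain ⟨S₁, hS₁C, htS, hS₁⟩ := sd_sylow_cent hna S hS ht
  obtain ⟨n, ⟨d⟩⟩ := qd_exists hS₁
  have htt : t * t = 1 := by rw [← pow_two, ← ht, pow_orderOf_eq_one]
  have ht1 : t ≠ 1 := fun e => by rw [e, orderOf_one] at ht; omega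
  set C := Subgroup.centralizer ({t} : Set G) with hC
  have hmC : ∀ {g : G}, g ∈ C ↔ Commute g t := Subgroup.mem_centralizer_singleton_iff
  have htC : t ∈ C := hmC.2 (Commute.refl t)
  set O := Cfsg.oddCore ↥C with hO
  set π := QuotientGroup.mk' O with hπ
  have hπ1 : ∀ x : ↥C, π x = 1 ↔ x ∈ O := fun x => QuotientGroup.eq_one_iff x
  have hsurj : Function.Surjective π := QuotientGroup.mk'_surjective O
  have hOodd : Odd (Nat.card O) := ZStar.odd_card_core
  -- the odd core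
  set U := O.map C.subtype with hU
  have hUodd : Odd (Nat.card U) := by rwa [hU, Subgroup.card_map_of_injective C.subtype_injective]
  have hUC : ∀ a ∈ U, a ∈ C := fun a ha => Subgroup.map_subtype_le O ha
  have hUO : ∀ (a : G) (ha : a ∈ C), a ∈ U ↔ (⟨a, ha⟩ : ↥C) ∈ O := fun a ha =>
    ⟨by rintro ⟨b, hb, rfl⟩; exact hb, fun hb => ⟨_, hb, rfl⟩⟩
  have hUn : ∀ g : G, Commute g t → ∀ a ∈ U, g * a * g⁻¹ ∈ U := by
    rintro g hg _ ⟨b, hb, rfl⟩
    exact ⟨_, (inferInstance : O.Normal).conj_mem b hb ⟨g, hmC.2 hg⟩, rfl⟩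
  have hUodd' : ∀ a ∈ U, Odd (orderOf a) := fun a ha => hUodd.of_dvd_nat (U.orderOf_dvd_natCard ha)
  have hnormC : C ≤ Subgroup.normalizer (U : Set G) := fun g hg =>
    PrimaryParts.mem_normalizer_of_conj_mem (hUn g (hmC.1 hg))
  have hnormS : (S₁ : Subgroup G) ≤ Subgroup.normalizer (U : Set G) := hS₁C.trans hnormC
  -- `U` is cyclic
  haveI : IsZGroup U := h.isZGroup hUodd
  have hcop : (Nat.card (S₁ : Subgroup G)).Coprime (Nat.card U) := by
    rw [d.card]
    exact (Nat.coprime_two_left.2 hUodd).pow_left _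
  have hUc : IsCyclic U := by
    have hcom : ⁅U, (S₁ : Subgroup G)⁆ = U := by
      have e := Coprime.commutator_sup_centralizer hnormS hcop (Or.inl (CIT.isSolvable_of_two S₁.2))
      have hb : U ⊓ Subgroup.centralizer ((S₁ : Subgroup G) : Set G) = ⊥ := by
        rw [eq_bot_iff]
        intro a ha
        exact Subgroup.mem_bot.2 (sd_cent_odd hna h S₁ hS₁ (hUodd' a ha.1) fun x hx =>
          (Subgroup.mem_centralizer_iff.1 ha.2 x hx : Commute x a))
      rwa [hb, sup_bot_eq] at e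
    set U' := (commutator U).map U.subtype with hU'
    haveI : IsCyclic (commutator U) := IsZGroup.isCyclic_commutator U
    haveI : IsCyclic U' := isCyclic_of_surjective
      ((commutator U).equivMapOfInjective U.subtype U.subtype_injective).toMonoidHom (MulEquiv.surjective _)
    have hU'n : ∀ g : G, g ∈ Subgroup.normalizer (U : Set G) → g ∈ Subgroup.normalizer (U' : Set G) := by
      intro g hg
      refine PrimaryParts.mem_normalizer_of_conj_mem fun w hw => ?_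
      have hU'eq : U' = ⁅U, U⁆ := by
        rw [hU', commutator_def, Subgroup.map_commutator, ← MonoidHom.range_eq_map, Subgroup.range_subtype]
      rw [hU'eq] at hw ⊢
      have hgU : U.map (MulAut.conj g).toMonoidHom ≤ U := by
        rintro _ ⟨a, ha, rfl⟩
        exact (Subgroup.mem_normalizer_iff.1 hg a).1 ha
      have h1 : g * w * g⁻¹ ∈ (⁅U, U⁆).map (MulAut.conj g).toMonoidHom := ⟨w, hw, rfl⟩
      rw [Subgroup.map_commutator] at h1
      exact Subgroup.commutator_mono hgU hgU h1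
    have hcenU : ∀ a ∈ U, ∀ x ∈ U', Commute a x := by
      have hle : U ≤ Subgroup.centralizer (U' : Set G) := by
        conv_lhs => rw [← hcom]
        rw [Subgroup.commutator_le]
        intro a ha s hs
        refine Subgroup.mem_centralizer_iff.2 fun x hx => ?_
        exact (commutator_commute inferInstance (hU'n a (Subgroup.le_normalizer ha))
          (hU'n s (hnormS hs)) hx).eq.symm
      exact fun a ha x hx => (Subgroup.mem_centralizer_iff.1 (hle ha) x hx).symm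
    have hker : (Abelianization.of (G := U)).ker ≤ Subgroup.center U := by
      rw [Abelianization.ker_of]
      intro x hx
      refine Subgroup.mem_center_iff.2 fun a => Subtype.ext ?_
      exact (hcenU a a.2 x ⟨x, hx, rfl⟩).eq
    haveI : IsCyclic (Abelianization U) := IsZGroup.isCyclic_abelianization
    haveI := (Abelianization.of (G := U)).isMulCommutative_of_isCyclic_of_ker_le_center hker
    open scoped IsMulCommutative in exact inferInstance
  have hUcomm : ∀ a ∈ U, ∀ b ∈ U, Commute a b := fun a ha b hb => by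
    haveI : IsMulCommutative U := IsCyclic.isMulCommutative
    exact congrArg Subtype.val (mul_comm' (⟨a, ha⟩ : U) ⟨b, hb⟩)
  -- the quotient
  let T : Sylow 2 (↥C ⧸ O) := (S₁.subtype hS₁C).mapSurjective hsurj
  have hT : ∀ x (hx : x ∈ (S₁ : Subgroup G)), π ⟨x, hS₁C hx⟩ ∈ (T : Subgroup (↥C ⧸ O)) := fun x hx => by
    rw [Sylow.coe_mapSurjective]
    exact Subgroup.mem_map_of_mem π hx
  let ρ : ↥(S₁ : Subgroup G) →* ↥(T : Subgroup (↥C ⧸ O)) :=
    { toFun := fun x => ⟨π ⟨x, hS₁C x.2⟩, hT x x.2⟩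
      map_one' := Subtype.ext (map_one π)
      map_mul' := fun x y => Subtype.ext (map_mul π ⟨x, hS₁C x.2⟩ ⟨y, hS₁C y.2⟩) }
  have hρinj : Function.Injective ρ := by
    refine (injective_iff_map_eq_one ρ).2 fun x hx => Subtype.ext ?_
    have h1 : (⟨x, hS₁C x.2⟩ : ↥C) ∈ O := (hπ1 _).1 (congrArg Subtype.val hx)
    exact eq_one_of_odd_of_mem_sylow (hUodd' x ((hUO x (hS₁C x.2)).2 h1)) x.2
  have hρsurj : Function.Surjective ρ := by
    rintro ⟨y, hy⟩
    rw [Sylow.coe_mapSurjective] at hy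
    obtain ⟨a, ha, rfl⟩ := hy
    exact ⟨⟨a, ha⟩, rfl⟩
  have hTqd : Cfsg.IsQuasiDihedral ↥(T : Subgroup (↥C ⧸ O)) := by
    let d' := d.mapEquiv (MulEquiv.ofBijective ρ ⟨hρinj, hρsurj⟩)
    exact ⟨n, d'.hn, d'.card, d'.x, d'.y, d'.hx, d'.hy, d'.hyx⟩
  set τ := π ⟨t, htC⟩ with hτ
  have hτ2 : orderOf τ = 2 := by
    rw [show τ = ((ρ ⟨t, htS⟩ : ↥(T : Subgroup (↥C ⧸ O))) : ↥C ⧸ O) from rfl, Subgroup.orderOf_coe,
      orderOf_injective ρ hρinj, ← Subgroup.orderOf_coe]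
    exact ht
  have hττ : τ * τ = 1 := by
    have e := pow_orderOf_eq_one τ
    rwa [hτ2, pow_two] at e
  have hτc : ∀ x, Commute τ x := fun x => by
    obtain ⟨⟨g, hg⟩, rfl⟩ := hsurj x
    exact (show Commute (⟨t, htC⟩ : ↥C) ⟨g, hg⟩ from Subtype.ext (hmC.1 hg).eq.symm).map π
  obtain ⟨k, ⟨e3, hk⟩, hkt, hkU⟩ := sd_exists_three hna ht htS hS₁C hS₁
  obtain ⟨hX48, hcard3, hcard4, hinv, hder⟩ := quot_facts (X := ↥C ⧸ O)
    (by haveI : Group.IsSolvable ↥C := hsol; exact solvable_of_surjective hsurj) Invol.oddCore_quotient_eq_bot T hTqd hτ2 (hT t htS) hτc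
    ⟨π ⟨k, hmC.2 hkt⟩, fun e => hkU U hUodd hUn ((hUO k _).2 ((hπ1 _).1 e)), by
      refine Odd.of_dvd_nat ?_ (orderOf_map_dvd π _)
      rw [← Subgroup.orderOf_coe]
      show Odd (orderOf k)
      rw [hk]
      exact Odd.pow (by decide)⟩
  have hcardC : Nat.card C = Nat.card O * 48 := by
    rw [← hX48, ← Subgroup.index_eq_card, Subgroup.card_mul_index]
  -- the involution `s`
  set s : G := (d.y : G) with hs
  have hsS : s ∈ (S₁ : Subgroup G) := d.y.2
  have hso : orderOf s = 2 := by rw [hs, Subgroup.orderOf_coe, d.hy]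
  have hss : s * s = 1 := by rw [← pow_two, ← hso, pow_orderOf_eq_one]
  have hsi : s⁻¹ = s := inv_eq_of_mul_eq_one_right hss
  have hs1 : s ≠ 1 := fun e => by rw [e, orderOf_one] at hso; omega
  have hsC : s ∈ C := hS₁C hsS
  have hst : Commute s t := hmC.1 hsC
  have hsne : s ≠ t := by
    intro e
    have hc : (⟨t, htS⟩ : ↥(S₁ : Subgroup G)) ∈ Subgroup.center ↥(S₁ : Subgroup G) :=
      Subgroup.mem_center_iff.2 fun x => Subtype.ext (hmC.1 (hS₁C x.2)).eq
    rw [d.center_eq] at hc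
    refine d.y_notMem ?_
    rw [show d.y = ⟨t, htS⟩ from Subtype.ext e]
    exact (Subgroup.zpowers_le.2 (Subgroup.zpow_mem_zpowers _ _)) hc
  set σ := π ⟨s, hsC⟩ with hσ
  have hσT : σ ∈ (T : Subgroup (↥C ⧸ O)) := hT s hsS
  have hσ2 : orderOf σ = 2 := by
    rw [show σ = ((ρ ⟨s, hsS⟩ : ↥(T : Subgroup (↥C ⧸ O))) : ↥C ⧸ O) from rfl, Subgroup.orderOf_coe,
      orderOf_injective ρ hρinj, ← Subgroup.orderOf_coe]
    exact hso
  have hστ : σ ≠ τ := fun e => hsne
    (congrArg Subtype.val (hρinj (a₁ := ⟨s, hsS⟩) (a₂ := ⟨t, htS⟩) (Subtype.ext e)))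
  -- the derived subgroup centralises `U`
  have hcU : ∀ (x : G) (hx : x ∈ C), π ⟨x, hx⟩ ∈ commutator (↥C ⧸ O) → ∀ a ∈ U, Commute x a := by
    intro x hx hxc a ha
    have hle : commutator ↥C ≤ (Subgroup.centralizer (U : Set G)).subgroupOf C := by
      rw [commutator_def, Subgroup.commutator_le]
      intro g _ g' _
      refine Subgroup.mem_subgroupOf.2 (Subgroup.mem_centralizer_iff.2 fun b hb => ?_)
      exact (commutator_commute hUc (hnormC g.2) (hnormC g'.2) hb).eq.symm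
    rw [commutator_def, ← Subgroup.map_top_of_surjective π hsurj, ← Subgroup.map_commutator] at hxc
    obtain ⟨c, hc, hcx⟩ := hxc
    have hcA : Commute (c : G) a :=
      (Subgroup.mem_centralizer_iff.1 (Subgroup.mem_subgroupOf.1 (hle (commutator_def ↥C ▸ hc))) a ha).symm
    have ho : c⁻¹ * ⟨x, hx⟩ ∈ O := (hπ1 _).1 (by rw [map_mul, map_inv, hcx, inv_mul_cancel])
    have hoU : (c : G)⁻¹ * x ∈ U := ⟨_, ho, rfl⟩
    have e := hcA.mul_left (hUcomm _ hoU a ha)
    rwa [mul_inv_cancel_left] at e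
  have hfixs : ∀ a ∈ U, Commute s a → a = 1 := by
    intro a ha hsa
    refine sd_cent_odd hna h S₁ hS₁ (hUodd' a ha) fun x hx => ?_
    rcases hder σ hσT hσ2 hστ _ (hT x hx) with hd | hd
    · exact hcU x (hS₁C hx) hd a ha
    · rw [hσ, ← map_mul] at hd
      have e := (hcU (x * s) (mul_mem (hS₁C hx) hsC) hd a ha).mul_left hsa
      rwa [mul_assoc, hss, mul_one] at e
  -- an element of order three inverted by `σ`
  obtain ⟨y, hy3, hσy⟩ := hinv σ hσT hσ2 hστ
  set w := y * τ with hw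
  have hyτ : Commute y τ := (hτc y).symm
  have hw6 : orderOf w = 6 := by
    rw [hw, hyτ.orderOf_mul_eq_mul_orderOf_of_coprime (by rw [hy3, hτ2]; norm_num), hy3, hτ2]
  have hσw : σ * w * σ⁻¹ = w⁻¹ := by
    rw [hw, show σ * (y * τ) * σ⁻¹ = (σ * y * σ⁻¹) * (σ * τ * σ⁻¹) by group, hσy,
      (hτc σ).symm.eq, mul_inv_cancel_right, mul_inv_rev, inv_eq_of_mul_eq_one_right hττ]
    exact (hτc y⁻¹).eq.symm
  have hWc : ∀ q : ↥C ⧸ O, orderOf q = 3 → q ∈ Subgroup.zpowers w →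
      Subgroup.centralizer ({q} : Set (↥C ⧸ O)) = Subgroup.zpowers w := by
    intro q hq hqw
    obtain ⟨i, rfl⟩ := hqw
    refine (Subgroup.eq_of_le_of_card_ge ?_ ?_).symm
    · rw [Subgroup.zpowers_le, Subgroup.mem_centralizer_singleton_iff]
      exact ((Commute.refl w).zpow_right i).eq
    · rw [Nat.card_zpowers, hw6]
      exact hcard3 _ hq
  -- lifts
  obtain ⟨⟨z₀, hz₀C⟩, hz₀⟩ := hsurj y
  have hz₀U : ∀ a ∈ U, Commute z₀ a := by
    intro a ha
    have h3 : z₀ ^ 3 ∈ U := (hUO _ (pow_mem hz₀C 3)).2 ((hπ1 _).1 (by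
      rw [show (⟨z₀ ^ 3, pow_mem hz₀C 3⟩ : ↥C) = ⟨z₀, hz₀C⟩ ^ 3 from rfl, map_pow, hz₀, ← hy3,
        pow_orderOf_eq_one]))
    have ho : s * z₀ * s⁻¹ * z₀ ∈ U :=
      (hUO _ (mul_mem (mul_mem (mul_mem hsC hz₀C) (inv_mem hsC)) hz₀C)).2 ((hπ1 _).1 (by
        rw [show (⟨s * z₀ * s⁻¹ * z₀, mul_mem (mul_mem (mul_mem hsC hz₀C) (inv_mem hsC)) hz₀C⟩ : ↥C) =
          ⟨s, hsC⟩ * ⟨z₀, hz₀C⟩ * ⟨s, hsC⟩⁻¹ * ⟨z₀, hz₀C⟩ from rfl, map_mul, map_mul, map_mul, map_inv,
          hz₀, ← hσ, hσy, inv_mul_cancel]))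
    set o := s * z₀ * s⁻¹ * z₀ with hodef
    have hb : ∀ x ∈ U, z₀ * x * z₀⁻¹ = z₀⁻¹ * x * z₀ := by
      intro x hx
      have hx' : s⁻¹ * x * s ∈ U := by simpa using hUn s⁻¹ hst.inv_left x hx
      have e := conj_comm_of_cyclic hUc (hnormC hsC) (hnormC hz₀C) hx'
      rw [show s * (s⁻¹ * x * s) * s⁻¹ = x by group] at e
      have hxc : z₀⁻¹ * x * z₀ ∈ U := by simpa using hUn z₀⁻¹ (hmC.1 hz₀C).inv_left x hx
      calc z₀ * x * z₀⁻¹ = s * (z₀ * (s⁻¹ * x * s) * z₀⁻¹) * s⁻¹ := e.symm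
        _ = o * (z₀⁻¹ * x * z₀) * o⁻¹ := by rw [hodef]; group
        _ = z₀⁻¹ * x * z₀ := by rw [(hUcomm o ho _ hxc).eq, mul_inv_cancel_right]
    have h2 : Commute (z₀ * z₀) a := by
      refine mul_inv_eq_iff_eq_mul.1 ?_
      rw [show z₀ * z₀ * a * (z₀ * z₀)⁻¹ = z₀ * (z₀ * a * z₀⁻¹) * z₀⁻¹ by group, hb a ha]
      group
    have e : z₀ = z₀ ^ 3 * (z₀ * z₀)⁻¹ := by rw [pow_succ, pow_two]; group
    rw [e]
    exact (hUcomm _ h3 a ha).mul_left h2.inv_left
  set w₀ : ↥C := ⟨z₀, hz₀C⟩ * ⟨t, htC⟩ with hw₀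
  have hw₀π : π w₀ = w := by rw [hw₀, map_mul, hz₀, ← hτ, ← hw]
  have hw₀U : ∀ a ∈ U, Commute (w₀ : G) a := fun a ha =>
    (hz₀U a ha).mul_left (hmC.1 (hUC a ha)).symm
  -- the subgroup `R`
  set R := ((Subgroup.zpowers w).comap π).map C.subtype with hR
  have hRC : R ≤ C := Subgroup.map_subtype_le _
  have hmR : ∀ (x : G) (hx : x ∈ C), x ∈ R ↔ π ⟨x, hx⟩ ∈ Subgroup.zpowers w := fun x hx =>
    ⟨by rintro ⟨b, hb, rfl⟩; exact hb, fun hb => ⟨_, hb, rfl⟩⟩
  have hform : ∀ x ∈ R, ∃ o ∈ U, ∃ i : ℤ, x = o * (w₀ : G) ^ i := by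
    intro x hx
    obtain ⟨i, hi⟩ := (hmR x (hRC hx)).1 hx
    replace hi : w ^ i = π ⟨x, hRC hx⟩ := hi
    refine ⟨x * ((w₀ : G) ^ i)⁻¹, ?_, i, by rw [inv_mul_cancel_right]⟩
    refine ⟨⟨x, hRC hx⟩ * (w₀ ^ i)⁻¹, (hπ1 _).1 ?_, ?_⟩
    · rw [map_mul, map_inv, map_zpow, hw₀π, hi, mul_inv_cancel]
    · simp
  have hRcomm : ∀ a ∈ R, ∀ b ∈ R, Commute a b := by
    intro a ha b hb
    obtain ⟨o, ho, i, rfl⟩ := hform a ha
    obtain ⟨o', ho', j, rfl⟩ := hform b hb
    exact ((hUcomm o ho o' ho').mul_right ((hw₀U o ho).zpow_left j).symm).mul_left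
      (((hw₀U o' ho').zpow_left i).mul_right (Commute.zpow_zpow_self _ i j))
  have hRs : ∀ x ∈ R, s * x * s⁻¹ ∈ R ∧ s * x * s⁻¹ = x⁻¹ := by
    intro x hx
    have hxC := hRC hx
    have hcx : s * x * s⁻¹ ∈ C := mul_mem (mul_mem hsC hxC) (inv_mem hsC)
    have hπx : π ⟨s * x * s⁻¹, hcx⟩ = (π ⟨x, hxC⟩)⁻¹ := by
      rw [show (⟨s * x * s⁻¹, hcx⟩ : ↥C) = ⟨s, hsC⟩ * ⟨x, hxC⟩ * ⟨s, hsC⟩⁻¹ from rfl, map_mul, map_mul,
        map_inv, ← hσ]
      obtain ⟨i, hi⟩ := (hmR x hxC).1 hx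
      replace hi : w ^ i = π ⟨x, hxC⟩ := hi
      rw [← hi, ← conj_zpow, hσw, inv_zpow]
    have hm : s * x * s⁻¹ ∈ R := (hmR _ hcx).2 (by rw [hπx]; exact inv_mem ((hmR x hxC).1 hx))
    refine ⟨hm, ?_⟩
    have hfU : x * (s * x * s⁻¹) ∈ U := (hUO _ (mul_mem hxC hcx)).2 ((hπ1 _).1 (by
      rw [show (⟨x * (s * x * s⁻¹), mul_mem hxC hcx⟩ : ↥C) = ⟨x, hxC⟩ * ⟨s * x * s⁻¹, hcx⟩ from rfl,
        map_mul, hπx, mul_inv_cancel]))
    have hf : Commute s (x * (s * x * s⁻¹)) := by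
      refine mul_inv_eq_iff_eq_mul.1 ?_
      rw [show s * (x * (s * x * s⁻¹)) * s⁻¹ = (s * x * s⁻¹) * ((s * s) * x * (s * s)⁻¹) by group, hss,
        one_mul, inv_one, mul_one]
      exact (hRcomm x hx _ hm).eq.symm
    exact eq_inv_of_mul_eq_one_right (hfixs _ hfU hf)
  have htR : t ∈ R := (hmR t htC).2 ⟨3, by
    show w ^ (3 : ℤ) = τ
    rw [show (3 : ℤ) = ((3 : ℕ) : ℤ) from rfl, zpow_natCast, hw, hyτ.mul_pow,
      show y ^ 3 = 1 from hy3 ▸ pow_orderOf_eq_one y, one_mul, pow_succ, pow_two, hττ, one_mul]⟩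
  have hRcard : Nat.card R = Nat.card O * 6 := by
    rw [hR, Subgroup.card_map_of_injective C.subtype_injective]
    have h1 := ((Subgroup.zpowers w).comap π).card_mul_index
    rw [Subgroup.index_comap_of_surjective _ hsurj, hcardC] at h1
    have h2 := (Subgroup.zpowers w).card_mul_index
    rw [Nat.card_zpowers, hw6, hX48] at h2
    rw [show (Subgroup.zpowers w).index = 8 by omega] at h1
    omega
  have hRinv : ∀ x ∈ R, x * x = 1 → x = 1 ∨ x = t := by
    intro x hx hxx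
    have hodd1 : ∀ v : G, v ∈ U → v * v = 1 → v = 1 := fun v hv hvv => by
      obtain ⟨l, hl⟩ := hUodd' v hv
      have h1 := pow_orderOf_eq_one v
      rwa [hl, pow_succ, pow_mul, pow_two, hvv, one_pow, one_mul] at h1
    obtain ⟨i, hi⟩ := (hmR x (hRC hx)).1 hx
    replace hi : w ^ i = π ⟨x, hRC hx⟩ := hi
    have h2 : w ^ (i + i) = 1 := by
      rw [zpow_add, hi, ← map_mul, show (⟨x, hRC hx⟩ : ↥C) * ⟨x, hRC hx⟩ = 1 from Subtype.ext hxx, map_one]
    rw [← orderOf_dvd_iff_zpow_eq_one, hw6] at h2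
    rcases Int.even_or_odd i with ⟨j, hj⟩ | ⟨j, hj⟩
    · left
      refine hodd1 x ((hUO x (hRC hx)).2 ((hπ1 _).1 ?_)) hxx
      rw [← hi, ← orderOf_dvd_iff_zpow_eq_one, hw6]
      omega
    · right
      have hxt : x * t ∈ U := by
        refine (hUO _ (mul_mem (hRC hx) htC)).2 ((hπ1 _).1 ?_)
        rw [show (⟨x * t, mul_mem (hRC hx) htC⟩ : ↥C) = ⟨x, hRC hx⟩ * ⟨t, htC⟩ from rfl, map_mul, ← hi,
          ← hτ]
        obtain ⟨i', hi'⟩ := (hmR t htC).1 htR
        replace hi' : w ^ i' = τ := hi'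
        have h3 : w ^ (i' + i') = 1 := by rw [zpow_add, hi', hττ]
        have h4 : ¬ w ^ i' = 1 := fun e => by
          rw [hi'] at e
          rw [e, orderOf_one] at hτ2
          omega
        rw [← orderOf_dvd_iff_zpow_eq_one, hw6] at h3 h4
        rw [← hi', ← zpow_add, ← orderOf_dvd_iff_zpow_eq_one, hw6]
        omega
      have e := hodd1 _ hxt (by
        rw [show x * t * (x * t) = x * (t * x) * t by group, (hRcomm t htR x hx).eq,
          ← mul_assoc x x t, hxx, one_mul, htt])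
      rw [← inv_eq_of_mul_eq_one_right htt]
      exact eq_inv_of_mul_eq_one_left e
  -- the 3-part of `R`
  obtain ⟨R3⟩ : Nonempty (Sylow 3 ↥R) := inferInstance
  obtain ⟨R3G, hR3G⟩ := (R3.2.map R.subtype).exists_le_sylow
  haveI := h 3 Nat.prime_three (by norm_num) R3G
  haveI : IsCyclic ((R3 : Subgroup ↥R).map R.subtype) := Subgroup.isCyclic_of_le hR3G
  obtain ⟨z, hz⟩ := Transfer.exists_zpowers_eq_of_isCyclic ((R3 : Subgroup ↥R).map R.subtype) inferInstance
  have hzR3 : z ∈ (R3 : Subgroup ↥R).map R.subtype := hz ▸ Subgroup.mem_zpowers z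
  have hzR : z ∈ R := Subgroup.map_subtype_le _ hzR3
  have hmem3 : ∀ x ∈ R, (∃ j, orderOf x = 3 ^ j) → x ∈ Subgroup.zpowers z := by
    intro x hx h3
    rw [← hz]
    refine ⟨⟨x, hx⟩, ?_, rfl⟩
    have hQ : IsPGroup 3 ↥((R3 : Subgroup ↥R) ⊔ Subgroup.zpowers ⟨x, hx⟩) := by
      refine R3.2.to_sup_of_normal_left' (Transfer.isPGroup_zpowers ?_) ?_
      · obtain ⟨j, hj⟩ := h3; exact ⟨j, by rw [Subgroup.orderOf_mk, hj]⟩
      · refine Subgroup.zpowers_le.2 (PrimaryParts.mem_normalizer_of_conj_mem fun b hb => ?_)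
        rwa [show (⟨x, hx⟩ : ↥R) * b * ⟨x, hx⟩⁻¹ = b from Subtype.ext (by
          show x * (b : G) * x⁻¹ = b
          rw [(hRcomm x hx b b.2).eq, mul_inv_cancel_right])]
    rw [← R3.is_maximal' hQ le_sup_left]
    exact Subgroup.mem_sup_right (Subgroup.mem_zpowers _)
  obtain ⟨a3, hza⟩ : ∃ j, orderOf z = 3 ^ j := by
    obtain ⟨b, hb, hbz⟩ := hzR3
    obtain ⟨j, hj⟩ := IsPGroup.iff_orderOf.1 R3.2 ⟨b, hb⟩
    rw [← Subgroup.orderOf_coe, ← Subgroup.orderOf_coe] at hj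
    exact ⟨j, by rw [← hbz]; exact hj⟩
  set πR : ↥R →* ↥C ⧸ O := π.comp (Subgroup.inclusion hRC) with hπR
  have hπRmem : ∀ x : ↥R, πR x ∈ Subgroup.zpowers w := fun x => (hmR x (hRC x.2)).1 x.2
  have hpart : ∀ x : ↥R, πR x ^ 2 ≠ 1 →
      ∃ m : ℕ, (x : G) ^ m ∈ Subgroup.zpowers z ∧ πR (x ^ m) ≠ 1 := by
    intro x hx
    obtain ⟨a, m, hm, -, -, hxm⟩ := Transfer.exists_pow_coprime_part (p := 3) (x : G)
    refine ⟨m, hmem3 _ (pow_mem x.2 m) ⟨a, hxm⟩, fun e => hx ?_⟩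
    rw [map_pow] at e
    have h6 : πR x ^ 6 = 1 := by
      obtain ⟨i, hi⟩ := hπRmem x
      replace hi : w ^ i = πR x := hi
      rw [← hi, ← zpow_natCast, ← zpow_mul, ← orderOf_dvd_iff_zpow_eq_one, hw6]
      exact ⟨i, by ring⟩
    have hg := pow_gcd_eq_one.2 ⟨e, h6⟩
    have hd : Nat.gcd m 6 ∣ 2 := by
      refine ((Nat.prime_three.coprime_iff_not_dvd.2 hm).symm.coprime_dvd_left
        (Nat.gcd_dvd_left m 6)).dvd_of_dvd_mul_right ?_
      exact Nat.gcd_dvd_right m 6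
    obtain ⟨c, hc⟩ := hd
    rw [show πR x ^ 2 = πR x ^ (Nat.gcd m 6 * c) from congrArg (πR x ^ ·) hc, pow_mul, hg, one_pow]
  set zR : ↥R := ⟨z, hzR⟩ with hzRdef
  have hzπ : orderOf (πR zR) = 3 := by
    have hw0R : (w₀ : G) ∈ R := (hmR _ w₀.2).2 (by rw [Subtype.coe_eta, hw₀π]; exact Subgroup.mem_zpowers w)
    obtain ⟨m, ⟨j, hj⟩, hne⟩ := hpart ⟨w₀, hw0R⟩ (by
      show π w₀ ^ 2 ≠ 1
      rw [hw₀π, ne_eq, ← orderOf_dvd_iff_pow_eq_one, hw6]
      omega)
    have hz1 : πR zR ≠ 1 := fun e => hne (by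
      rw [show (⟨w₀, hw0R⟩ : ↥R) ^ m = zR ^ j from Subtype.ext hj.symm, map_zpow, e, one_zpow])
    have hd6 : orderOf (πR zR) ∣ 6 := by
      rw [← hw6, ← Nat.card_zpowers w]
      exact Subgroup.orderOf_dvd_natCard _ (hπRmem zR)
    have hd3 : orderOf (πR zR) ∣ 3 ^ a3 := by
      refine (orderOf_map_dvd πR zR).trans ?_
      rw [← Subgroup.orderOf_coe, ← hza]
    obtain ⟨l, -, hl⟩ := (Nat.dvd_prime_pow Nat.prime_three).1 hd3
    rcases l with _ | _ | l
    · exact absurd (orderOf_eq_one_iff.1 hl) hz1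
    · simpa using hl
    · exfalso
      rw [hl] at hd6
      have := (Dvd.intro_left (3 ^ l) (show 3 ^ l * 9 = 3 ^ (l + 1 + 1) by ring)).trans hd6
      omega
  have ha3 : a3 ≠ 0 := fun e => by
    rw [e, pow_zero, orderOf_eq_one_iff] at hza
    have h1 : zR = 1 := Subtype.ext hza
    rw [h1, map_one, orderOf_one] at hzπ
    omega
  -- the centraliser of `z` in `C`
  have hCzC : ∀ x : G, Commute x t → Commute x z → x ∈ R := by
    intro x hxt hxz
    refine (hmR x (hmC.2 hxt)).2 (hWc _ hzπ (hπRmem zR) ▸ ?_)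
    refine Subgroup.mem_centralizer_singleton_iff.2 ?_
    exact ((show Commute (⟨x, hmC.2 hxt⟩ : ↥C) (Subgroup.inclusion hRC zR) from Subtype.ext hxz.eq).map π).eq
  set D := Subgroup.centralizer ({z} : Set G) with hD
  have hmD : ∀ {g : G}, g ∈ D ↔ Commute g z := Subgroup.mem_centralizer_singleton_iff
  have hRD : R ≤ D := fun x hx => hmD.2 (hRcomm x hx z hzR)
  have htD : t ∈ D := hRD htR
  -- a normal 2-complement
  obtain ⟨P2, hP2⟩ := (IsPGroup.of_card (p := 2) (G := Subgroup.zpowers (⟨t, htD⟩ : ↥D)) (n := 1)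
    (by rw [Nat.card_zpowers, Subgroup.orderOf_mk, ht, pow_one])).exists_le_sylow
  have htP2 : (⟨t, htD⟩ : ↥D) ∈ (P2 : Subgroup ↥D) := hP2 (Subgroup.mem_zpowers _)
  haveI : Nontrivial (P2 : Subgroup ↥D) :=
    ⟨⟨⟨_, htP2⟩, 1, fun e => ht1 (congrArg (fun v : (P2 : Subgroup ↥D) => ((v : ↥D) : G)) e)⟩⟩
  haveI := P2.2.center_nontrivial
  obtain ⟨j2, hj2⟩ := IsPGroup.iff_card.1 (P2.2.to_subgroup (Subgroup.center (P2 : Subgroup ↥D)))
  obtain ⟨c₂, hc₂⟩ := exists_prime_orderOf_dvd_card' (G := Subgroup.center (P2 : Subgroup ↥D)) 2 (by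
    rw [hj2]; refine dvd_pow_self 2 fun e => ?_
    have := Finite.one_lt_card (α := Subgroup.center (P2 : Subgroup ↥D))
    rw [hj2, e] at this
    simp at this)
  set c : G := (((c₂ : (P2 : Subgroup ↥D)) : ↥D) : G) with hc
  have hcc : ∀ p ∈ (P2 : Subgroup ↥D), Commute (p : G) c := fun p hp =>
    congrArg (fun v : (P2 : Subgroup ↥D) => ((v : ↥D) : G)) (Subgroup.mem_center_iff.1 c₂.2 ⟨p, hp⟩)
  have hco : orderOf c = 2 := by rw [hc, Subgroup.orderOf_coe, Subgroup.orderOf_coe, Subgroup.orderOf_coe, hc₂]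
  have hct : c = t := by
    refine (hRinv c (hCzC c (hcc _ htP2).symm (hmD.1 ((c₂ : (P2 : Subgroup ↥D)) : ↥D).2)) ?_).resolve_left ?_
    · rw [← pow_two, ← hco, pow_orderOf_eq_one]
    · intro e; rw [e, orderOf_one] at hco; omega
  have hP2card : Nat.card (P2 : Subgroup ↥D) = 2 := by
    have hle : (P2 : Subgroup ↥D).map D.subtype ≤ R := by
      rintro _ ⟨p, hp, rfl⟩
      exact hCzC _ (hct ▸ hcc p hp) (hmD.1 p.2)
    obtain ⟨j, hj⟩ := IsPGroup.iff_card.1 P2.2
    have hd : 2 ^ j ∣ Nat.card O * 6 := by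
      rw [← hRcard, ← hj, ← Subgroup.card_map_of_injective D.subtype_injective]
      exact Subgroup.card_dvd_of_le hle
    have hd2 : 2 ^ j ∣ 2 := by
      rw [show Nat.card O * 6 = (Nat.card O * 3) * 2 by ring] at hd
      exact ((Nat.coprime_two_left.2 (hOodd.mul (by decide))).pow_left j).dvd_of_dvd_mul_left hd
    have h1 := Finite.one_lt_card (α := (P2 : Subgroup ↥D))
    rw [hj] at h1 ⊢
    have := Nat.le_of_dvd two_pos hd2
    omega
  haveI : IsCyclic (P2 : Subgroup ↥D) := isCyclic_of_prime_card hP2card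
  obtain ⟨Q2, K₀, hK₀n, hK₀⟩ := ZStar.hasNormalPComplement_of_cyclic P2 inferInstance
  have hK₀i : K₀.index = 2 := by
    rw [hK₀.symm.index_eq_card, Q2.card_eq_multiplicity, ← P2.card_eq_multiplicity, hP2card]
  have hK₀odd : Odd (Nat.card K₀) := by
    rw [← hK₀.index_eq_card]
    exact Nat.odd_iff.2 (Nat.two_dvd_ne_zero.1 Q2.not_dvd_index)
  set K := K₀.map D.subtype with hK
  have hKodd : Odd (Nat.card K) := by rwa [hK, Subgroup.card_map_of_injective D.subtype_injective]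
  have hKodd' : ∀ x ∈ K, Odd (orderOf x) := fun x hx => hKodd.of_dvd_nat (K.orderOf_dvd_natCard hx)
  have hKD : K ≤ D := Subgroup.map_subtype_le _
  have hKmem : ∀ x : G, Commute x z → Odd (orderOf x) → x ∈ K := by
    intro x hxz hx
    refine ⟨⟨x, hmD.2 hxz⟩, ?_, rfl⟩
    obtain ⟨l, hl⟩ := hx
    have e : (⟨x, hmD.2 hxz⟩ : ↥D) = (⟨x, hmD.2 hxz⟩ * ⟨x, hmD.2 hxz⟩) ^ (l + 1) := Subtype.ext (by
      show x = (x * x) ^ (l + 1)
      rw [← pow_two, ← pow_mul, show 2 * (l + 1) = orderOf x + 1 by omega, pow_succ, pow_orderOf_eq_one,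
        one_mul])
    rw [e]
    exact pow_mem (Subgroup.mul_self_mem_of_index_two hK₀i _) _
  have hKn : ∀ g : G, (g * z * g⁻¹ = z ∨ g * z * g⁻¹ = z⁻¹) → ∀ x ∈ K, g * x * g⁻¹ ∈ K := by
    intro g hg x hx
    have h1 : Commute (g * x * g⁻¹) (g * z * g⁻¹) := (hmD.1 (hKD hx)).conj g
    refine hKmem _ ?_ ?_
    · rcases hg with e | e <;> rw [e] at h1
      · exact h1
      · simpa using h1.inv_right
    · rw [← MulAut.conj_apply, MulEquiv.orderOf_eq]
      exact hKodd' x hx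
  have hsz : s * z * s⁻¹ = z⁻¹ := (hRs z hzR).2
  have htz : t * z * t⁻¹ = z := by rw [(hRcomm t htR z hzR).eq, mul_inv_cancel_right]
  obtain ⟨V, hV, hsV, htV, hVmem⟩ := exists_four hso ht hst hsne
  have hV2 : IsPGroup 2 V := IsPGroup.of_card (n := 2) (by rw [hV.card_four]; norm_num)
  have hVK : V ≤ Subgroup.normalizer (K : Set G) := by
    intro v hv
    refine PrimaryParts.mem_normalizer_of_conj_mem (hKn v ?_)
    rcases hVmem v hv with rfl | rfl | rfl | rfl
    · left; simp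
    · exact Or.inr hsz
    · exact Or.inl htz
    · right; rw [show s * t * z * (s * t)⁻¹ = s * (t * z * t⁻¹) * s⁻¹ by group, htz, hsz]
  have hVcop : (Nat.card V).Coprime (Nat.card K) := by
    rw [hV.card_four, show (4 : ℕ) = 2 ^ 2 from rfl]
    exact (Nat.coprime_two_left.2 hKodd).pow_left 2
  have hKC : K ≤ C := by
    suffices hdvd : Nat.card K ∣ Nat.card ↥(K ⊓ C) by
      exact (Subgroup.eq_of_le_of_card_ge (inf_le_left : K ⊓ C ≤ K)
        (Nat.le_of_dvd Nat.card_pos hdvd)).symm.le.trans inf_le_right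
    rw [Nat.dvd_iff_prime_pow_dvd_dvd]
    intro p j hp hpj
    rcases Nat.eq_zero_or_pos j with rfl | hj0
    · simp
    haveI := Fact.mk hp
    have hpK : p ∣ Nat.card K := (dvd_pow_self p hj0.ne').trans hpj
    have hp2 : p ≠ 2 := fun e => hKodd.not_two_dvd_nat (e ▸ hpK)
    obtain ⟨P, hP⟩ := Coprime.exists_invariant_sylow hVK hVcop (Or.inl (CIT.isSolvable_of_two hV2)) p
    set PG := (P : Subgroup K).map K.subtype with hPG
    have hPK : PG ≤ K := Subgroup.map_subtype_le _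
    obtain ⟨RG, hRG⟩ := (P.2.map K.subtype).exists_le_sylow
    haveI := h p hp hp2 RG
    haveI hPc : IsCyclic PG := Subgroup.isCyclic_of_le hRG
    suffices hPC : PG ≤ C by
      refine dvd_trans ?_ (Subgroup.card_dvd_of_le (le_inf hPK hPC))
      rw [hPG, Subgroup.card_map_of_injective K.subtype_injective, P.card_eq_multiplicity]
      exact pow_dvd_pow p ((hp.pow_dvd_iff_le_factorization Nat.card_pos.ne').1 hpj)
    -- an element of order `p`
    have hpP : p ∣ Nat.card PG := by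
      rw [hPG, Subgroup.card_map_of_injective K.subtype_injective]
      exact P.dvd_card_of_dvd_card hpK
    obtain ⟨⟨v, hvP⟩, hv⟩ := exists_prime_orderOf_dvd_card' (G := PG) p hpP
    rw [Subgroup.orderOf_mk] at hv
    have hgen : ∀ x ∈ PG, x ^ p = 1 → x ∈ Subgroup.zpowers v := fun x hx hxp =>
      mem_zpowers_of_cyclic RG (h p hp hp2 RG) (hRG hvP) hv (hRG hx) hxp
    have hnormv : ∀ g ∈ V, g * v * g⁻¹ ∈ Subgroup.zpowers v := by
      intro g hg
      refine hgen _ ((Subgroup.mem_normalizer_iff.1 (hP hg) v).1 hvP) ?_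
      rw [conj_pow, ← hv, pow_orderOf_eq_one, mul_one, mul_inv_cancel]
    rcases invol_on_prime hp hv htt (hnormv t htV) with htv | htv
    · intro x hx
      have htfix : ∀ x ∈ PG, x ^ p = 1 → t * x * t⁻¹ = x := fun x hx hxp => by
        obtain ⟨i, hi⟩ := hgen x hx hxp
        rw [← hi]
        show t * v ^ i * t⁻¹ = v ^ i
        rw [(htv.zpow_right i).eq, mul_inv_cancel_right]
      have e := PPrimeAbelian.commute_of_fix_omega (P.2.map K.subtype) IsCyclic.isMulCommutative (hP htV)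
        (by rw [ht]; exact (Nat.coprime_two_left.2 (hp.odd_of_ne_two hp2))) htfix x hx
      exact hmC.2 (show Commute t x from mul_inv_eq_iff_eq_mul.1 e).symm
    exfalso
    obtain ⟨s', hs'o, hs'v⟩ : ∃ s' : G, orderOf s' = 2 ∧ Commute s' v := by
      rcases invol_on_prime hp hv hss (hnormv s hsV) with hsv | hsv
      · exact ⟨s, hso, hsv⟩
      · refine ⟨s * t, ?_, ?_⟩
        · refine orderOf_eq_prime ?_ fun e => hsne ?_
          · rw [hst.mul_pow, pow_two, pow_two, hss, htt, one_mul]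
          · rw [← inv_eq_of_mul_eq_one_right htt]
            exact eq_inv_of_mul_eq_one_left e
        · refine mul_inv_eq_iff_eq_mul.1 ?_
          rw [show s * t * v * (s * t)⁻¹ = s * (t * v * t⁻¹) * s⁻¹ by group, htv,
            show s * v⁻¹ * s⁻¹ = (s * v * s⁻¹)⁻¹ by group, hsv, inv_inv]
    obtain ⟨g, hg⟩ := isConj_iff.1 (sd_invol_conj hna S hS hs'o ht)
    have hpC : p ∣ Nat.card C := by
      have hgv : g * v * g⁻¹ ∈ C := hmC.2 (hg ▸ (hs'v.conj g).symm)
      have h1 := Subgroup.orderOf_dvd_natCard C hgv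
      rwa [← MulAut.conj_apply, MulEquiv.orderOf_eq, hv] at h1
    have hpR : p ∣ Nat.card R := by
      rw [hRcard]
      rw [hcardC, show (48 : ℕ) = 6 * 2 ^ 3 by norm_num, ← mul_assoc] at hpC
      exact (hp.dvd_mul.1 hpC).resolve_right fun e =>
        hp2 ((Nat.prime_dvd_prime_iff_eq hp Nat.prime_two).1 (hp.dvd_of_dvd_pow e))
    obtain ⟨⟨v', hv'R⟩, hv'⟩ := exists_prime_orderOf_dvd_card' (G := R) p hpR
    rw [Subgroup.orderOf_mk] at hv'
    have hv'K : v' ∈ K := hKmem v' (hRcomm v' hv'R z hzR) (hv' ▸ hp.odd_of_ne_two hp2)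
    obtain ⟨P', hP'⟩ := (IsPGroup.of_card (p := p) (G := Subgroup.zpowers (⟨v', hv'K⟩ : K)) (n := 1)
      (by rw [Nat.card_zpowers, Subgroup.orderOf_mk, hv', pow_one])).exists_le_sylow
    obtain ⟨c', hc'⟩ := MulAction.exists_smul_eq K P' P
    have hcv : (c' : G) * v' * (c' : G)⁻¹ ∈ PG := by
      refine ⟨c' * ⟨v', hv'K⟩ * c'⁻¹, ?_, rfl⟩
      rw [← hc', Sylow.coe_subgroup_smul]
      exact ⟨_, hP' (Subgroup.mem_zpowers _), rfl⟩
    obtain ⟨i, hi⟩ := hgen _ hcv (by rw [conj_pow, ← hv', pow_orderOf_eq_one, mul_one, mul_inv_cancel])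
    replace hi : v ^ i = (c' : G) * v' * (c' : G)⁻¹ := hi
    set t' := (c' : G) * t * (c' : G)⁻¹ with ht'
    have ht'v : Commute t' v := by
      have h1 : Commute t' (v ^ i) := by rw [hi]; exact (hRcomm t htR v' hv'R).conj (c' : G)
      have hvi : v ∈ Subgroup.zpowers (v ^ i) := by
        have e : Subgroup.zpowers (v ^ i) = Subgroup.zpowers v := by
          refine Subgroup.eq_of_le_of_card_ge (Subgroup.zpowers_le.2 (Subgroup.zpow_mem_zpowers v i)) ?_
          rw [Nat.card_zpowers, Nat.card_zpowers, hi, ← MulAut.conj_apply, MulEquiv.orderOf_eq, hv, hv']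
        exact e ▸ Subgroup.mem_zpowers v
      obtain ⟨l, hl⟩ := hvi
      exact hl ▸ h1.zpow_right l
    have hgK : t * t' ∈ K := by
      rw [ht', ← mul_assoc, ← mul_assoc]
      refine mul_mem ?_ (inv_mem c'.2)
      have e := hKn t (Or.inl htz) c' c'.2
      rwa [inv_eq_of_mul_eq_one_right htt] at e
    have hinvv : t * t' * v * (t * t')⁻¹ = v⁻¹ := by
      rw [show t * t' * v * (t * t')⁻¹ = t * (t' * v * t'⁻¹) * t⁻¹ by group, ht'v.eq,
        mul_inv_cancel_right, htv]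
    have hvv := sq_eq_one_of_odd_inverts (hKodd' _ hgK) hinvv
    refine hp2 ((Nat.prime_dvd_prime_iff_eq hp Nat.prime_two).1 ?_)
    rw [← hv]
    exact orderOf_dvd_of_pow_eq_one (by rw [pow_two, hvv])
  have hDR : ∀ x : G, Commute x z → x ∈ R := by
    intro x hx
    by_cases hxK : (⟨x, hmD.2 hx⟩ : ↥D) ∈ K₀
    · exact hCzC x (hmC.1 (hKC ⟨_, hxK, rfl⟩)) hx
    · have htK : (⟨t, htD⟩ : ↥D) ∉ K₀ := fun e => by
        have h1 := hKodd' t ⟨_, e, rfl⟩
        rw [ht] at h1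
        exact absurd h1 (by decide)
      have h2 : x * t ∈ C := hKC ⟨⟨x, hmD.2 hx⟩ * ⟨t, htD⟩,
        (Subgroup.mul_mem_iff_of_index_two hK₀i).2 (iff_of_false hxK htK), rfl⟩
      refine hCzC x (hmC.1 ?_) hx
      have := mul_mem h2 htC
      rwa [mul_assoc, htt, mul_one] at this
  -- the automizer of `⟨z⟩`
  have hnormz : ∀ g : G, g * z * g⁻¹ ∈ Subgroup.zpowers z → g ∈ R ∨ s * g ∈ R := by
    intro g hg
    obtain ⟨x₃, x', hgx, hx₃g, -, ⟨a', hx₃⟩, hx'⟩ := PPrimeAbelian.exists_split Nat.prime_three g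
    set N := Subgroup.normalizer ((Subgroup.zpowers z : Subgroup G) : Set G) with hN
    have hgN : g ∈ N := PrimaryParts.mem_normalizer_of_conj_mem (by
      rintro _ ⟨i, rfl⟩
      show g * z ^ i * g⁻¹ ∈ Subgroup.zpowers z
      rw [← conj_zpow]
      exact zpow_mem hg i)
    have hx₃N : x₃ ∈ N := (Subgroup.zpowers_le.2 hgN) hx₃g
    have hp3 : IsPGroup 3 ↥(Subgroup.zpowers z ⊔ Subgroup.zpowers x₃) :=
      (Transfer.isPGroup_zpowers ⟨a3, hza⟩).to_sup_of_normal_left' (Transfer.isPGroup_zpowers ⟨a', hx₃⟩)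
        (Subgroup.zpowers_le.2 hx₃N)
    obtain ⟨Z3, hZ3⟩ := hp3.exists_le_sylow
    haveI := h 3 Nat.prime_three (by norm_num) Z3
    have hx₃z : Commute x₃ z := by
      haveI : IsMulCommutative (Z3 : Subgroup G) := IsCyclic.isMulCommutative
      exact congrArg Subtype.val (mul_comm'
        (⟨x₃, hZ3 (Subgroup.mem_sup_right (Subgroup.mem_zpowers _))⟩ : (Z3 : Subgroup G))
        ⟨z, hZ3 (Subgroup.mem_sup_left (Subgroup.mem_zpowers _))⟩)
    obtain ⟨i, hi⟩ := hg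
    replace hi : g * z * g⁻¹ = z ^ i := hi.symm
    have hx'z : x' * z * x'⁻¹ = z ^ i := by
      rw [show x' = x₃⁻¹ * g by rw [hgx]; group,
        show x₃⁻¹ * g * z * (x₃⁻¹ * g)⁻¹ = x₃⁻¹ * (g * z * g⁻¹) * x₃ by group, hi]
      calc x₃⁻¹ * z ^ i * x₃ = z ^ i * x₃⁻¹ * x₃ := by rw [((hx₃z.inv_left).zpow_right i).eq]
        _ = z ^ i := inv_mul_cancel_right _ _
    have h1 : z ^ (i ^ orderOf x') = z ^ (1 : ℤ) := by
      rw [← Transfer.conj_pow_eq_zpow hx'z, pow_orderOf_eq_one, zpow_one]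
      group
    rw [zpow_eq_zpow_iff_modEq, hza, ← ZMod.intCast_eq_intCast_iff] at h1
    push_cast at h1
    have hu := IsUnit.of_pow_eq_one h1 (orderOf_pos x').ne'
    have h1' : hu.unit ^ orderOf x' = 1 := Units.ext (by rw [Units.val_pow_eq_pow_val]; exact h1)
    have hg2 := pow_gcd_eq_one.2 ⟨h1', ZMod.pow_totient hu.unit⟩
    have hd : Nat.gcd (orderOf x') (3 ^ a3).totient ∣ 2 := by
      rw [Nat.totient_prime_pow Nat.prime_three (Nat.pos_of_ne_zero ha3)]
      refine Nat.Coprime.dvd_of_dvd_mul_left ?_ (Nat.gcd_dvd_right _ _)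
      exact (hx'.coprime_dvd_left (Nat.gcd_dvd_left _ _)).pow_right _
    obtain ⟨c', hc'⟩ := hd
    have h2 : ((i : ZMod (3 ^ a3))) ^ 2 = 1 := by
      have e := congrArg Units.val (show hu.unit ^ 2 = 1 by rw [hc', pow_mul, hg2, one_pow])
      simpa using e
    have h3 : ((3 ^ a3 : ℕ) : ℤ) ∣ (i - 1) * (i + 1) := by
      rw [← ZMod.intCast_zmod_eq_zero_iff_dvd]
      push_cast
      linear_combination h2
    push_cast at h3
    by_cases h4 : (3 : ℤ) ∣ i - 1
    · left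
      refine hDR g (mul_inv_eq_iff_eq_mul.1 (hi.trans ?_))
      conv_rhs => rw [← zpow_one z]
      rw [← orderOf_dvd_sub_iff_zpow_eq_zpow, hza]
      push_cast
      refine IsCoprime.dvd_of_dvd_mul_right ?_ h3
      refine IsCoprime.pow_left ((Nat.prime_iff_prime_int.1 Nat.prime_three).coprime_iff_not_dvd.2 ?_)
      push_cast
      omega
    · right
      refine hDR (s * g) (mul_inv_eq_iff_eq_mul.1 ?_)
      have e : z ^ i = z⁻¹ := by
        rw [← zpow_neg_one, ← orderOf_dvd_sub_iff_zpow_eq_zpow, hza, sub_neg_eq_add]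
        push_cast
        refine IsCoprime.dvd_of_dvd_mul_left ?_ h3
        refine IsCoprime.pow_left ((Nat.prime_iff_prime_int.1 Nat.prime_three).coprime_iff_not_dvd.2 ?_)
        push_cast
        exact h4
      rw [show s * g * z * (s * g)⁻¹ = s * (g * z * g⁻¹) * s⁻¹ by group, hi, e,
        show s * z⁻¹ * s⁻¹ = (s * z * s⁻¹)⁻¹ by group, hsz, inv_inv]
  -- the family
  have h6card : Nat.card ↥(Subgroup.zpowers w) = Nat.card ↥(rootsOfUnity 6 ℂ) := by
    rw [Nat.card_zpowers, hw6, Complex.card_rootsOfUnity]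
  let e6 : ↥(Subgroup.zpowers w) ≃* ↥(rootsOfUnity 6 ℂ) := mulEquivOfCyclicCardEq h6card
  let χ : ↥(Subgroup.zpowers w) →* ℂˣ :=
    { toFun := fun q => (e6 q : ℂˣ) * (e6 q : ℂˣ)
      map_one' := by simp
      map_mul' := fun q q' => by rw [map_mul, Subgroup.coe_mul, mul_mul_mul_comm] }
  let om : ↥R →* ℂˣ := χ.comp (πR.codRestrict _ hπRmem)
  have hom : ∀ x : ↥R, om x = 1 ↔ πR x ^ 2 = 1 := by
    intro x
    set q : ↥(Subgroup.zpowers w) := πR.codRestrict _ hπRmem x with hq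
    have e1 : om x = ((e6 (q ^ 2) : ↥(rootsOfUnity 6 ℂ)) : ℂˣ) := by
      rw [map_pow, pow_two]; rfl
    rw [e1, OneMemClass.coe_eq_one, MulEquiv.map_eq_one_iff]
    exact ⟨fun e => congrArg Subtype.val e, fun e => Subtype.ext e⟩
  have hgen3 : ∀ x : ↥R, om x ≠ 1 → z ∈ Subgroup.zpowers (x : G) := by
    intro x hx
    obtain ⟨m, hm, hne⟩ := hpart x (fun e => hx ((hom x).2 e))
    rw [← (isOfFinOrder_of_finite z).mem_powers_iff_mem_zpowers] at hm
    obtain ⟨j, hj⟩ := hm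
    replace hj : z ^ j = (x : G) ^ m := hj
    have h3j : ¬ 3 ∣ j := by
      rintro ⟨l, rfl⟩
      apply hne
      rw [show x ^ m = zR ^ (3 * l) from Subtype.ext (by push_cast; exact hj.symm), map_pow, pow_mul,
        ← hzπ, pow_orderOf_eq_one, one_pow]
    have e : Subgroup.zpowers (z ^ j) = Subgroup.zpowers z := by
      refine Subgroup.eq_of_le_of_card_ge (Subgroup.zpowers_le.2 (Subgroup.npow_mem_zpowers z j)) ?_
      rw [Nat.card_zpowers, Nat.card_zpowers, Nat.Coprime.orderOf_pow]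
      rw [hza]
      exact (Nat.prime_three.coprime_iff_not_dvd.2 h3j).pow_left a3
    exact (Subgroup.zpowers_le.2 (Subgroup.npow_mem_zpowers (x : G) m)) (hj ▸ e ▸ Subgroup.mem_zpowers z)
  let F₂ : Family G :=
    { M := R
      om := om
      r := s
      r_sq := hss
      r_notMem := fun hsR => (hRinv s hsR hss).elim hs1 hsne
      r_mem := fun x hx => (hRs x hx).1
      om_r := fun x => by
        rw [show (⟨s * x * s⁻¹, (hRs x x.2).1⟩ : ↥R) = x⁻¹ from Subtype.ext (hRs x x.2).2, map_inv]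
      exists_sq_ne := ⟨zR, fun e => by
        rw [← map_pow, hom, map_pow, ← pow_mul, ← orderOf_dvd_iff_pow_eq_one, hzπ] at e
        omega⟩
      ti := fun g x x' hx _ e => by
        refine hnormz g (hmem3 _ ?_ ⟨a3, by rw [← MulAut.conj_apply, MulEquiv.orderOf_eq, hza]⟩)
        obtain ⟨i, hi⟩ := hgen3 x hx
        rw [← hi]
        show g * (x : G) ^ i * g⁻¹ ∈ R
        rw [← conj_zpow, e]
        exact zpow_mem x'.2 i
      om_invol := fun x hx => (hom x).2 (by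
        rw [← map_pow, pow_two, show x * x = 1 from Subtype.ext hx, map_one])
      not_inverted := fun i x hx _ e => hx ((hom x).2 (by
        rw [(hRcomm i i.2 x x.2).eq, mul_inv_cancel_right] at e
        rw [← map_pow, pow_two, show x * x = 1 from Subtype.ext (eq_inv_iff_mul_eq_one.1 e), map_one])) }
  obtain ⟨x, F₁, hx4, hF₁x, hF4, hpos, hhalf⟩ := exists_sigma hna S₁ hS₁
  refine false_of_families hna ht (fun v hv => sd_invol_conj hna S hS ht hv) F₁ F₂ hF4 ?_ hpos hhalf ?_ ?_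
  · intro v hv hv4
    have hd := Subgroup.orderOf_dvd_natCard _ hv
    change orderOf v ∣ Nat.card R at hd
    rw [hv4, hRcard, show Nat.card O * 6 = Nat.card O * 3 * 2 by ring] at hd
    obtain ⟨c', hc'⟩ := hOodd.mul (show Odd 3 by decide)
    omega
  · intro v hv
    show s * v * (s * v) = 1
    have e := (hRs v hv).2
    rw [hsi] at e
    rw [← mul_assoc, e, inv_mul_cancel]
  · show Nat.card F₁.M < 2 * Nat.card R
    have hxx : orderOf (x * x) = 2 := by
      rw [← pow_two, orderOf_pow, hx4]; rfl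
    obtain ⟨g, hg⟩ := isConj_iff.1 (sd_invol_conj hna S hS hxx ht)
    set x' := g * x * g⁻¹ with hx'
    have hx't : x' * x' = t := by rw [← hg, hx']; group
    have hx'C : x' ∈ C := hmC.2 (by rw [← hx't]; exact (Commute.refl x').mul_right (Commute.refl x'))
    set q := π ⟨x', hx'C⟩ with hq
    have hqq : q * q = τ := by
      rw [hq, hτ, ← map_mul]; exact congrArg π (Subtype.ext hx't)
    have hq4 : orderOf q = 4 := by
      refine orderOf_eq_prime_pow (p := 2) (n := 1) ?_ ?_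
      · rw [pow_one, pow_two, hqq]
        intro e
        rw [e, orderOf_one] at hτ2
        omega
      · rw [show 2 ^ (1 + 1) = 2 * 2 from rfl, pow_mul, pow_two q, hqq, pow_two, hττ]
    set A := ((Subgroup.centralizer ({q} : Set (↥C ⧸ O))).comap π).map C.subtype with hA
    have hAcard : Nat.card A ≤ 8 * Nat.card O := by
      rw [hA, Subgroup.card_map_of_injective C.subtype_injective]
      have h1 := ((Subgroup.centralizer ({q} : Set (↥C ⧸ O))).comap π).card_mul_index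
      rw [Subgroup.index_comap_of_surjective _ hsurj, hcardC,
        show 48 = Nat.card (↥C ⧸ O) from hX48.symm,
        ← (Subgroup.centralizer ({q} : Set (↥C ⧸ O))).card_mul_index, ← mul_assoc] at h1
      rw [Nat.eq_of_mul_eq_mul_right (Nat.pos_of_ne_zero Subgroup.index_ne_zero_of_finite) h1,
        mul_comm 8]
      exact Nat.mul_le_mul_left _ (hcard4 q hq4)
    have hle : Nat.card F₁.M ≤ Nat.card A := by
      refine Nat.card_le_card_of_injective (fun v : F₁.M => (⟨g * v * g⁻¹, ?_⟩ : A)) ?_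
      · have hvx : Commute (v : G) x := Subgroup.mem_centralizer_singleton_iff.1 (hF₁x v.2)
        have h1 : Commute (g * v * g⁻¹) x' := hvx.conj g
        have hC' : g * v * g⁻¹ ∈ C := hmC.2 (by rw [← hx't]; exact h1.mul_right h1)
        refine ⟨⟨_, hC'⟩, ?_, rfl⟩
        exact Subgroup.mem_centralizer_singleton_iff.2
          ((show Commute (⟨_, hC'⟩ : ↥C) ⟨x', hx'C⟩ from Subtype.ext h1.eq).map π).eq
      · intro v v' e
        exact Subtype.ext (mul_left_cancel (mul_right_cancel (congrArg Subtype.val e)))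
    have := hOodd.pos
    rw [hRcard]
    omega

end CfsgLib.SuzukiCyclic
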