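import Cfsg.Agent.Lib.SuzukiCyclic.SemiCent
import Cfsg.Agent.Lib.SuzukiCyclic.SemiSolvable
import Cfsg.Agent.Lib.SuzukiCyclic.SemiNonsolvable

/-!
# No simple group with cyclic odd Sylow subgroups has a semidihedral Sylow 2-subgroup
-/

set_option autoImplicit false
set_option linter.unusedSectionVars false

universe u

namespace CfsgLib.SuzukiCyclic

open Cfsg CfsgLib

variable {G : Type u} [Group G] [Finite G]

/-- A simple group in which every Sylow subgroup of odd order is cyclic has no semidihedral Sylow
2-subgroup. -/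
theorem no_semidihedral [IsSimpleGroup G] (hna : ¬ IsMulCommutative G) (h : OddCyclic G)
    (ih : SmallerShape G) (S : Sylow 2 G) (hS : Cfsg.IsQuasiDihedral ↥(S : Subgroup G)) : False := by
  classical
  haveI : Fact (Nat.Prime 2) := ⟨Nat.prime_two⟩
  obtain ⟨n, -, hcard, -⟩ := id hS
  obtain ⟨t, ht⟩ := exists_prime_orderOf_dvd_card' (G := G) 2
    (((dvd_pow_self 2 n.succ_ne_zero).trans hcard.symm.dvd).trans (Subgroup.card_subgroup_dvd_card _))
  by_cases hsol : Group.IsSolvable ↥(Subgroup.centralizer ({t} : Set G))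
  · exact semidihedral_solvable hna h S hS ht hsol
  · obtain ⟨d⟩ := sd_cent_data hna h ih S hS ht hsol
    exact false_of_centData hna h ih S hS ht d

end CfsgLib.SuzukiCyclic
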